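import Cfsg.Agent.Invol.ZStar

/-! An isolated involution gives `G = C(z) O(G)`. -/

set_option autoImplicit false

namespace Cfsg.Agent.Fi24Cent

theorem centralizer_sup_oddCore {G : Type*} [Group G] [Finite G] {z : G}
    (hiso : Cfsg.IsIsolatedInvolution z) :
    Subgroup.centralizer ({z} : Set G) ⊔ Cfsg.oddCore G = ⊤ := by
  have hord := hiso.1
  refine eq_top_iff.2 fun g _ => ?_
  set o := g * z * g⁻¹ * z⁻¹ with ho
  have hoO : o ∈ Cfsg.oddCore G := by
    have := inv_mem (Invol.zstar hiso g)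
    rwa [show (z * g * z⁻¹ * g⁻¹)⁻¹ = g * z * g⁻¹ * z⁻¹ by group] at this
  have hinv : z * o * z⁻¹ = o⁻¹ := by
    rw [ho, Invol.inv_eq_self hord]
    simp only [mul_inv_rev, inv_inv, Invol.inv_eq_self hord, mul_assoc, Invol.mul_self_eq_one hord,
      mul_one]
  obtain ⟨k, hk⟩ : ∃ k : ℕ, o ^ (2 * k) = o := by
    have hodd : Odd (orderOf o) := by
      have hd : orderOf o ∣ Nat.card (Cfsg.oddCore G) := by
        rw [← Subgroup.orderOf_mk o hoO]; exact orderOf_dvd_natCard _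
      exact Odd.of_dvd_nat (Nat.coprime_two_right.mp (Core.coprime_card_pPrimeCore (p := 2))) hd
    obtain ⟨m, hm⟩ := hodd
    exact ⟨m + 1, by rw [show 2 * (m + 1) = orderOf o + 1 by omega, pow_succ, pow_orderOf_eq_one, one_mul]⟩
  have hc : (o ^ k)⁻¹ * g ∈ Subgroup.centralizer ({z} : Set G) := by
    rw [Subgroup.mem_centralizer_singleton_iff]
    have hgt : g * z = o * z * g := by rw [ho]; group
    have hkt : z * (o ^ k)⁻¹ = o ^ k * z := by
      have h : z * o ^ k * z⁻¹ = (o ^ k)⁻¹ := by rw [← conj_pow, hinv, inv_pow]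
      rw [← h, Invol.inv_eq_self hord]
      simp only [← mul_assoc, Invol.mul_self_eq_one hord, one_mul]
    calc (o ^ k)⁻¹ * g * z = (o ^ k)⁻¹ * o * (z * g) := by rw [mul_assoc, hgt]; group
      _ = (o ^ k)⁻¹ * o ^ (2 * k) * (z * g) := by rw [hk]
      _ = o ^ k * z * g := by rw [two_mul, pow_add, inv_mul_cancel_left, mul_assoc]
      _ = z * ((o ^ k)⁻¹ * g) := by rw [← hkt]; group
  have e : g = o ^ k * ((o ^ k)⁻¹ * g) := by group
  rw [e]
  exact mul_mem (Subgroup.mem_sup_right (pow_mem hoO k)) (Subgroup.mem_sup_left hc)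

end Cfsg.Agent.Fi24Cent
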