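import Cfsg.Agent.Fi24Cent.Setting

/-! The preimage of `3.U₄(3)` lies in every normal subgroup of index two. -/

set_option autoImplicit false
set_option maxRecDepth 20000
set_option Elab.async false

open Cfsg Cfsg.Agent Cfsg.Agent.LargeFischer

namespace Cfsg.Agent.Fi24Cent

theorem scalar_split : ∀ p : W4, ∃ q : W4, omk 1 q + q = p := by decide +kernel

variable {G : Type*} [Group G] [Finite G] {z : G}
  {Q : Subgroup (Subgroup.centralizer ({z} : Set G))} [Q.Normal]

theorem K_le_of_index_two (D : Cent z Q) {M : Subgroup (Subgroup.centralizer ({z} : Set G))} [M.Normal]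
    (hQM : Q ≤ M) (hMK : M ≤ D.K) (hM3 : Nat.card ↥M = 3 * Nat.card ↥Q)
    {L : Type} [Field L] [Fintype L] (hL : Fintype.card L = 9)
    (e : (↥D.K ⧸ M.subgroupOf D.K) ≃* PSU 4 L 3)
    (G0 : Subgroup G) (hi : G0.index = 2) : ∀ k ∈ D.K, (k : G) ∈ G0 := by
  have : G0.Normal := Subgroup.normal_of_index_eq_two hi
  have hsq : ∀ g : G, g * g ∈ G0 := fun g => (Subgroup.mul_mem_iff_of_index_two hi).2 Iff.rfl
  have hcomm : ∀ a b : G, a * b * a⁻¹ * b⁻¹ ∈ G0 := fun a b => by
    simp only [Subgroup.mul_mem_iff_of_index_two hi, inv_mem_iff]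
    tauto
  obtain ⟨m, -, -, hm⟩ := D.exists_scalar
  -- `Q`
  have hQ : ∀ q ∈ Q, (q : G) ∈ G0 := by
    have hz : z ∈ G0 := by
      obtain ⟨u, hu⟩ : ∃ u : Q, u * u ≠ 1 := by
        refine ⟨lift D.F (Pi.single 0 (1, 0)), fun h => ?_⟩
        have := (sq_iff D.b D.F (mk_lift D.F _)).1 h
        revert this
        decide +kernel
      rcases (center_iff D.b).1 (sq_mem D.b u) with h | h
      · exact absurd h hu
      · have h' : ((u : Subgroup.centralizer ({z} : Set G)) : G) * u = z := congrArg Subtype.val h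
        exact h' ▸ hsq _
    intro q hq
    obtain ⟨v, hv⟩ := D.F.bij.2 ((⟨q, hq⟩ : Q) : ↥Q ⧸ Subgroup.center ↥Q)
    choose w hw using fun i => scalar_split (v i)
    have h1 : ((MulAut.conjNormal m (lift D.F w) * lift D.F w : Q) : ↥Q ⧸ Subgroup.center ↥Q) = D.F.co v := by
      rw [QuotientGroup.mk_mul, ← actV_mk, mk_lift, ← co_cact, hm, ← D.F.map_add]
      congr 1
      funext i
      exact hw i
    obtain ⟨c, hc, he⟩ : ∃ c ∈ Subgroup.center ↥Q,
        (⟨q, hq⟩ : Q) = MulAut.conjNormal m (lift D.F w) * lift D.F w * c :=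
      ⟨(MulAut.conjNormal m (lift D.F w) * lift D.F w)⁻¹ * ⟨q, hq⟩,
        QuotientGroup.eq.1 (h1.trans hv), (mul_inv_cancel_left _ _).symm⟩
    have he' := congrArg (fun x : Q => ((x : Subgroup.centralizer ({z} : Set G)) : G)) he
    simp only [Subgroup.coe_mul, MulAut.conjNormal_apply, Subgroup.coe_inv] at he'
    rw [he']
    refine G0.mul_mem ?_ ?_
    · set a := ((lift D.F w : Subgroup.centralizer ({z} : Set G)) : G)
      rw [show (m : G) * a * (m : G)⁻¹ * a = (m : G) * a * (m : G)⁻¹ * a⁻¹ * (a * a) by group]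
      exact G0.mul_mem (hcomm _ _) (hsq a)
    · rcases (center_iff D.b).1 hc with h | h
      · rw [h]; exact G0.one_mem
      · rw [h]; exact hz
  have hM : ∀ x ∈ M, (x : G) ∈ G0 := by
    intro x hx
    have h3 : x * x * x ∈ Q := by
      have hidx : (Q.subgroupOf M).index = 3 := by
        have h := (Q.subgroupOf M).card_mul_index
        rw [Nat.card_congr (Subgroup.subgroupOfEquivOfLe hQM).toEquiv, hM3, mul_comm 3] at h
        exact Nat.eq_of_mul_eq_mul_left Nat.card_pos h
      have h := (Q.subgroupOf M).pow_index_mem (⟨x, hx⟩ : M)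
      rw [hidx, Subgroup.mem_subgroupOf] at h
      simpa [pow_succ] using h
    have h := hQ _ h3
    simp only [Subgroup.coe_mul] at h
    exact (G0.mul_mem_cancel_left (hsq (x : G))).1 h
  have hsimple : IsSimpleGroup (↥D.K ⧸ M.subgroupOf D.K) := by
    have := Classical.isSimpleGroup_psu (F := L) (q := 3) (by rw [hL]; norm_num) 4 (by norm_num) (by norm_num)
    exact e.isSimpleGroup
  set N : Subgroup ↥D.K := (G0.subgroupOf (Subgroup.centralizer ({z} : Set G))).subgroupOf D.K with hN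
  have : N.Normal := inferInstance
  have hMN : M.subgroupOf D.K ≤ N := fun x hx => hM _ hx
  rcases hsimple.eq_bot_or_eq_top_of_normal (N.map (QuotientGroup.mk' (M.subgroupOf D.K)))
      (Subgroup.Normal.map inferInstance _ (QuotientGroup.mk'_surjective _)) with h | h
  · exfalso
    have hall : ∀ p : ↥D.K ⧸ M.subgroupOf D.K, p * p = 1 := by
      intro p
      obtain ⟨x, rfl⟩ := QuotientGroup.mk_surjective p
      exact Subgroup.mem_bot.1 (h ▸ Subgroup.mem_map.2 ⟨x * x, hsq _, rfl⟩)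
    have hab := comm_of_two hall
    haveI : IsMulCommutative (↥D.K ⧸ M.subgroupOf D.K) := ⟨⟨hab⟩⟩
    letI : CommGroup (↥D.K ⧸ M.subgroupOf D.K) :=
      { (inferInstance : Group (↥D.K ⧸ M.subgroupOf D.K)) with mul_comm := hab }
    have hp := IsSimpleGroup.prime_card (α := ↥D.K ⧸ M.subgroupOf D.K)
    have hcard : Nat.card (↥D.K ⧸ M.subgroupOf D.K) = 3265920 := by
      have h := (M.subgroupOf D.K).card_mul_index
      rw [Nat.card_congr (Subgroup.subgroupOfEquivOfLe hMK).toEquiv, hM3, D.card_K, D.b.card,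
        Subgroup.index_eq_card] at h
      omega
    rw [hcard] at hp
    exact Nat.not_prime_of_dvd_of_lt (m := 2) (by norm_num) (by norm_num) (by norm_num) hp
  · intro k hk
    obtain ⟨x, hx, hxk⟩ := h.ge (Subgroup.mem_top (QuotientGroup.mk (⟨k, hk⟩ : D.K)))
    have h1 : (⟨k, hk⟩ : D.K) ∈ N := by
      rw [show (⟨k, hk⟩ : D.K) = x * (x⁻¹ * ⟨k, hk⟩) by group]
      exact N.mul_mem hx (hMN (QuotientGroup.eq.1 hxk))
    exact h1

end Cfsg.Agent.Fi24Cent
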