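import Cfsg.Agent.Fi24Cent.Defs
import Cfsg.Agent.MonsterFischer.Generic
import Cfsg.Agent.Layer.PConstraint
import Cfsg.Agent.LargeExtra.SingularSubgroup

/-! The centraliser in a subgroup of index two. -/

set_option autoImplicit false
set_option maxRecDepth 20000
set_option Elab.async false

open Cfsg Cfsg.Agent Cfsg.Agent.LargeFischer

namespace Cfsg.Agent.Fi24Cent

theorem pCore_eq_of_basic {G : Type*} [Group G] [Finite G] {z : G}
    {Q : Subgroup (Subgroup.centralizer ({z} : Set G))} [Q.Normal] (b : Basic z Q) :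
    pCore 2 ↥(Subgroup.centralizer ({z} : Set G)) = Q := by
  refine le_antisymm ?_ (Core.le_pCore b.es.1.1)
  calc pCore 2 _ ≤ fittingSubgroup _ := Core.pCore_le_fittingSubgroup 2
    _ ≤ generalizedFittingSubgroup _ := Layer.fitting_le_generalizedFitting
    _ = Q := b.fstar

/-- The large Fischer type of a subgroup of index two. -/
theorem largeType_subgroup {G : Type*} [Group G] [Finite G] {z : G}
    {Q : Subgroup (Subgroup.centralizer ({z} : Set G))} [Q.Normal] (b : Basic z Q)
    {M K : Subgroup (Subgroup.centralizer ({z} : Set G))} [M.Normal] [K.Normal]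
    (hQM : Q ≤ M) (hMK : M ≤ K) (hM3 : Nat.card ↥M = 3 * Nat.card ↥Q)
    {L : Type} [Field L] [Fintype L] (hL : Fintype.card L = 9)
    (e : (↥K ⧸ M.subgroupOf K) ≃* PSU 4 L 3) (hK : K.index = 4)
    (G0 : Subgroup G) [G0.Normal] (hi : G0.index = 2) (hKG : ∀ k ∈ K, (k : G) ∈ G0)
    {t : Subgroup.centralizer ({z} : Set G)} (ht : (t : G) ∉ G0) (hnw : ¬ Weak z Q) :
    ∃ (z0 : ↥G0) (Q0 : Subgroup (Subgroup.centralizer ({z0} : Set ↥G0))) (_ : Q0.Normal),
      IsOfLargeFischerTypeAt z0 Q0 ∧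
      (generalizedFittingSubgroup ↥(Subgroup.centralizer ({(z0 : G)} : Set G))).map (Subgroup.subtype _) =
        ((Q0.map (Subgroup.subtype _)).map G0.subtype) := by
  have : Fact (Nat.Prime 2) := ⟨Nat.prime_two⟩
  have hQK : Q ≤ K := hQM.trans hMK
  have hz0 : z ∈ G0 := hKG _ (hQK (zc_mem b))
  set z0 : ↥G0 := ⟨z, hz0⟩ with hz0d
  let ι : Subgroup.centralizer ({z0} : Set ↥G0) →* Subgroup.centralizer ({z} : Set G) :=
    { toFun := fun x => ⟨((x : ↥G0) : G), Subgroup.mem_centralizer_singleton_iff.2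
        (congrArg Subtype.val (Subgroup.mem_centralizer_singleton_iff.1 x.2))⟩
      map_one' := rfl
      map_mul' := fun _ _ => rfl }
  have hinj : Function.Injective ι := fun a c h =>
    Subtype.ext (Subtype.ext (congrArg (fun x : Subgroup.centralizer ({z} : Set G) => (x : G)) h))
  have hrange : ∀ h, h ∈ ι.range ↔ (h : G) ∈ G0 := by
    intro h
    constructor
    · rintro ⟨x, rfl⟩; exact (x : ↥G0).2
    · exact fun hh => ⟨⟨⟨h, hh⟩, Subgroup.mem_centralizer_singleton_iff.2
        (Subtype.ext (Subgroup.mem_centralizer_singleton_iff.1 h.2))⟩, rfl⟩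
  have hKr : K ≤ ι.range := fun k hk => (hrange k).2 (hKG k hk)
  have hQr : Q ≤ ι.range := hQK.trans hKr
  have hRi : ι.range.index = 2 := by
    rw [Subgroup.index_eq_two_iff]
    refine ⟨t, fun c => ?_⟩
    rw [hrange, hrange, Subgroup.coe_mul, Subgroup.mul_mem_iff_of_index_two hi]
    by_cases hc : (c : G) ∈ G0
    · exact Or.inr ⟨hc, fun h => ht (h.1 hc)⟩
    · exact Or.inl ⟨⟨fun h => absurd h hc, fun h => absurd h ht⟩, hc⟩
  have : ι.range.Normal := Subgroup.normal_of_index_eq_two hRi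
  set Q0 := Q.comap ι with hQ0
  have : Q0.Normal := inferInstance
  have hQ0map : Q0.map ι = Q := Subgroup.map_comap_eq_self hQr
  -- the 2-core
  have hcore : pCore 2 ↥(Subgroup.centralizer ({z0} : Set ↥G0)) = Q0 := by
    have h1 : (pCore 2 ↥(Subgroup.centralizer ({z0} : Set ↥G0))).map ι = Q := by
      have h2 := Core.map_pCore (p := 2) (MonoidHom.ofInjective hinj)
      have h3 := Core.map_pCore_normal (p := 2) ι.range
      rw [pCore_eq_of_basic b, inf_eq_left.2 hQr, ← h2, Subgroup.map_map] at h3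
      exact h3
    rw [hQ0, ← h1, Subgroup.comap_map_eq_self_of_injective hinj]
  have hfstar : generalizedFittingSubgroup ↥(Subgroup.centralizer ({z0} : Set ↥G0)) = Q0 := by
    rw [← hcore]
    refine Layer.generalizedFitting_eq_pCore_iff.2 ?_
    show Subgroup.centralizer _ ≤ _
    rw [hcore]
    intro c hc
    refine cent_le b fun q hq => ?_
    obtain ⟨x, rfl⟩ := hQr hq
    rw [← map_mul, ← map_mul, Subgroup.mem_centralizer_iff.1 hc x hq]
  have eQ : ↥Q0 ≃* ↥Q := (Q0.equivMapOfInjective ι hinj).trans (MulEquiv.subgroupCongr hQ0map)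
  have hQ0c : Nat.card ↥Q0 = 2 ^ 13 := (Nat.card_congr eQ.toEquiv).trans b.card
  have hset : IsExtraspecialCentralizerSetting z0 Q0 6 := by
    refine ⟨by rw [hz0d, Subgroup.orderOf_mk, b.hz], hfstar, LargeExtra.extraspecial_congr eQ.symm b.es, hQ0c, ?_⟩
    unfold Weak at hnw
    push Not at hnw
    obtain ⟨g, q, hgq, hgz⟩ := hnw
    obtain ⟨g', hg', hconj⟩ : ∃ g' ∈ G0, g' * z * g'⁻¹ = g * z * g⁻¹ := by
      by_cases hg : g ∈ G0
      · exact ⟨g, hg, rfl⟩
      · refine ⟨g * (t : G), (Subgroup.mul_mem_iff_of_index_two hi).2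
          ⟨fun h => absurd h hg, fun h => absurd h ht⟩, ?_⟩
        have h := Subgroup.mem_centralizer_singleton_iff.1 t.2
        calc g * (t : G) * z * (g * (t : G))⁻¹ = g * ((t : G) * z * (t : G)⁻¹) * g⁻¹ := by group
          _ = g * z * g⁻¹ := by rw [h, mul_inv_cancel_right]
    refine ⟨⟨g', hg'⟩, ⟨?_, ?_⟩, fun h => hgz ?_⟩
    · refine Subgroup.mem_centralizer_singleton_iff.2 (Subtype.ext ?_)
      show g' * z * g'⁻¹ * z = z * (g' * z * g'⁻¹)
      rw [hconj, hgq]
      exact Subgroup.mem_centralizer_singleton_iff.1 q.1.2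
    · show ι _ ∈ Q
      convert q.2 using 1
      exact Subtype.ext (show g' * z * g'⁻¹ = _ from hconj.trans hgq)
    · rw [← hconj]
      exact congrArg Subtype.val h
  set N0 := M.comap ι
  set K0 := K.comap ι
  have hN0map : N0.map ι = M := Subgroup.map_comap_eq_self (hMK.trans hKr)
  have hK0map : K0.map ι = K := Subgroup.map_comap_eq_self hKr
  let eK : ↥K0 ≃* ↥K := (K0.equivMapOfInjective ι hinj).trans (MulEquiv.subgroupCongr hK0map)
  have heK : (N0.subgroupOf K0).map eK.toMonoidHom = M.subgroupOf K := by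
    ext ⟨k, hk⟩
    constructor
    · rintro ⟨x, hx, hxk⟩
      rw [← hxk]
      exact hx
    · intro hm
      obtain ⟨x, hx, hxk⟩ := hK0map.ge hk
      subst hxk
      exact ⟨⟨x, hx⟩, hm, rfl⟩
  refine ⟨z0, Q0, inferInstance, ⟨hset, N0, K0, inferInstance, inferInstance, Subgroup.comap_mono hQM,
    Subgroup.comap_mono hMK, ?_, ⟨L, inferInstance, inferInstance, hL,
      ⟨(QuotientGroup.congr _ _ eK heK).trans e⟩⟩, ?_⟩, ?_⟩
  · rw [hQ0c, ← Subgroup.card_map_of_injective hinj, hN0map, hM3, b.card]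
  · rw [Subgroup.index_comap]
    have h := Subgroup.relIndex_mul_index hKr
    rw [hRi, hK] at h
    omega
  · show (generalizedFittingSubgroup ↥(Subgroup.centralizer ({z} : Set G))).map (Subgroup.subtype _) = _
    rw [b.fstar]
    conv_lhs => rw [← hQ0map]
    rw [Subgroup.map_map, Subgroup.map_map]
    rfl

end Cfsg.Agent.Fi24Cent
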