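import Cfsg.Agent.Fi24Cent.Omega
import Cfsg.Agent.Fi24Cent.Sub
import Cfsg.Agent.Fi24Cent.Perfect
import Cfsg.Agent.Fi24Cent.Isolation
import Cfsg.Agent.Fi24Rec.Main
import Cfsg.Agent.MonsterFischer.Iso

/-! The three cases. -/

set_option autoImplicit false
set_option maxRecDepth 20000
set_option Elab.async false

open Cfsg Cfsg.Agent Cfsg.Agent.LargeFischer

namespace Cfsg.Agent.Fi24Cent

variable {G : Type*} [Group G] [Finite G] {z : G}
  {Q : Subgroup (Subgroup.centralizer ({z} : Set G))} [Q.Normal]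

/-- The conclusion, given the properties of the centraliser. -/
theorem assemble (D : Cent z Q) {M : Subgroup (Subgroup.centralizer ({z} : Set G))} [M.Normal]
    (hQM : Q ≤ M) (hMK : M ≤ D.K) (hM3 : Nat.card ↥M = 3 * Nat.card ↥Q)
    {L : Type} [Field L] [Fintype L] (hL : Fintype.card L = 9)
    (e : (↥D.K ⧸ M.subgroupOf D.K) ≃* PSU 4 L 3) (hq : Quot D) (hn : NoConjA D)
    (hK : ∀ (g : G) (s : Subgroup.centralizer ({z} : Set G)), g * z * g⁻¹ = (s : G) →
      256 ≤ (D.fix s).card → s ∈ D.K)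
    (hiso : (∀ (g : G) (h : Subgroup.centralizer ({z} : Set G)), g * z * g⁻¹ = (h : G) →
      D.IsLin h → h ∈ D.K) → Weak z Q → ∀ g : G, g * z * g⁻¹ ∈ Subgroup.centralizer ({z} : Set G) →
        g * z * g⁻¹ = z)
    (hone : ¬ Weak z Q → D.K.index ≠ 1) :
    Subgroup.centralizer ({z} : Set G) ⊔ oddCore G = ⊤ ∨
      (D.K.index = 2 ∧ Spor.IsoFi24' G) ∨
      (D.K.index = 4 ∧ (∀ h, h * h ∈ D.K) ∧ Nonempty (G ≃* Spor.Fi24)) := by
  have := D.norm
  by_cases hw : Weak z Q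
  · left
    refine centralizer_sup_oddCore ⟨D.b.hz, fun g hg => hiso ?_ hw g
      (Subgroup.mem_centralizer_singleton_iff.2 hg.eq.symm)⟩
    intro g h hgh hl
    by_contra hh
    obtain ⟨G0, hG0n, hi, t, htl, htn, htG⟩ := exists_half hn hq hK ⟨h, hl, hh⟩
    have hKG := K_le_of_index_two D hQM hMK hM3 hL e G0 hi
    have hz0 : z ∈ G0 := hKG _ (D.le (zc_mem D.b))
    have hhG : (h : G) ∈ G0 := hgh ▸ hG0n.conj_mem z hz0 g
    have hth : (t : G) * h ∈ G0 := hKG _ (hq.lin_two t h htl hl htn hh)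
    exact htG ((Subgroup.mul_mem_cancel_right G0 hhG).1 hth)
  right
  rcases hq.index with h1 | h2 | h4
  · exact absurd h1 (hone hw)
  · left
    refine ⟨h2, ?_⟩
    have hw' := hw
    unfold Weak at hw'
    push Not at hw'
    obtain ⟨g, q, hgq, hgz⟩ := hw'
    have hmem : g * z * g⁻¹ ∈ Subgroup.centralizer ({z} : Set G) := hgq ▸ q.1.2
    exact Fi24Rec.iso_of_largeFischer (z := z) (Q₀ := Q)
      ⟨⟨D.b.hz, D.b.fstar, D.b.es, D.b.card, g, ⟨hmem, by
        rw [show (⟨g * z * g⁻¹, hmem⟩ : Subgroup.centralizer ({z} : Set G)) = q from Subtype.ext hgq]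
        exact q.2⟩, hgz⟩, M, D.K, inferInstance, D.norm, hQM, hMK, hM3,
        ⟨L, inferInstance, inferInstance, hL, ⟨e⟩⟩, h2⟩
  · right
    refine ⟨h4, hq.sq, ?_⟩
    have hL' : ∃ h, D.IsLin h ∧ h ∉ D.K := by
      by_contra hno
      push Not at hno
      have := hq.anti_index hno
      omega
    obtain ⟨G0, hG0n, hi, t, -, -, htG⟩ := exists_half hn hq hK hL'
    obtain ⟨z0, Q0, hQ0n, hF, hFX⟩ := largeType_subgroup D.b hQM hMK hM3 hL e h4 G0 hi
      (K_le_of_index_two D hQM hMK hM3 hL e G0 hi) htG hw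
    obtain ⟨f⟩ := MonsterFischer.m24_iso hi hF (MonsterFischer.central_in_sylow hF.1) hFX
    exact ⟨f.symm⟩

end Cfsg.Agent.Fi24Cent
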