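import Cfsg.Agent.LargeFischer.Orbits
import Cfsg.Agent.LargeExtra.Singular

/-! An involution centraliser containing an extraspecial group of order 2^13 under `3.U₄(3)`. -/

set_option autoImplicit false
set_option maxRecDepth 20000
set_option Elab.async false

open Finset Cfsg Cfsg.Agent Cfsg.Agent.LargeFischer

namespace Cfsg.Agent.Fi24Cent

variable {G : Type*} [Group G] [Finite G] {z : G}
  {Q : Subgroup (Subgroup.centralizer ({z} : Set G))} [Q.Normal]

/-- The data of the centraliser: the subgroup `K` over `3.U₄(3)` with its frame and orbits. -/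
structure Cent (z : G) (Q : Subgroup (Subgroup.centralizer ({z} : Set G))) [Q.Normal] where
  b : Basic z Q
  /-- the preimage of `3.U₄(3)` -/
  K : Subgroup (Subgroup.centralizer ({z} : Set G))
  norm : K.Normal
  le : Q ≤ K
  cardK : Nat.card ↥(K.map (actV Q)) = 9797760
  /-- the frame -/
  F : Frame6 (actV Q) K
  /-- the parameter of the two orbits -/
  c : ZMod 3
  orb_iff : ∀ v : Vec6, v ≠ 0 → par v = 0 → ∀ w : Vec6,
    w ∈ orb F v ↔ (w ≠ 0 ∧ par w = 0 ∧ (InA c w ↔ InA c v))

namespace Cent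

variable (D : Cent z Q)
include D

/-- Elements acting linearly over the field with four elements. -/
def IsLin (h : Subgroup.centralizer ({z} : Set G)) : Prop :=
  ∀ v, cact D.F h (dg (fun _ => 1) v) = dg (fun _ => 1) (cact D.F h v)

/-- Elements acting semilinearly with the field automorphism. -/
def IsAnti (h : Subgroup.centralizer ({z} : Set G)) : Prop :=
  ∀ v, cact D.F h (dg (fun _ => 1) v) = dg (fun _ => 2) (cact D.F h v)

/-- The vectors fixed by an element. -/
noncomputable def fix (h : Subgroup.centralizer ({z} : Set G)) : Finset Vec6 := by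
  classical exact univ.filter fun v => cact D.F h v = v

theorem mem_fix {h : Subgroup.centralizer ({z} : Set G)} {v : Vec6} :
    v ∈ D.fix h ↔ cact D.F h v = v := by
  simp [fix]

/-- Every involution of `K / Q` fixes a space of dimension eight. -/
def InnerFix : Prop :=
  ∀ h ∈ D.K, h ∉ Q → h * h ∈ Q → (D.fix h).card = 256

end Cent

/-- What is known about the quotient by `K`. -/
structure Quot (D : Cent z Q) : Prop where
  index : D.K.index = 1 ∨ D.K.index = 2 ∨ D.K.index = 4
  sq : ∀ h, h * h ∈ D.K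
  semi : ∀ h, D.IsLin h ∨ D.IsAnti h
  lin_two : ∀ g h, D.IsLin g → D.IsLin h → g ∉ D.K → h ∉ D.K → g * h ∈ D.K
  anti_index : (∀ h, D.IsLin h → h ∈ D.K) → D.K.index ≤ 2
  transvection : (∃ h, D.IsLin h ∧ h ∉ D.K) → ∃ t, t * t = 1 ∧ D.IsLin t ∧ t ∉ D.K ∧
    (∀ v, cact D.F t v = pm (Equiv.swap 0 1) v) ∧
    ∀ (q : Q) (v : Vec6), (q : ↥Q ⧸ Subgroup.center ↥Q) = D.F.co v → v 0 = v 1 →
      v 2 = 0 ∨ v 2 = (1, 0) → (q : Subgroup.centralizer ({z} : Set G)) * t = t * q

/-- No conjugate of `z` in `Q` lies over a vector of the first class. -/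
def NoConjA (D : Cent z Q) : Prop :=
  ∀ (g : G) (x : Q) (v : Vec6), g * z * g⁻¹ = ((x : Subgroup.centralizer ({z} : Set G)) : G) →
    (x : ↥Q ⧸ Subgroup.center ↥Q) = D.F.co v → v ≠ 0 → par v = 0 → ¬InA D.c v

end Cfsg.Agent.Fi24Cent

namespace Cfsg.Agent.Fi24Cent

variable {G : Type*} [Group G] [Finite G]

/-- `z` is the only conjugate of itself in `Q`. -/
def Weak (z : G) (Q : Subgroup (Subgroup.centralizer ({z} : Set G))) : Prop :=
  ∀ (g : G) (q : Q), g * z * g⁻¹ = ((q : Subgroup.centralizer ({z} : Set G)) : G) → g * z * g⁻¹ = z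

end Cfsg.Agent.Fi24Cent
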