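import Cfsg.Agent.Fi24Cent.Defs
import Cfsg.Agent.LargeFischer.Setup
import Cfsg.Agent.Layer.PConstraint

/-!
The data of the centraliser from its subgroup over `3.U₄(3)`, of any index: the frame and the two
orbits, as for large Fischer type, with the order of the subgroup for its index.
-/

set_option autoImplicit false
set_option maxRecDepth 20000
set_option Elab.async false
set_option maxHeartbeats 2000000

open Finset Cfsg Cfsg.Agent Cfsg.Agent.LargeFischer

namespace Cfsg.Agent.Fi24Cent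

variable {G : Type*} [Group G] [Finite G] {z : G}
  {Q : Subgroup (Subgroup.centralizer ({z} : Set G))} [Q.Normal]

/-- The frame of the subgroup over `3.U₄(3)`. -/
theorem exists_frame (b : Basic z Q) {N M : Subgroup (Subgroup.centralizer ({z} : Set G))}
    [hNn : N.Normal] [hMn : M.Normal] (hQN : Q ≤ N) (hNM : N ≤ M)
    (hNc : Nat.card ↥N = 3 * Nat.card ↥Q)
    (e : ↥M ⧸ N.subgroupOf M ≃* PSU 4 U33.F9 3) :
    Nat.card ↥M = 2 ^ 13 * 9797760 ∧ Nat.card ↥(M.map (actV Q)) = 9797760 ∧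
      Nonempty (Frame6 (actV Q) M) := by
  have hM : Nat.card ↥M = 2 ^ 13 * 9797760 := by
    have h := Leech.Model.card_PSU_mul (F := U33.F9) (q := 3) (n := 4)
      (by rw [U33.F9.card_eq]; norm_num) (by norm_num)
    norm_num [Finset.prod_range_succ, Nat.gcd_eq_gcd_ab] at h
    have h1 := (N.subgroupOf M).card_mul_index
    rw [Nat.card_congr (Subgroup.subgroupOfEquivOfLe hNM).toEquiv, Subgroup.index_eq_card,
      Nat.card_congr e.toEquiv, hNc, b.card] at h1
    omega
  refine ⟨hM, ?_, ?_⟩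
  · have h3 : ((actV Q).comp M.subtype).ker = Q.subgroupOf M := by
      rw [← MonoidHom.comap_ker, actV_ker b]; rfl
    have h := (Q.subgroupOf M).card_mul_index
    rw [Nat.card_congr (Subgroup.subgroupOfEquivOfLe (hQN.trans hNM)).toEquiv, ← h3, Subgroup.index_ker,
      MonoidHom.range_comp, Subgroup.range_subtype, b.card, hM] at h
    omega
  -- the group of order three
  obtain ⟨x0, hx0, hx0Q⟩ : ∃ x, x ∈ N ∧ x ∉ Q := by
    by_contra h
    push Not at h
    have := Subgroup.card_le_of_le (show N ≤ Q from h)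
    rw [hNc, b.card] at this
    omega
  set ξ := actV Q x0 with hξ
  have hξ1 : ξ ≠ 1 := fun h => hx0Q (by rw [← actV_ker b]; exact h)
  have hNmap : Nat.card ↥(N.map (actV Q)) = 3 := by
    have h3 : ((actV Q).comp N.subtype).ker = Q.subgroupOf N := by
      rw [← MonoidHom.comap_ker, actV_ker b]; rfl
    have h := (Q.subgroupOf N).card_mul_index
    rw [Nat.card_congr (Subgroup.subgroupOfEquivOfLe hQN).toEquiv, hNc, ← h3, Subgroup.index_ker,
      MonoidHom.range_comp, Subgroup.range_subtype, b.card] at h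
    omega
  have hξ3 : ξ ^ 3 = 1 := by
    have := pow_card_eq_one' (G := ↥(N.map (actV Q))) (x := ⟨ξ, x0, hx0, rfl⟩)
    rw [hNmap] at this
    exact congrArg Subtype.val this
  have hzp : Subgroup.zpowers ξ = N.map (actV Q) := by
    refine Subgroup.eq_of_le_of_card_ge (Subgroup.zpowers_le.2 ⟨x0, hx0, rfl⟩) ?_
    rw [hNmap, Nat.card_zpowers, orderOf_eq_prime hξ3 hξ1]
  have hNk : ∀ n ∈ N, ∃ k, actV Q n = kap ξ k := by
    intro n hn
    have hm : actV Q n ∈ Subgroup.zpowers ξ := hzp ▸ Subgroup.mem_map_of_mem _ hn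
    rw [← (isOfFinOrder_of_finite ξ).mem_powers_iff_mem_zpowers, Submonoid.mem_powers_iff] at hm
    obtain ⟨i, hi⟩ := hm
    refine ⟨i, ?_⟩
    rw [kap, ZMod.val_natCast, ← pow_eq_pow_mod i hξ3, hi]
  obtain ⟨T0⟩ := exists_frame81 (K := U33.F9) U33.F9.card_eq
  have T : Frame81 (↥M ⧸ N.subgroupOf M) := T0.map e.symm
  have hsimple : IsSimpleGroup (↥M ⧸ N.subgroupOf M) := by
    have := Classical.isSimpleGroup_psu (F := U33.F9) (q := 3) (by rw [U33.F9.card_eq]; norm_num) 4 (by norm_num) (by norm_num)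
    exact e.isSimpleGroup
  -- `M` centralises `ξ`
  have hcen : ∀ m ∈ M, Commute ξ (actV Q m) := by
    set C : Subgroup ↥M := (Subgroup.centralizer {ξ}).comap ((actV Q).comp M.subtype) with hC
    have hNC : N.subgroupOf M ≤ C := by
      intro n hn
      obtain ⟨k, hk⟩ := hNk n hn
      refine Subgroup.mem_comap.2 (Subgroup.mem_centralizer_singleton_iff.2 ?_)
      show actV Q n * ξ = ξ * actV Q n
      rw [hk]
      exact ((Commute.refl ξ).pow_left _).eq
    have hsq : ∀ m : ↥M, m * m ∈ C := by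
      intro m
      obtain ⟨k, hk⟩ := hNk ((m : Subgroup.centralizer ({z} : Set G)) * x0 * (m : Subgroup.centralizer ({z} : Set G))⁻¹)
        (hNn.conj_mem _ hx0 _)
      rw [map_mul, map_mul, map_inv] at hk
      set μ := actV Q (m : Subgroup.centralizer ({z} : Set G)) with hμ
      refine Subgroup.mem_comap.2 (Subgroup.mem_centralizer_singleton_iff.2 ?_)
      show actV Q _ * ξ = ξ * actV Q _
      simp only [Subgroup.coe_subtype, Subgroup.coe_mul, map_mul, ← hμ]
      rcases (show ∀ k : ZMod 3, k = 0 ∨ k = 1 ∨ k = 2 by decide) k with rfl | rfl | rfl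
      · rw [kap_zero, mul_inv_eq_one] at hk
        exact absurd (mul_eq_left.1 hk) hξ1
      · rw [kap_one, mul_inv_eq_iff_eq_mul] at hk
        rw [mul_assoc, hk, ← mul_assoc, hk, mul_assoc]
      · rw [kap_two] at hk
        have h4 : μ * μ * ξ * (μ * μ)⁻¹ = ξ := by
          calc μ * μ * ξ * (μ * μ)⁻¹ = (μ * ξ * μ⁻¹) * (μ * ξ * μ⁻¹) * 1 * 1 := by
                rw [show μ * μ * ξ * (μ * μ)⁻¹ = μ * (μ * ξ * μ⁻¹) * μ⁻¹ by group, hk,
                  show μ * (ξ * ξ) * μ⁻¹ = μ * ξ * μ⁻¹ * (μ * ξ * μ⁻¹) by group, hk, mul_one, mul_one]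
            _ = ξ := by
              rw [hk, mul_one, mul_one]
              rw [← mul_assoc, show ξ * ξ * ξ = 1 by rw [← hξ3, pow_succ, sq], one_mul]
        exact mul_inv_eq_iff_eq_mul.1 h4
    set C' := C.map (QuotientGroup.mk' (N.subgroupOf M)) with hC'
    have hsq' : ∀ p, p * p ∈ C' := fun p => by
      obtain ⟨m, rfl⟩ := QuotientGroup.mk_surjective p
      exact ⟨m * m, hsq m, rfl⟩
    have : C'.Normal := normal_of_squares C' hsq'
    rcases hsimple.eq_bot_or_eq_top_of_normal C' this with h | h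
    · exfalso
      have hab : ∀ p q : ↥M ⧸ N.subgroupOf M, p * q = q * p :=
        comm_of_two fun p => by
          have := hsq' p
          rwa [h, Subgroup.mem_bot] at this
      have hv := fixed_vec (Pi.single 0 1) fun j => by
        have h' := T.acts j (Pi.single 0 1)
        rw [hab (T.l (gen j)), mul_inv_cancel_right] at h'
        exact (Multiplicative.ofAdd.injective (T.inj h')).symm
      exact absurd (congrFun hv 0) (by simp)
    · intro m hm
      obtain ⟨c, hc, hcm⟩ := h.ge (Subgroup.mem_top (QuotientGroup.mk (⟨m, hm⟩ : ↥M)))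
      have hmC : (⟨m, hm⟩ : ↥M) ∈ C := by
        rw [show (⟨m, hm⟩ : ↥M) = c * (c⁻¹ * ⟨m, hm⟩) by group]
        exact C.mul_mem hc (hNC (QuotientGroup.eq.1 hcm))
      exact (Subgroup.mem_centralizer_singleton_iff.1 (Subgroup.mem_comap.1 hmC)).symm
  -- lifts
  have hlift : ∀ m m' : ↥M, (QuotientGroup.mk m : ↥M ⧸ N.subgroupOf M) = QuotientGroup.mk m' →
      ∃ k, actV Q m' = kap ξ k * actV Q m := by
    intro m m' h
    have hn : (m⁻¹ * m' : ↥M) ∈ N.subgroupOf M := QuotientGroup.eq.1 h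
    obtain ⟨k, hk⟩ := hNk _ (Subgroup.mem_subgroupOf.1 hn)
    refine ⟨k, ?_⟩
    rw [show kap ξ k * actV Q m = actV Q m * kap ξ k from ((hcen _ m.2).pow_left k.val).eq, ← hk, ← map_mul]
    simp
  choose γ hγ using fun v : Vec => QuotientGroup.mk_surjective (T.a (Multiplicative.ofAdd v))
  choose lam hlam using fun A : SL9 => QuotientGroup.mk_surjective (T.l A)
  choose Tm hTm using fun A v => T.norm A (Multiplicative.ofAdd v)
  let L : LiftData (MulAut (↥Q ⧸ Subgroup.center ↥Q)) :=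
    { ξ := ξ
      ξ3 := hξ3
      ξ1 := hξ1
      g := fun v => actV Q (γ v)
      R := fun A => actV Q (lam A)
      T := fun A v => (Tm A v).toAdd
      commg := fun v => hcen _ (γ v).2
      commR := fun A => hcen _ (lam A).2
      addg := fun u v => by
        obtain ⟨k, hk⟩ := hlift (γ u * γ v) (γ (u + v)) (by
          rw [QuotientGroup.mk_mul, hγ, hγ, hγ, ofAdd_add, map_mul])
        exact ⟨k, by rw [hk, Subgroup.coe_mul, map_mul, mul_assoc]⟩
      injg := fun v k h => by
        have h1' : (γ v : Subgroup.centralizer ({z} : Set G)) ∈ N := by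
          have hq : (γ v : Subgroup.centralizer ({z} : Set G)) * (x0 ^ k.val)⁻¹ ∈ (actV Q).ker := by
            rw [MonoidHom.mem_ker, map_mul, map_inv, map_pow]
            exact mul_inv_eq_one.2 h
          rw [actV_ker b] at hq
          simpa using N.mul_mem (hQN hq) (N.pow_mem hx0 k.val)
        have h2 : T.a (Multiplicative.ofAdd v) = 1 := by
          rw [← hγ]; exact (QuotientGroup.eq_one_iff _).2 h1'
        exact Multiplicative.ofAdd.injective (T.inj (h2.trans (map_one T.a).symm))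
      mulR := fun A B => by
        obtain ⟨k, hk⟩ := hlift (lam A * lam B) (lam (A * B)) (by
          rw [QuotientGroup.mk_mul, hlam, hlam, hlam, map_mul])
        exact ⟨k, by rw [hk, Subgroup.coe_mul, map_mul, mul_assoc]⟩
      conj := fun A v => by
        obtain ⟨k, hk⟩ := hlift (γ (Tm A v).toAdd) (lam A * γ v * (lam A)⁻¹) (by
          rw [QuotientGroup.mk_mul, QuotientGroup.mk_mul, QuotientGroup.mk_inv, hlam, hγ, hγ, ofAdd_toAdd, hTm])
        exact ⟨k, by rw [← hk]; simp⟩
      gens := fun j => funext fun v => by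
        have h := (hTm (gen j) v).trans (T.acts j v)
        exact congrArg Multiplicative.toAdd (T.inj h) }
  letI : CommGroup (↥Q ⧸ Subgroup.center ↥Q) :=
    { (inferInstance : Group (↥Q ⧸ Subgroup.center ↥Q)) with mul_comm := comm_of_two (two_quot b) }
  exact exists_frame6 (two_quot b) (card_V b) (actV Q) M L ⟨x0, hNM hx0, rfl⟩
    (fun v => ⟨_, (γ v).2, rfl⟩) (fun A => ⟨_, (lam A).2, rfl⟩) hcen

section
variable (b : Basic z Q) {M : Subgroup (Subgroup.centralizer ({z} : Set G))} (F : Frame6 (actV Q) M)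
include b

omit b in
theorem not_dvd_K (hK : Nat.card ↥M = 2 ^ 13 * 9797760) {n p : ℕ} (hp : p.Prime) (hpn : p ∣ n) (h7 : 7 < p) :
    ¬n ∣ Nat.card ↥M := by
  intro h
  have h1 := hpn.trans h
  rw [hK, show (2 : ℕ) ^ 13 * 9797760 = 2 ^ 20 * 3 ^ 7 * 5 * 7 by norm_num] at h1
  rcases (Nat.Prime.dvd_mul hp).1 h1 with h | h
  rcases (Nat.Prime.dvd_mul hp).1 h with h | h
  rcases (Nat.Prime.dvd_mul hp).1 h with h | h
  · have := Nat.le_of_dvd (by norm_num) (hp.dvd_of_dvd_pow h); omega
  · have := Nat.le_of_dvd (by norm_num) (hp.dvd_of_dvd_pow h); omega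
  · have := Nat.le_of_dvd (by norm_num) h; omega
  · have := Nat.le_of_dvd (by norm_num) h; omega

theorem orb_nonsingular (hK : Nat.card ↥M = 2 ^ 13 * 9797760) (hM : Nat.card ↥(M.map (actV Q)) = 9797760)
    {v w : Vec6} (hv : par v ≠ 0) (hw : par w ≠ 0) : w ∈ orb F v := by
  classical
  suffices h : ∀ n, nrep n ∈ orb F (nrep 0) by
    have hh : ∀ v, par v ≠ 0 → v ∈ orb F (nrep 0) := fun v hv => by
      obtain ⟨n, hn⟩ := ncls_cases v hv
      exact orb_trans F (h n) (cls_orb F ((nc_nrep n).trans hn.symm))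
    exact orb_trans F (orb_symm F (hh v hv)) (hh w hw)
  have hmem : ∀ x, x ∈ orb F (nrep 0) ↔ ∃ n, cls x = nc n ∧ nrep n ∈ orb F (nrep 0) := by
    intro x
    constructor
    · intro hx
      obtain ⟨m, -, rfl⟩ := (mem_orb F).1 hx
      obtain ⟨n, hn⟩ := ncls_cases (cact F m (nrep 0)) (by rw [cact_par b F]; decide +kernel)
      exact ⟨n, hn, orb_trans F hx (cls_orb F (hn.trans (nc_nrep n).symm))⟩
    · rintro ⟨n, hn, h⟩
      exact orb_trans F h (cls_orb F ((nc_nrep n).trans hn.symm))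
  by_contra hcon
  push Not at hcon
  obtain ⟨n0, hn0⟩ := hcon
  obtain ⟨n1, hn1, hn1'⟩ : ∃ n, n ≠ 0 ∧ nrep n ∈ orb F (nrep 0) := by
    obtain ⟨m, hm, v, hv, hv'⟩ := wt_one_moves b F hM
    have hp : par v ≠ 0 := by rw [par, hv]; decide
    obtain ⟨n, hn⟩ := ncls_cases (cact F m v) (by rwa [cact_par b F])
    refine ⟨n, fun e => hv' ?_, ?_⟩
    · rw [e] at hn
      exact congrArg Prod.fst hn
    · have h0 : cls (nrep 0) = cls v := by
        rw [nc_nrep]; simp [cls, hv, nc]
      exact orb_trans F (orb_trans F (cls_orb F h0) ((mem_orb F).2 ⟨m, hm, rfl⟩))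
        (cls_orb F (hn.trans (nc_nrep n).symm))
  have h0' : nrep 0 ∈ orb F (nrep 0) := self_orb F _
  have hset : orb F (nrep 0) =
      (univ.filter fun x => cls x = nc 0) ∪ univ.filter fun x => cls x = nc n1 := by
    ext x
    simp only [hmem x, mem_union, mem_filter, mem_univ, true_and]
    constructor
    · rintro ⟨n, hn, h⟩
      rcases (show ∀ a c n : Fin 3, a ≠ 0 → c ≠ 0 → c ≠ a → n = 0 ∨ n = a ∨ n = c by decide) n1 n0 n hn1
        (fun e => hn0 (by rw [e]; exact h0')) (fun e => hn0 (by rw [e]; exact hn1')) with rfl | rfl | rfl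
      · exact Or.inl hn
      · exact Or.inr hn
      · exact absurd h hn0
    · rintro (h | h)
      · exact ⟨0, h, h0'⟩
      · exact ⟨n1, h, hn1'⟩
  have hd := orb_dvd F (nrep 0)
  rw [hset, card_union_of_disjoint (disjoint_filter.2 fun x _ h1 h2 => hn1 (nc_inj (h2.symm.trans h1))),
    size_univ, size_univ, size_range.2, size_range.2] at hd
  rcases (show ∀ n : Fin 3, n ≠ 0 → n = 1 ∨ n = 2 by decide) n1 hn1 with rfl | rfl
  · exact not_dvd_K hK (show Nat.Prime 31 by norm_num) (by decide) (by norm_num) hd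
  · exact not_dvd_K hK (show Nat.Prime 41 by norm_num) (by decide) (by norm_num) hd

/-- The partition into two orbits of `M`. -/
theorem exists_halves (hK : Nat.card ↥M = 2 ^ 13 * 9797760) (hM : Nat.card ↥(M.map (actV Q)) = 9797760) :
    ∃ c : ZMod 3, ∀ v : Vec6, v ≠ 0 → par v = 0 → ∀ w : Vec6,
      w ∈ orb F v ↔ (w ≠ 0 ∧ par w = 0 ∧ (InA c w ↔ InA c v)) := by
  classical
  have hsing : ∀ v : Vec6, v ≠ 0 → par v = 0 → ∀ w ∈ orb F v, w ≠ 0 ∧ par w = 0 := by
    intro v hv hp w hw
    obtain ⟨m, -, rfl⟩ := (mem_orb F).1 hw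
    exact ⟨fun e => hv (cact_inj F m (e.trans (cact_zero F m).symm)), by rw [cact_par b F, hp]⟩
  have hmem : ∀ v : Vec6, v ≠ 0 → par v = 0 → ∀ w,
      w ∈ orb F v ↔ ∃ k, cls w = sc k ∧ decide (srep k ∈ orb F v) = true := by
    intro v hv hp w
    simp only [decide_eq_true_eq]
    constructor
    · intro hw
      obtain ⟨h0, h1⟩ := hsing v hv hp w hw
      obtain ⟨k, hk⟩ := cls_cases w h0 h1
      exact ⟨k, hk, orb_trans F hw (cls_orb F (hk.trans (sc_srep k).symm))⟩
    · rintro ⟨k, hk, h⟩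
      exact orb_trans F h (cls_orb F ((sc_srep k).trans hk.symm))
  have hshape : ∀ k0 : Fin 5, ∃ c, (∀ k, srep k ∈ orb F (srep k0) ↔ halfA c k = true) ∨
      ∀ k, srep k ∈ orb F (srep k0) ↔ halfA c k = false := by
    intro k0
    have hv0 : srep k0 ≠ 0 ∧ par (srep k0) = 0 :=
      (show ∀ k, srep k ≠ 0 ∧ par (srep k) = 0 by decide +kernel) k0
    set bb : Fin 5 → Bool := fun k => decide (srep k ∈ orb F (srep k0)) with hbb
    have hT : ∀ n, ((orb F (srep k0)).filter fun w => Perp (nrep n) w).card = tsum n bb := by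
      intro n
      rw [card_biUnion_sc bb _ (hmem _ hv0.1 hv0.2) _, LargeFischer.tsum.eq_def]
      exact sum_congr rfl fun k _ => by rw [count_univ]
    have heq : ∀ n n', tsum n bb = tsum n' bb := by
      intro n n'
      obtain ⟨m, hm, hmn⟩ := (mem_orb F).1 (orb_nonsingular b F hK hM (v := nrep n) (w := nrep n')
        ((show ∀ n, par (nrep n) ≠ 0 by decide +kernel) n) ((show ∀ n, par (nrep n) ≠ 0 by decide +kernel) n'))
      rw [← hT, ← hT]
      refine card_bij (fun w _ => cact F m w) (fun w hw => ?_) (fun a _ c _ e => cact_inj F m e) fun w hw => ?_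
      · rw [mem_filter] at hw ⊢
        refine ⟨orb_trans F hw.1 ((mem_orb F).2 ⟨m, hm, rfl⟩), ?_⟩
        rw [← hmn, cact_perp b F]; exact hw.2
      · rw [mem_filter] at hw
        refine ⟨cact F m⁻¹ w, mem_filter.2 ⟨orb_trans F hw.1 ((mem_orb F).2 ⟨m⁻¹, M.inv_mem hm, rfl⟩), ?_⟩, ?_⟩
        · rw [← cact_perp b F m, hmn, ← cact_mul, mul_inv_cancel, cact_one]; exact hw.2
        · rw [← cact_mul, mul_inv_cancel, cact_one]
    rcases const_unions bb (heq 0 1) (heq 1 2) with h | h | ⟨c, h | h⟩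
    · exact absurd (h k0) (by simp [hbb, self_orb])
    · exfalso
      have hd := orb_dvd F (srep k0)
      have hcard := card_biUnion_sc bb _ (hmem _ hv0.1 hv0.2) (fun _ => True)
      simp only [Finset.filter_true, h, if_true, and_true] at hcard
      rw [hcard, sum_congr rfl fun k _ => (size_univ (sc k)).trans (size_range.1 k)] at hd
      exact not_dvd_K hK (show Nat.Prime 11 by norm_num) (by decide) (by norm_num) hd
    · exact ⟨c, Or.inl fun k => by rw [← h k, hbb]; simp⟩
    · exact ⟨c, Or.inr fun k => by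
        have := h k
        rw [hbb] at this
        rcases Bool.eq_false_or_eq_true (halfA c k) with hk | hk <;> rw [hk] at this ⊢ <;> simpa using this⟩
  obtain ⟨c, hc⟩ : ∃ c, ∀ k, srep k ∈ orb F (srep 0) ↔ halfA c k = true := by
    obtain ⟨c, h | h⟩ := hshape 0
    · exact ⟨c, h⟩
    · have h0 := (h 0).1 (self_orb F _)
      rw [(show ∀ c, halfA c 0 = true by decide +kernel) c] at h0
      cases h0
  have hc1 : ∀ k, srep k ∈ orb F (srep 1) ↔ halfA c k = false := by
    obtain ⟨c', h | h⟩ := hshape 1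
    · exact absurd ((h 1).1 (self_orb F _))
        ((show ∀ c : ZMod 3, ¬halfA c 1 = true by decide +kernel) c')
    by_cases hcc : c' = c
    · exact hcc ▸ h
    exfalso
    obtain ⟨k, hk1, hk2⟩ := (show ∀ c c' : ZMod 3, c' ≠ c → ∃ k, halfA c k = true ∧ halfA c' k = false by
      decide +kernel) c c' hcc
    have h1 := orb_trans F ((hc k).2 hk1) (orb_symm F ((h k).2 hk2))
    exact absurd ((hc 1).1 h1) ((show ∀ c : ZMod 3, ¬halfA c 1 = true by decide +kernel) c)
  refine ⟨c, fun v hv hp w => ?_⟩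
  obtain ⟨k, hk⟩ := cls_cases v hv hp
  have hkv : v ∈ orb F (srep k) := cls_orb F ((sc_srep k).trans hk.symm)
  constructor
  · intro hw
    obtain ⟨h0, h1⟩ := hsing v hv hp w hw
    obtain ⟨l, hl⟩ := cls_cases w h0 h1
    refine ⟨h0, h1, ?_⟩
    rw [inA_iff c hl, inA_iff c hk]
    have hlk : srep l ∈ orb F (srep k) :=
      orb_trans F hkv (orb_trans F hw (cls_orb F (hl.trans (sc_srep l).symm)))
    by_cases hA : halfA c k = true
    · simp [hA, (hc l).1 (orb_trans F ((hc k).2 hA) hlk)]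
    · rw [Bool.not_eq_true] at hA
      simp [hA, (hc1 l).1 (orb_trans F ((hc1 k).2 hA) hlk)]
  · rintro ⟨h0, h1, hi⟩
    obtain ⟨l, hl⟩ := cls_cases w h0 h1
    rw [inA_iff c hl, inA_iff c hk] at hi
    have hlk : srep l ∈ orb F (srep k) := by
      by_cases hA : halfA c k = true
      · exact orb_trans F (orb_symm F ((hc k).2 hA)) ((hc l).2 (hi.2 hA))
      · rw [Bool.not_eq_true] at hA
        refine orb_trans F (orb_symm F ((hc1 k).2 hA)) ((hc1 l).2 ?_)
        cases hl' : halfA c l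
        · rfl
        · rw [hi.1 hl'] at hA; cases hA
    exact orb_trans F (orb_symm F hkv) (orb_trans F hlk (cls_orb F ((sc_srep l).trans hl.symm)))

end

/-- The data from the hypotheses. -/
theorem exists_cent {G : Type*} [Group G] [Finite G] {z : G} (hz : orderOf z = 2)
    {L : Type*} [Field L] [Fintype L] (hL : Fintype.card L = 9)
    (hJ : IsExtraspecial 2 ↥(pCore 2 ↥(Subgroup.centralizer ({z} : Set G))))
    (hJc : Nat.card ↥(pCore 2 ↥(Subgroup.centralizer ({z} : Set G))) = 2 ^ 13)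
    (hCJ : Subgroup.centralizer ((pCore 2 ↥(Subgroup.centralizer ({z} : Set G))) :
      Set ↥(Subgroup.centralizer ({z} : Set G))) ≤ pCore 2 ↥(Subgroup.centralizer ({z} : Set G)))
    (M K : Subgroup ↥(Subgroup.centralizer ({z} : Set G))) [M.Normal] [K.Normal]
    (hJM : pCore 2 ↥(Subgroup.centralizer ({z} : Set G)) ≤ M) (hMK : M ≤ K)
    (hM3 : Nat.card ↥M = 3 * Nat.card ↥(pCore 2 ↥(Subgroup.centralizer ({z} : Set G))))
    (e : (↥K ⧸ M.subgroupOf K) ≃* PSU 4 L 3) :
    ∃ D : Cent z (pCore 2 ↥(Subgroup.centralizer ({z} : Set G))), D.K = K := by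
  haveI : Fact (Nat.Prime 2) := ⟨Nat.prime_two⟩
  have b : Basic z (pCore 2 ↥(Subgroup.centralizer ({z} : Set G))) :=
    ⟨hz, hJ, hJc, Layer.generalizedFitting_eq_pCore_iff.2 hCJ⟩
  obtain ⟨σ⟩ : Nonempty (L ≃+* U33.F9) :=
    ⟨FiniteField.ringEquivOfCardEq (hL.trans U33.F9.card_eq.symm)⟩
  obtain ⟨φ⟩ := Classical.U32.psu_congr (n := 4) (q := 3) σ
  obtain ⟨hK, hK', ⟨F⟩⟩ := exists_frame b hJM hMK hM3 (e.trans φ)
  obtain ⟨c, hc⟩ := exists_halves b F hK hK'
  exact ⟨⟨b, K, inferInstance, hJM.trans hMK, hK', F, c, hc⟩, rfl⟩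

end Cfsg.Agent.Fi24Cent
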