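import Cfsg.Agent.Classical.HermGroup
import Mathlib.LinearAlgebra.Determinant
import Mathlib.LinearAlgebra.Dual.Lemmas
import Mathlib.FieldTheory.Finite.Basic

/-!
The four-dimensional projective unitary group over the field with nine elements has one class of
involutions: a lift squares to a fourth root of unity; the primitive roots are excluded by the
determinant, and otherwise some multiple of the lift has two orthogonal eigenspaces of dimension two.
-/

set_option autoImplicit false

open Matrix Module Cfsg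

namespace Cfsg.Agent.Fi24Cent.U43

open Cfsg.Agent.Classical Cfsg.Agent.Classical.Herm

section Inv

variable {F V : Type*} [Field F] [AddCommGroup V] [Module F V] [FiniteDimensional F V]

omit [FiniteDimensional F V] in
/-- The determinant of a map with a basis of eigenvectors. -/
theorem det_of_eigen {ι : Type*} [Fintype ι] [DecidableEq ι] (b : Basis ι F V) (T : V →ₗ[F] V)
    (s : ι → F) (h : ∀ i, T (b i) = s i • b i) : LinearMap.det T = ∏ i, s i := by
  rw [← LinearMap.det_toMatrix b, show LinearMap.toMatrix b b T = Matrix.diagonal s from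
    Matrix.ext fun i j => ?_, Matrix.det_diagonal]
  rw [LinearMap.toMatrix_apply, h, map_smul, Finsupp.smul_apply, Basis.repr_self, smul_eq_mul,
    Finsupp.single_apply, Matrix.diagonal_apply]
  by_cases e : i = j
  · subst e
    simp
  · simp [e, Ne.symm e]

omit [FiniteDimensional F V] in
/-- The fixed vectors and the negated ones are complementary. -/
theorem isCompl_eigen (h2 : (2 : F) ≠ 0) (T : V →ₗ[F] V) (hT : ∀ v, T (T v) = v) :
    IsCompl (LinearMap.ker (T - LinearMap.id)) (LinearMap.ker (T + LinearMap.id)) := by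
  constructor
  · refine Submodule.disjoint_def.2 fun v hv hv' => ?_
    rw [LinearMap.mem_ker, LinearMap.sub_apply, LinearMap.id_apply, sub_eq_zero] at hv
    rw [LinearMap.mem_ker, LinearMap.add_apply, LinearMap.id_apply, hv, ← two_smul F v] at hv'
    exact (smul_eq_zero.1 hv').resolve_left h2
  · refine codisjoint_iff.2 (Submodule.eq_top_iff'.2 fun v => ?_)
    have e : v = (2 : F)⁻¹ • (v + T v) + (2 : F)⁻¹ • (v - T v) := by
      rw [← smul_add, show v + T v + (v - T v) = (2 : F) • v by rw [two_smul]; abel, smul_smul,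
        inv_mul_cancel₀ h2, one_smul]
    rw [e]
    refine Submodule.add_mem_sup ?_ ?_
    · rw [LinearMap.mem_ker, LinearMap.sub_apply, LinearMap.id_apply, map_smul, map_add, hT,
        add_comm (T v) v, sub_self]
    · rw [LinearMap.mem_ker, LinearMap.add_apply, LinearMap.id_apply, map_smul, map_sub, hT,
        ← smul_add, sub_add_sub_cancel, sub_self, smul_zero]

/-- The determinant of an involution is the sign of the negated part. -/
theorem det_of_invol (h2 : (2 : F) ≠ 0) (T : V →ₗ[F] V) (hT : ∀ v, T (T v) = v) :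
    LinearMap.det T = (-1) ^ finrank F ↥(LinearMap.ker (T + LinearMap.id)) := by
  set W₁ := LinearMap.ker (T - LinearMap.id) with hW₁
  set W₂ := LinearMap.ker (T + LinearMap.id) with hW₂
  let b := ((Module.finBasis F W₁).prod (Module.finBasis F W₂)).map
    (Submodule.prodEquivOfIsCompl W₁ W₂ (isCompl_eigen h2 T hT))
  rw [det_of_eigen b T (Sum.elim (fun _ => 1) fun _ => -1) ?_, Fintype.prod_sum_type]
  · simp
  · rintro (i | i)
    · have hm : b (Sum.inl i) = (Module.finBasis F W₁ i : V) := by simp [b]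
      rw [hm, Sum.elim_inl, one_smul]
      have h := LinearMap.mem_ker.1 (Module.finBasis F W₁ i).2
      rw [LinearMap.sub_apply, LinearMap.id_apply, sub_eq_zero] at h
      exact h
    · have hm : b (Sum.inr i) = (Module.finBasis F W₂ i : V) := by simp [b]
      rw [hm, Sum.elim_inr, neg_one_smul]
      have h := LinearMap.mem_ker.1 (Module.finBasis F W₂ i).2
      rw [LinearMap.add_apply, LinearMap.id_apply, add_eq_zero_iff_eq_neg] at h
      exact h

end Inv

section Herm

variable {F V : Type*} [Field F] [Finite F] [AddCommGroup V] [Module F V] [FiniteDimensional F V]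
  {σ : F →+* F} {B : V →ₛₗ[σ] V →ₗ[F] F}

/-- A totally isotropic subspace has at most half the dimension. -/
theorem isotropic_le (h : IsHerm B) (W : Submodule F V) (hW : ∀ u ∈ W, ∀ w ∈ W, B u w = 0) :
    2 * finrank F W ≤ finrank F V := by
  let f : W → W.dualAnnihilator := fun u =>
    ⟨B u, (Submodule.mem_dualAnnihilator _).2 fun w hw => hW u u.2 w hw⟩
  have hf : Function.Injective f := fun u v e => by
    have e' : B (u : V) = B (v : V) := congrArg Subtype.val e
    exact Subtype.ext (sub_eq_zero.1 (h.nondeg _ fun y => by rw [map_sub, e', sub_self]; rfl))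
  have : Finite (Module.Dual F V) := Module.finite_of_finite F
  have hc := Nat.card_le_card_of_injective f hf
  rw [Module.natCard_eq_pow_finrank (K := F) (V := W),
    Module.natCard_eq_pow_finrank (K := F) (V := W.dualAnnihilator)] at hc
  have := (Nat.pow_le_pow_iff_right Finite.one_lt_card).1 hc
  have := Subspace.finrank_add_finrank_dualAnnihilator_eq W
  omega

/-- An orthonormal basis of a nondegenerate subspace, as a family in the whole space. -/
theorem exists_on_sub (h : IsHerm B) (W : Submodule F V)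
    (hW : ∀ u ∈ W, (∀ w ∈ W, B u w = 0) → u = 0) :
    ∃ a : Fin (finrank F W) → V, IsON B a ∧ ∀ i, a i ∈ W := by
  let B' : W →ₛₗ[σ] W →ₗ[F] F :=
    LinearMap.mk₂'ₛₗ σ (RingHom.id F) (fun u v => B (u : V) (v : V))
      (fun u u' v => by simp) (fun c u v => by simp) (fun u v v' => by simp) (fun c u v => by simp)
  have h' : IsHerm B' :=
    { toIsInvol := h.toIsInvol
      symm := fun x y => h.symm _ _
      nondeg := fun x hx => Subtype.ext (hW x x.2 fun w hw => hx ⟨w, hw⟩) }
  obtain ⟨b, hb⟩ := exists_orthonormal h'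
  exact ⟨fun i => (b i : V), fun i j => hb i j, fun i => (b i).2⟩

end Herm

variable {L : Type*} [Field L] [Fintype L]

theorem nine_facts (hL : Fintype.card L = 9) : (2 : L) ≠ 0 ∧ (∃ i : L, i * i = -1) ∧
    ∀ a : L, a ^ 4 = 1 → ∃ ζ : L, ζ * ζ = a := by
  obtain ⟨p, hp⟩ := CharP.exists L
  obtain ⟨k, hpr, hk⟩ := FiniteField.card L p
  have h3 : p = 3 := by
    have hd : p ∣ 3 ^ 2 := by
      rw [show 3 ^ 2 = p ^ (k : ℕ) by rw [← hk, hL]; norm_num]
      exact dvd_pow_self p k.ne_zero
    exact (Nat.prime_dvd_prime_iff_eq hpr Nat.prime_three).1 (hpr.dvd_of_dvd_pow hd)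
  subst h3
  have h2 : (2 : L) ≠ 0 := by
    intro e
    have : ((2 : ℕ) : L) = 0 := by exact_mod_cast e
    rw [CharP.cast_eq_zero_iff L 3] at this
    omega
  have hch : ringChar L ≠ 2 := by
    rw [ringChar.eq L 3]
    omega
  have hsq : ∀ a : L, a ^ 4 = 1 → ∃ ζ : L, ζ * ζ = a := by
    intro a ha
    have ha0 : a ≠ 0 := by rintro rfl; norm_num at ha
    obtain ⟨ζ, hζ⟩ := (FiniteField.isSquare_iff hch ha0).2 (by rw [hL]; exact ha)
    exact ⟨ζ, hζ.symm⟩
  exact ⟨h2, hsq (-1) (by norm_num), hsq⟩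

/-- The scalar elements. -/
theorem exists_scalar (hL : Fintype.card L = 9) {a : L} (ha : a ^ 4 = 1) :
    ∃ c : SU 4 L 3, c ∈ Subgroup.center (SU 4 L 3) ∧
      ((c : SpecialLinearGroup (Fin 4) L) : Matrix (Fin 4) (Fin 4) L) = Matrix.scalar (Fin 4) a := by
  obtain ⟨σ, hσq, hσ, hq, -⟩ := exists_powHom (F := L) (q := 3) (by rw [hL]; norm_num)
  let C : SpecialLinearGroup (Fin 4) L := ⟨Matrix.scalar (Fin 4) a, by simp [ha]⟩
  have hC : C ∈ SU 4 L 3 := by
    refine (mem_SU_iff hσq C).2 fun u v => ?_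
    have e : ∀ w : Fin 4 → L, (C : Matrix (Fin 4) (Fin 4) L) *ᵥ w = a • w := fun w => by
      show Matrix.scalar (Fin 4) a *ᵥ w = a • w
      rw [Matrix.scalar_apply]
      ext i
      rw [Matrix.mulVec_diagonal]
      rfl
    rw [e, e]
    simp only [map_smulₛₗ, LinearMap.smul_apply, smul_eq_mul, RingHom.id_apply, hσq]
    linear_combination hermB 4 σ u v * ha
  refine ⟨⟨C, hC⟩, Subgroup.mem_center_iff.2 fun g => Subtype.ext (Subtype.ext ?_), rfl⟩
  show ((g : SpecialLinearGroup (Fin 4) L) : Matrix (Fin 4) (Fin 4) L) * Matrix.scalar (Fin 4) a =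
    Matrix.scalar (Fin 4) a * ((g : SpecialLinearGroup (Fin 4) L) : Matrix (Fin 4) (Fin 4) L)
  exact (Matrix.scalar_commute a (fun r => Commute.all a r) _).eq.symm

/-- The matrix of an element. -/
noncomputable def mat (g : SU 4 L 3) : Matrix (Fin 4) (Fin 4) L :=
  ((g : SpecialLinearGroup (Fin 4) L) : Matrix (Fin 4) (Fin 4) L)

omit [Fintype L] in
theorem mat_injective {g g' : SU 4 L 3} (h : mat g = mat g') : g = g' := Subtype.ext (Subtype.ext h)

omit [Fintype L] in
theorem mat_mul (g g' : SU 4 L 3) : mat (g * g') = mat g * mat g' := rfl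

/-- The signs of the representative. -/
def sgn : Fin 4 → L := ![1, 1, -1, -1]

/-- An involution of the special group outside the centre is diagonalised by an element of it. -/
theorem exists_frame (hL : Fintype.card L = 9) (g : SU 4 L 3) (hg : g * g = 1)
    (hgc : g ∉ Subgroup.center (SU 4 L 3)) :
    ∃ P : SU 4 L 3, mat g * mat P = mat P * Matrix.diagonal sgn := by
  classical
  obtain ⟨h2, -, -⟩ := nine_facts hL
  obtain ⟨σ, hσq, hσ, hq, -⟩ := exists_powHom (F := L) (q := 3) (by rw [hL]; norm_num)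
  set B := hermB (F := L) 4 σ with hB
  have hH : IsHerm B := hermB_isHerm hσ 4
  set M := mat g with hM
  have hMM : M * M = 1 := by
    rw [hM, ← mat_mul, hg]
    rfl
  set T : (Fin 4 → L) →ₗ[L] (Fin 4 → L) := Matrix.toLin' M with hTdef
  have hTv : ∀ v, T v = M *ᵥ v := fun v => Matrix.toLin'_apply M v
  have hT : ∀ v, T (T v) = v := fun v => by rw [hTv, hTv, Matrix.mulVec_mulVec, hMM, Matrix.one_mulVec]
  have hiso : ∀ u v, B (T u) (T v) = B u v := fun u v => by
    rw [hTv, hTv]; exact (mem_SU_iff hσq _).1 g.2 u v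
  set W₁ := LinearMap.ker (T - LinearMap.id) with hW₁
  set W₂ := LinearMap.ker (T + LinearMap.id) with hW₂
  have hc := isCompl_eigen h2 T hT
  have m1 : ∀ v, v ∈ W₁ ↔ T v = v := fun v => by
    rw [hW₁, LinearMap.mem_ker, LinearMap.sub_apply, LinearMap.id_apply, sub_eq_zero]
  have m2 : ∀ v, v ∈ W₂ ↔ T v = -v := fun v => by
    rw [hW₂, LinearMap.mem_ker, LinearMap.add_apply, LinearMap.id_apply, add_eq_zero_iff_eq_neg]
  have hperp : ∀ u ∈ W₁, ∀ w ∈ W₂, B u w = 0 := by
    intro u hu w hw
    have e := hiso u w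
    rw [(m1 u).1 hu, (m2 w).1 hw, map_neg] at e
    have : (2 : L) * B u w = 0 := by linear_combination -e
    exact (mul_eq_zero.1 this).resolve_left h2
  have nd1 : ∀ u ∈ W₁, (∀ w ∈ W₁, B u w = 0) → u = 0 := by
    intro u hu h0
    refine hH.nondeg u fun y => ?_
    obtain ⟨a, ha, b, hb, rfl⟩ := Submodule.mem_sup.1 ((hc.sup_eq_top).symm ▸ Submodule.mem_top : y ∈ W₁ ⊔ W₂)
    rw [map_add, h0 a ha, hperp u hu b hb, add_zero]
  have nd2 : ∀ u ∈ W₂, (∀ w ∈ W₂, B u w = 0) → u = 0 := by
    intro u hu h0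
    refine hH.nondeg u fun y => ?_
    obtain ⟨a, ha, b, hb, rfl⟩ := Submodule.mem_sup.1 ((hc.sup_eq_top).symm ▸ Submodule.mem_top : y ∈ W₁ ⊔ W₂)
    rw [map_add, h0 b hb, (Herm.eq_zero_comm hH).1 (hperp a ha u hu), zero_add]
  obtain ⟨a₁, ha₁, ha₁m⟩ := exists_on_sub hH W₁ nd1
  obtain ⟨a₂, ha₂, ha₂m⟩ := exists_on_sub hH W₂ nd2
  have hsum : finrank L W₁ + finrank L W₂ = 4 := by
    rw [Submodule.finrank_add_eq_of_isCompl hc, Module.finrank_fin_fun]
  have hdet : LinearMap.det T = 1 := by
    rw [hTdef, LinearMap.det_toLin', hM]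
    exact (g : SpecialLinearGroup (Fin 4) L).2
  have heven : Even (finrank L W₂) := by
    have e := det_of_invol h2 T hT
    rw [hdet] at e
    rcases Nat.even_or_odd (finrank L W₂) with h | h
    · exact h
    · rw [h.neg_one_pow] at e
      exact absurd (show (2 : L) = 0 by linear_combination e) h2
  have hne0 : finrank L W₂ ≠ 0 := by
    intro h0
    refine hgc ?_
    have hall : ∀ v, T v = v := fun v => (m1 v).1 (by
      have hbot : W₂ = ⊥ := Submodule.finrank_eq_zero.1 h0
      have := hc.sup_eq_top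
      rw [show LinearMap.ker (T + LinearMap.id) = W₂ from rfl, hbot, sup_bot_eq] at this
      rw [show W₁ = ⊤ from this]
      exact Submodule.mem_top)
    have : M = 1 := Matrix.toLin'.injective (LinearMap.ext fun v => by rw [Matrix.toLin'_one]; exact hall v)
    rw [show g = 1 from mat_injective (this.trans (by rfl))]
    exact Subgroup.one_mem _
  have hne4 : finrank L W₁ ≠ 0 := by
    intro h0
    refine hgc ?_
    obtain ⟨c, hcc, hcm⟩ := exists_scalar hL (a := (-1 : L)) (by norm_num)
    have hall : ∀ v, T v = -v := fun v => (m2 v).1 (by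
      have hbot : W₁ = ⊥ := Submodule.finrank_eq_zero.1 h0
      have := hc.sup_eq_top
      rw [show LinearMap.ker (T - LinearMap.id) = W₁ from rfl, hbot, bot_sup_eq] at this
      rw [show W₂ = ⊤ from this]
      exact Submodule.mem_top)
    have : M = Matrix.scalar (Fin 4) (-1 : L) := by
      refine Matrix.toLin'.injective (LinearMap.ext fun v => ?_)
      show T v = _
      rw [hall, Matrix.toLin'_apply, Matrix.scalar_apply]
      ext i
      rw [Matrix.mulVec_diagonal]
      simp
    rw [show g = c from mat_injective (this.trans hcm.symm)]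
    exact hcc
  obtain ⟨hk, hl⟩ : finrank L W₁ = 2 ∧ finrank L W₂ = 2 := by
    obtain ⟨j, hj⟩ := heven
    omega
  -- the orthonormal eigenbasis
  let a : Fin 4 → (Fin 4 → L) := ![a₁ (Fin.cast hk.symm 0), a₁ (Fin.cast hk.symm 1),
    a₂ (Fin.cast hl.symm 0), a₂ (Fin.cast hl.symm 1)]
  have haON : IsON B a := by
    intro i j
    fin_cases i <;> fin_cases j <;> simp [a, ha₁ _ _, ha₂ _ _, hperp _ (ha₁m _) _ (ha₂m _),
      (Herm.eq_zero_comm hH).1 (hperp _ (ha₁m _) _ (ha₂m _))]
  have haT : ∀ j, T (a j) = (sgn j : L) • a j := by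
    intro j
    fin_cases j <;> simp [a, sgn, (m1 _).1 (ha₁m _), (m2 _).1 (ha₂m _)]
  -- the matrix with these columns
  let P : Matrix (Fin 4) (Fin 4) L := (Matrix.of a)ᵀ
  have hPcol : ∀ j, P *ᵥ Pi.single j 1 = a j := fun j => by
    rw [Matrix.mulVec_single_one]
    rfl
  have hPiso : ∀ u v, B (P *ᵥ u) (P *ᵥ v) = B u v :=
    (preserves_iff_cols P).2 (by simp only [hPcol]; exact haON)
  have hP0 : P.det ≠ 0 := by
    intro h0
    obtain ⟨v, hv0, hv⟩ := Matrix.exists_mulVec_eq_zero_iff.2 h0
    exact hv0 (hH.nondeg v fun y => by rw [← hPiso, hv, map_zero, LinearMap.zero_apply])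
  have hnorm : P.det * σ P.det = 1 := det_norm_GU (n := 4) hσq
    (g := Matrix.GeneralLinearGroup.mkOfDetNeZero P hP0) ((mem_GU_iff hσq _).2 hPiso)
  let d : Fin 4 → L := fun i => if i = 0 then P.det⁻¹ else 1
  have hdd : ∀ i, σ (d i) * d i = 1 := by
    intro i
    by_cases hi : i = 0
    · simp only [d, hi, if_true, map_inv₀]
      rw [← mul_inv, mul_comm, hnorm, inv_one]
    · simp [d, hi]
  have hDiso : ∀ u v, B (Matrix.diagonal d *ᵥ u) (Matrix.diagonal d *ᵥ v) = B u v := by
    intro u v
    simp only [hB, hermB_apply, Matrix.mulVec_diagonal, map_mul]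
    refine Finset.sum_congr rfl fun i _ => ?_
    linear_combination σ (u i) * v i * hdd i
  let P' : Matrix (Fin 4) (Fin 4) L := P * Matrix.diagonal d
  have hP'det : P'.det = 1 := by
    rw [Matrix.det_mul, Matrix.det_diagonal, Finset.prod_ite_eq' Finset.univ (0 : Fin 4),
      if_pos (Finset.mem_univ _), mul_inv_cancel₀ hP0]
  refine ⟨⟨⟨P', hP'det⟩, (mem_SU_iff hσq _).2 fun u v => ?_⟩, ?_⟩
  · show B (P' *ᵥ u) (P' *ᵥ v) = B u v
    rw [← Matrix.mulVec_mulVec, ← Matrix.mulVec_mulVec, hPiso, hDiso]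
  · show M * P' = P' * Matrix.diagonal sgn
    have hMP : M * P = P * Matrix.diagonal sgn := by
      ext i j
      have e := congrFun (haT j) i
      rw [hTv, ← hPcol j, Matrix.mulVec_mulVec] at e
      simp only [Matrix.mulVec_single_one, Pi.smul_apply, smul_eq_mul, Matrix.col_apply] at e
      rw [e, Matrix.mul_diagonal, mul_comm]
    rw [← Matrix.mul_assoc, hMP, Matrix.mul_assoc, Matrix.mul_assoc]
    simp only [Matrix.diagonal_mul_diagonal, mul_comm]

/-- A lift of an involution of the projective group can be taken of order two. -/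
theorem exists_invol_lift (hL : Fintype.card L = 9) (x : PSU 4 L 3) (hx1 : x ≠ 1) (hx : x * x = 1) :
    ∃ g : SU 4 L 3, g * g = 1 ∧ g ∉ Subgroup.center (SU 4 L 3) ∧
      QuotientGroup.mk' (Subgroup.center (SU 4 L 3)) g = x := by
  classical
  obtain ⟨h2, ⟨i, hi⟩, hsq⟩ := nine_facts hL
  obtain ⟨σ, hσq, hσ, hq, -⟩ := exists_powHom (F := L) (q := 3) (by rw [hL]; norm_num)
  obtain ⟨g, rfl⟩ := QuotientGroup.mk_surjective x
  have hgc : g ∉ Subgroup.center (SU 4 L 3) := fun h => hx1 ((QuotientGroup.eq_one_iff _).2 h)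
  have hgg : g * g ∈ Subgroup.center (SU 4 L 3) := (QuotientGroup.eq_one_iff _).1 hx
  obtain ⟨a, ha⟩ := center_SU_scalar hσ hσq hq (by norm_num) hgg
  have ha' : mat g * mat g = Matrix.scalar (Fin 4) a := ha
  have ha4 : a ^ 4 = 1 := by
    have := congrArg Matrix.det ha'
    rw [Matrix.det_mul, show (mat g).det = 1 from (g : SpecialLinearGroup (Fin 4) L).2] at this
    simpa using this.symm
  rcases mul_eq_zero.1 (show (a ^ 2 - 1) * (a ^ 2 + 1) = 0 by linear_combination ha4) with h | h
  · -- some multiple of the lift squares to one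
    have hb : ∃ b : L, b ^ 4 = 1 ∧ b * b * a = 1 := by
      rcases mul_eq_zero.1 (show (a - 1) * (a + 1) = 0 by linear_combination h) with h' | h'
      · exact ⟨1, one_pow _, by linear_combination h'⟩
      · exact ⟨i, by linear_combination (i * i - 1) * hi, by linear_combination a * hi - h'⟩
    obtain ⟨b, hb4, hb⟩ := hb
    obtain ⟨c, hcc, hcm⟩ := exists_scalar hL hb4
    refine ⟨c * g, mat_injective ?_, fun e => hgc ?_, ?_⟩
    · rw [mat_mul, mat_mul, show mat c = Matrix.scalar (Fin 4) b from hcm]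
      show _ = (1 : Matrix (Fin 4) (Fin 4) L)
      rw [mul_assoc, ← mul_assoc (mat g), ← (Matrix.scalar_commute b (fun r => Commute.all b r) (mat g)).eq,
        mul_assoc, ha', ← mul_assoc, ← map_mul, ← map_mul, hb, map_one]
    · simpa using Subgroup.mul_mem _ (Subgroup.inv_mem _ hcc) e
    · rw [map_mul, show QuotientGroup.mk' (Subgroup.center (SU 4 L 3)) c = 1 from
        (QuotientGroup.eq_one_iff _).2 hcc, one_mul]
      rfl
  · -- a primitive fourth root is impossible
    exfalso
    obtain ⟨ζ, hζ⟩ := hsq a ha4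
    have ha0 : a ≠ 0 := by rintro rfl; norm_num at ha4
    have hζ0 : ζ ≠ 0 := by rintro rfl; exact ha0 (by simpa using hζ.symm)
    set B := hermB (F := L) 4 σ with hB
    set T : (Fin 4 → L) →ₗ[L] (Fin 4 → L) := ζ⁻¹ • Matrix.toLin' (mat g) with hTdef
    have hTv : ∀ v, T v = ζ⁻¹ • (mat g *ᵥ v) := fun v => rfl
    have hT : ∀ v, T (T v) = v := fun v => by
      rw [hTv, hTv, Matrix.mulVec_smul, Matrix.mulVec_mulVec, ha', smul_smul, Matrix.scalar_apply]
      ext j
      rw [Pi.smul_apply, Matrix.mulVec_diagonal, smul_eq_mul, ← hζ]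
      field_simp
    have hanti : ∀ u v, B (T u) (T v) = -B u v := fun u v => by
      rw [hTv, hTv]
      simp only [map_smulₛₗ, LinearMap.smul_apply, smul_eq_mul, RingHom.id_apply, hσq]
      rw [show B (mat g *ᵥ u) (mat g *ᵥ v) = B u v from (mem_SU_iff hσq _).1 g.2 u v, inv_pow]
      have h4 : ζ ^ 3 * ζ = -1 := by linear_combination (ζ * ζ + a) * hζ + h
      field_simp
      linear_combination B u v * h4
    set W₁ := LinearMap.ker (T - LinearMap.id) with hW₁
    set W₂ := LinearMap.ker (T + LinearMap.id) with hW₂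
    have hc := isCompl_eigen h2 T hT
    have iso : ∀ (W : Submodule L (Fin 4 → L)) (s : L), s * s = 1 → (∀ u ∈ W, T u = s • u) →
        ∀ u ∈ W, ∀ w ∈ W, B u w = 0 := by
      intro W s hs hW u hu w hw
      have e := hanti u w
      rw [hW u hu, hW w hw] at e
      simp only [map_smulₛₗ, LinearMap.smul_apply, smul_eq_mul, RingHom.id_apply, hσq] at e
      have : (2 : L) * B u w = 0 := by linear_combination e - B u w * (s * s + 1) * hs
      exact (mul_eq_zero.1 this).resolve_left h2
    have l1 := isotropic_le (hermB_isHerm hσ 4) W₁ (iso W₁ 1 (one_mul _) fun u hu => by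
      rw [one_smul]
      rwa [hW₁, LinearMap.mem_ker, LinearMap.sub_apply, LinearMap.id_apply, sub_eq_zero] at hu)
    have l2 := isotropic_le (hermB_isHerm hσ 4) W₂ (iso W₂ (-1) (by ring) fun u hu => by
      rw [neg_one_smul]
      rwa [hW₂, LinearMap.mem_ker, LinearMap.add_apply, LinearMap.id_apply, add_eq_zero_iff_eq_neg] at hu)
    have hsum : finrank L W₁ + finrank L W₂ = finrank L (Fin 4 → L) := Submodule.finrank_add_eq_of_isCompl hc
    rw [Module.finrank_fin_fun] at l1 l2 hsum
    have e := det_of_invol h2 T hT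
    rw [show finrank L ↥(LinearMap.ker (T + LinearMap.id)) = 2 by
        show finrank L W₂ = 2; omega,
      hTdef, LinearMap.det_smul, Module.finrank_fin_fun, LinearMap.det_toLin',
      show (mat g).det = 1 from (g : SpecialLinearGroup (Fin 4) L).2, neg_one_sq, mul_one, inv_pow] at e
    rw [show ζ ^ 4 = a * a by rw [← hζ]; ring, inv_eq_one] at e
    exact h2 (by linear_combination h - e)

/-- One class of involutions. -/
theorem conj_invol (hL : Fintype.card L = 9) {x y : PSU 4 L 3} (hx1 : x ≠ 1) (hx : x * x = 1)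
    (hy1 : y ≠ 1) (hy : y * y = 1) : ∃ c : PSU 4 L 3, c * x * c⁻¹ = y := by
  obtain ⟨g, hg, hgc, rfl⟩ := exists_invol_lift hL x hx1 hx
  obtain ⟨g', hg', hgc', rfl⟩ := exists_invol_lift hL y hy1 hy
  obtain ⟨P, hP⟩ := exists_frame hL g hg hgc
  obtain ⟨P', hP'⟩ := exists_frame hL g' hg' hgc'
  refine ⟨QuotientGroup.mk' _ (P' * P⁻¹), ?_⟩
  rw [← map_inv, ← map_mul, ← map_mul]
  congr 1
  have hinj : mat (g' * P') = mat (P' * (P⁻¹ * g * P)) := by
    have h1 : mat P⁻¹ * mat P = 1 := by rw [← mat_mul, inv_mul_cancel]; rfl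
    rw [mat_mul, hP', mat_mul, mat_mul, mat_mul, mul_assoc (mat P⁻¹), hP, ← mul_assoc (mat P⁻¹), h1, one_mul]
  have e := mat_injective hinj
  calc P' * P⁻¹ * g * (P' * P⁻¹)⁻¹ = P' * (P⁻¹ * g * P) * P'⁻¹ := by group
    _ = g' := by rw [← e, mul_inv_cancel_right]

end Cfsg.Agent.Fi24Cent.U43
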