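import Cfsg.Agent.Fi24Cent.Defs
import Cfsg.Agent.Fi24Cent.U43Class

/-!
Every involution of the simple section acts with a fixed space of dimension eight: there is one class
of involutions, and the permutation `(0 1)(2 3)` of the frame is one of them.
-/

set_option autoImplicit false
set_option maxRecDepth 20000
set_option Elab.async false

open Finset Cfsg Cfsg.Agent Cfsg.Agent.LargeFischer

namespace Cfsg.Agent.Fi24Cent

theorem card_fix_pm : (univ.filter fun v : Vec6 =>
    pm (Equiv.swap 0 1 * Equiv.swap 2 3) v = v).card = 256 := by decide +kernel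

theorem pm_moves : pm (Equiv.swap 0 1 * Equiv.swap 2 3)
    (Pi.single (0 : Fin 6) ((1, 0) : W4)) ≠ Pi.single (0 : Fin 6) ((1, 0) : W4) := by decide +kernel

theorem pm_twice (v : Vec6) :
    pm (Equiv.swap 0 1 * Equiv.swap 2 3) (pm (Equiv.swap 0 1 * Equiv.swap 2 3) v) = v := by
  funext i
  have h : ∀ j : Fin 6, (Equiv.swap 0 1 * Equiv.swap 2 3 : Equiv.Perm (Fin 6))⁻¹
      ((Equiv.swap 0 1 * Equiv.swap 2 3 : Equiv.Perm (Fin 6))⁻¹ j) = j := by decide +kernel
  exact congrArg v (h i)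

/-- An inverted element of order three times an involution is conjugate to the involution. -/
theorem conj_twisted {X : Type*} [Group X] (R a : X) (hR : R * R = 1) (ha : a ^ 3 = 1)
    (h : R * a * (R * a) = 1) : a ^ 2 * (R * a) * (a ^ 2)⁻¹ = R := by
  have h1 : R * a * R = a⁻¹ := eq_inv_of_mul_eq_one_left (by rw [← h]; group)
  have h2 : a * R = R * a⁻¹ := by
    rw [← h1, ← mul_assoc, ← mul_assoc, hR, one_mul]
  have h3 : a ^ 2 * R = R * (a ^ 2)⁻¹ := by
    rw [sq, mul_assoc, h2, ← mul_assoc, h2, mul_assoc, mul_inv_rev]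
  calc a ^ 2 * (R * a) * (a ^ 2)⁻¹ = (a ^ 2 * R) * (a * (a ^ 2)⁻¹) := by group
    _ = R * (a ^ 3)⁻¹ := by rw [h3]; group
    _ = R := by rw [ha, inv_one, mul_one]

variable {G : Type*} [Group G] [Finite G] {z : G}
  {Q : Subgroup (Subgroup.centralizer ({z} : Set G))} [Q.Normal]

/-- Elements of `M` over a subgroup of index three. -/
theorem cube_mem {X : Type*} [Group X] [Finite X] {N M : Subgroup X} [N.Normal] (hNM : N ≤ M)
    (hM3 : Nat.card M = 3 * Nat.card N) {x : X} (hx : x ∈ M) : x ^ 3 ∈ N := by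
  have hidx : (N.subgroupOf M).index = 3 := by
    have h := (N.subgroupOf M).card_mul_index
    rw [Nat.card_congr (Subgroup.subgroupOfEquivOfLe hNM).toEquiv, hM3] at h
    exact Nat.eq_of_mul_eq_mul_left (Nat.card_pos (α := N)) (h.trans (mul_comm _ _))
  have hm : (⟨x, hx⟩ : M) ^ 3 ∈ N.subgroupOf M := hidx ▸ Subgroup.pow_index_mem _ _
  exact Subgroup.mem_subgroupOf.1 hm

/-- Every involution of `K / Q` fixes a space of dimension eight. -/
theorem innerFix_of (D : Cent z Q) (M : Subgroup (Subgroup.centralizer ({z} : Set G))) [M.Normal]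
    (hQM : Q ≤ M) (hMK : M ≤ D.K) (hM3 : Nat.card M = 3 * Nat.card Q)
    {L : Type*} [Field L] [Fintype L] (hL : Fintype.card L = 9)
    (e : D.K ⧸ M.subgroupOf D.K ≃* PSU 4 L 3) : D.InnerFix := by
  classical
  have := D.norm
  intro h hK hQ hh
  obtain ⟨r, hrK, hr⟩ := D.F.perm (Equiv.swap 0 1 * Equiv.swap 2 3) (by decide +kernel)
  have hcr : ∀ v, cact D.F r v = pm (Equiv.swap 0 1 * Equiv.swap 2 3) v := fun v => cact_eq D.F (hr v)
  have hker : ∀ x, actV Q x = 1 ↔ x ∈ Q := fun x => by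
    rw [← MonoidHom.mem_ker, actV_ker D.b]
  have hrr : r * r ∈ Q := by
    rw [← hker]
    refine MulEquiv.ext fun u => ?_
    obtain ⟨v, rfl⟩ := D.F.bij.2 u
    rw [MulAut.one_apply, map_mul, MulAut.mul_apply, hr, hr, pm_twice]
  have hrQ : r ∉ Q := by
    intro hm
    refine pm_moves ?_
    rw [← hcr]
    refine cact_eq D.F ?_
    rw [(hker r).2 hm]
    rfl
  -- the two elements are outside `M`
  have out : ∀ x : Subgroup.centralizer ({z} : Set G), x * x ∈ Q → x ∉ Q → x ∉ M := by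
    intro x hx hxQ hxM
    refine hxQ ?_
    have := Q.mul_mem (Q.inv_mem hx) (cube_mem hQM hM3 hxM)
    rwa [show (x * x)⁻¹ * x ^ 3 = x by group] at this
  have img : ∀ x : D.K, (x : Subgroup.centralizer ({z} : Set G)) * x ∈ Q →
      (x : Subgroup.centralizer ({z} : Set G)) ∉ Q →
      e (x : D.K ⧸ M.subgroupOf D.K) ≠ 1 ∧
        e (x : D.K ⧸ M.subgroupOf D.K) * e (x : D.K ⧸ M.subgroupOf D.K) = 1 := by
    intro x hx hxQ
    refine ⟨fun h1 => out _ hx hxQ ?_, ?_⟩
    · rw [← map_one e] at h1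
      exact Subgroup.mem_subgroupOf.1 ((QuotientGroup.eq_one_iff _).1 (e.injective h1))
    · rw [← map_mul, ← QuotientGroup.mk_mul, (QuotientGroup.eq_one_iff _).2, map_one]
      exact Subgroup.mem_subgroupOf.2 (hQM hx)
  obtain ⟨hh1, hh2⟩ := img ⟨h, hK⟩ hh hQ
  obtain ⟨hr1, hr2⟩ := img ⟨r, hrK⟩ hrr hrQ
  obtain ⟨c, hc⟩ := U43.conj_invol hL hh1 hh2 hr1 hr2
  obtain ⟨g', hg'⟩ := QuotientGroup.mk_surjective (e.symm c)
  have hm : (r⁻¹ * ((g' : Subgroup.centralizer ({z} : Set G)) * h *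
      (g' : Subgroup.centralizer ({z} : Set G))⁻¹)) ∈ M := by
    have e1 : ((g' * ⟨h, hK⟩ * g'⁻¹ : D.K) : D.K ⧸ M.subgroupOf D.K) =
        ((⟨r, hrK⟩ : D.K) : D.K ⧸ M.subgroupOf D.K) := by
      refine e.injective ?_
      rw [QuotientGroup.mk_mul, QuotientGroup.mk_mul, QuotientGroup.mk_inv, map_mul, map_mul, map_inv,
        hg', MulEquiv.apply_symm_apply]
      exact hc
    exact Subgroup.mem_subgroupOf.1 (QuotientGroup.eq.1 e1.symm)
  set g : Subgroup.centralizer ({z} : Set G) := (g' : Subgroup.centralizer ({z} : Set G)) with hg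
  set m := r⁻¹ * (g * h * g⁻¹) with hmdef
  set A := actV Q with hA
  have hR : A r * A r = 1 := by rw [← map_mul, hker]; exact hrr
  have ha : A m ^ 3 = 1 := by rw [← map_pow, hker]; exact cube_mem hQM hM3 hm
  have hrm : A r * A m = A (g * h * g⁻¹) := by rw [← map_mul, hmdef, mul_inv_cancel_left]
  have hRa : A r * A m * (A r * A m) = 1 := by
    rw [hrm, ← map_mul, show g * h * g⁻¹ * (g * h * g⁻¹) = g * (h * h) * g⁻¹ by group, hker]
    exact Subgroup.Normal.conj_mem inferInstance _ hh g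
  have key := conj_twisted _ _ hR ha hRa
  rw [hrm, ← map_pow, ← map_inv, ← map_mul, ← map_mul] at key
  set k := m ^ 2 * g with hk
  have key' : A (k * h * k⁻¹) = A r := by
    rw [← key]
    congr 1
    rw [hk]
    group
  have hconj : ∀ v, cact D.F (k * h * k⁻¹) v = cact D.F r v := fun v =>
    cact_eq D.F (by rw [show actV Q (k * h * k⁻¹) = actV Q r from key']; exact (co_cact D.F r v).symm)
  have himg : (D.fix h).image (cact D.F k) = univ.filter fun v : Vec6 =>
      pm (Equiv.swap 0 1 * Equiv.swap 2 3) v = v := by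
    ext v
    rw [mem_image, mem_filter, ← hcr, ← hconj]
    constructor
    · rintro ⟨w, hw, rfl⟩
      refine ⟨mem_univ _, ?_⟩
      rw [← cact_mul, inv_mul_cancel_right, cact_mul, D.mem_fix.1 hw]
    · rintro ⟨-, hv⟩
      refine ⟨cact D.F k⁻¹ v, D.mem_fix.2 ?_, by rw [← cact_mul, mul_inv_cancel, cact_one]⟩
      rw [← cact_mul]
      refine cact_inj D.F k ?_
      rw [← cact_mul, ← cact_mul, mul_inv_cancel, cact_one, ← mul_assoc]
      exact hv
  rw [← card_fix_pm, ← himg, Finset.card_image_of_injective _ (cact_inj D.F k)]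

end Cfsg.Agent.Fi24Cent
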