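import Cfsg.Agent.Fi24Cent.IsolatedOut

/-!
Conjugates of `z` in `C(z)` outside `Q`.
-/

set_option autoImplicit false
set_option maxRecDepth 20000
set_option Elab.async false
set_option linter.unusedSectionVars false

open Finset Cfsg Cfsg.Agent Cfsg.Agent.LargeFischer

namespace Cfsg.Agent.Fi24Cent

variable {G : Type*} [Group G] [Finite G] {z : G}
  {Q : Subgroup (Subgroup.centralizer ({z} : Set G))} [Q.Normal]

/-- membership of `Q` through `O₂(C(z))` -/
theorem Cent.mem_Q_iff (D : Cent z Q) (s : Subgroup.centralizer ({z} : Set G)) :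
    s ∈ Q ↔ (s : G) ∈ LargeExtra.oc z := by
  rw [D.mem_oc_iff]
  exact ⟨fun h => ⟨⟨s, h⟩, rfl⟩, fun ⟨q, e⟩ => Subtype.ext e ▸ q.2⟩

/-- A conjugate of `z` in `C(z)` fixing at least 256 vectors lies in `K`. -/
theorem mem_K_of_fix (D : Cent z Q) (hq : Quot D) (hi : D.InnerFix) {g : G}
    {s : Subgroup.centralizer ({z} : Set G)} (hs : g * z * g⁻¹ = (s : G))
    (hd : 256 ≤ (D.fix s).card) : s ∈ D.K := by
  obtain ⟨h, hK⟩ := D.swap_mem_K hq hs hd
  set s' : Subgroup.centralizer ({z} : Set G) := ⟨_, h⟩ with hs'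
  have e' : g⁻¹ * z * g⁻¹⁻¹ = (s' : G) := by rw [inv_inv, hs']
  by_cases hsQ : s' ∈ Q
  · refine D.le ((D.mem_Q_iff s).2 ?_)
    have h1 := D.setting.symm (g := g⁻¹) (e' ▸ (D.mem_Q_iff s').1 hsQ)
    have h2 := LargeExtra.conj_mem_oc (g := g) h1
    rwa [hs, show g * (g⁻¹ * z * g⁻¹⁻¹) * g⁻¹ = z by group] at h2
  · have h2 : s' * s' ∈ Q := by
      have e : s' * s' = 1 := Subtype.ext (show g⁻¹ * z * g * (g⁻¹ * z * g) = 1 by
        rw [show g⁻¹ * z * g * (g⁻¹ * z * g) = g⁻¹ * (z * z) * g by group, D.setting.sq_one]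
        group)
      rw [e]
      exact Q.one_mem
    obtain ⟨h3, h3K⟩ := D.swap_mem_K hq e' (hi s' hK hsQ h2).ge
    rwa [show s = (⟨_, h3⟩ : Subgroup.centralizer ({z} : Set G)) from
      Subtype.ext (show (s : G) = g⁻¹⁻¹ * z * g⁻¹ by rw [inv_inv, hs])]

namespace Out

variable {D : Cent z Q} {g : G} {s : Subgroup.centralizer ({z} : Set G)} (O : Out D g s)
include O

/-- the conjugate the other way -/
theorem back_mem : g⁻¹ * z * g ∈ Subgroup.centralizer ({z} : Set G) := by
  have h := Subgroup.mem_centralizer_singleton_iff.1 s.2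
  rw [← O.hs] at h
  rw [Subgroup.mem_centralizer_singleton_iff]
  calc g⁻¹ * z * g * z = g⁻¹ * (z * (g * z * g⁻¹)) * g := by group
    _ = g⁻¹ * (g * z * g⁻¹ * z) * g := by rw [h]
    _ = z * (g⁻¹ * z * g) := by group

theorem back_spec : (⟨g⁻¹ * z * g, O.back_mem⟩ : Subgroup.centralizer ({z} : Set G)) ∉ Q ∧
    (⟨g⁻¹ * z * g, O.back_mem⟩ : Subgroup.centralizer ({z} : Set G)) *
      ⟨g⁻¹ * z * g, O.back_mem⟩ = 1 := by
  refine ⟨fun h => O.z_notMem ?_, Subtype.ext ?_⟩
  · have h1 := O.push ((D.mem_Q_iff _).1 h)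
    rwa [show g * (g⁻¹ * z * g) * g⁻¹ = z by group] at h1
  · show g⁻¹ * z * g * (g⁻¹ * z * g) = 1
    rw [show g⁻¹ * z * g * (g⁻¹ * z * g) = g⁻¹ * (z * z) * g by group, D.setting.sq_one]
    group

/-- transport of an element of `Q` centralising the conjugate the other way -/
theorem exists_push {a : Q}
    (ha : Commute (a : Subgroup.centralizer ({z} : Set G)) ⟨g⁻¹ * z * g, O.back_mem⟩) :
    ∃ b : Subgroup.centralizer ({z} : Set G), (b : G) ∈ LargeExtra.oc (s : G) ∧
      (b : G) = g * ((a : Subgroup.centralizer ({z} : Set G)) : G) * g⁻¹ := by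
  have h := congrArg Subtype.val ha.eq
  simp only [Subgroup.coe_mul] at h
  refine ⟨⟨g * ((a : Subgroup.centralizer ({z} : Set G)) : G) * g⁻¹,
    Subgroup.mem_centralizer_singleton_iff.2 ?_⟩, O.push (D.mem_oc_iff.2 ⟨a, rfl⟩), rfl⟩
  calc g * ((a : Subgroup.centralizer ({z} : Set G)) : G) * g⁻¹ * z
      = g * (((a : Subgroup.centralizer ({z} : Set G)) : G) * (g⁻¹ * z * g)) * g⁻¹ := by group
    _ = _ := by rw [h]; group

/-- the map `c + 1` -/
noncomputable def delta (_O : Out D g s) : Vec6 →+ Vec6 :=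
  AddMonoidHom.mk' (fun v => cact D.F s v + v) fun v w => by rw [cact_add]; exact add_add_add_comm ..

theorem delta_apply (v : Vec6) : O.delta v = cact D.F s v + v := rfl

theorem mem_ker {v : Vec6} : v ∈ O.delta.ker ↔ cact D.F s v = v :=
  ⟨fun h => add_eq_zero6 h, fun h => by rw [AddMonoidHom.mem_ker, O.delta_apply, h, add_self6]⟩

theorem range_perp : O.delta.range ≤ perpSub O.delta.ker := by
  rintro _ ⟨w, rfl⟩ v hv
  rw [O.delta_apply, bp_add_right]
  conv_lhs => arg 1; rw [← O.mem_ker.1 hv, D.bp_cact]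
  exact (show ∀ p : ZMod 2, p + p = 0 by decide) _

/-- the fixed space and the commutator space are orthogonals of each other -/
theorem perp_eq : O.delta.range = perpSub O.delta.ker ∧ (D.fix s).card * Nat.card ↥O.delta.range = 4096 := by
  classical
  have hk : Nat.card ↥O.delta.ker = (D.fix s).card := by
    rw [Nat.card_eq_fintype_card, Fintype.card_subtype]
    congr 1
    ext v
    simp [O.mem_ker, D.mem_fix, -AddMonoidHom.mem_ker]
  have h1 := O.delta.ker.card_mul_index
  rw [AddSubgroup.index_ker, hk, Nat.card_eq_fintype_card (α := Vec6),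
    show Fintype.card Vec6 = 4096 from by simp] at h1
  refine ⟨?_, h1⟩
  refine SetLike.coe_injective (Set.eq_of_subset_of_ncard_le O.range_perp ?_ (Set.toFinite _))
  have h2 := card_perpSub O.delta.ker
  rw [hk] at h2
  rw [← Nat.card_coe_set_eq, ← Nat.card_coe_set_eq]
  show Nat.card ↥(perpSub O.delta.ker) ≤ Nat.card ↥O.delta.range
  nlinarith

/-- The inner case. -/
theorem false_of_mem (hq : Quot D) (hi : D.InnerFix)
    (hsK : s ∈ D.K) : False := by
  classical
  have hsQ : s ∉ Q := fun h => O.notQ ((D.mem_Q_iff s).1 h)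
  have h256 : (D.fix s).card = 256 := hi s hsK hsQ (by rw [O.sq_one]; exact Q.one_mem)
  obtain ⟨hTeq, hTcard⟩ := O.perp_eq
  rw [h256] at hTcard
  have hls : D.IsLin s := D.lin_K hsK
  -- the commutator space
  have hTfix : ∀ w, cact D.F s (cact D.F s w + w) = cact D.F s w + w := O.pre_fix
  have hTperp : ∀ w v, cact D.F s v = v → bp v (cact D.F s w + w) = 0 := fun w v hv =>
    O.range_perp ⟨w, rfl⟩ v (O.mem_ker.2 hv)
  have hTsm : ∀ w, cact D.F s (sm 1 w) + sm 1 w = sm 1 (cact D.F s w + w) := fun w => by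
    rw [D.lin_sm hls, sm_add]
  have hTpar : ∀ w, par (cact D.F s w + w) = 0 := fun w => by
    set t := cact D.F s w + w
    have h := hTperp w (sm 1 t) (by rw [D.lin_sm hls, hTfix])
    rw [bp_eq, sm_one_add, sm, sm, par_dg, par_dg] at h
    exact (show ∀ p : ZMod 2, p + p + p = 0 → p = 0 by decide) _ h
  have hTcen : ∀ w, D.Cen s (cact D.F s w + w) := fun w => by
    obtain ⟨j, rfl⟩ : ∃ j : Q, D.cv j = w := ⟨_, D.cv_lift w⟩
    set m : Q := MulAut.conjNormal s j * j⁻¹ with hm
    have hcv : D.cv m = cact D.F s (D.cv j) + D.cv j := by rw [hm, D.cv_mul, D.cv_conj, D.cv_inv]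
    rw [← hcv, D.cen_iff]
    have h2 : m * m = 1 := (sq_iff D.b D.F (D.mk_cv m)).2 (by rw [hcv]; exact hTpar _)
    have h3 : s * (m : Subgroup.centralizer ({z} : Set G)) * s = (m : Subgroup.centralizer ({z} : Set G))⁻¹ := by
      rw [hm, Subgroup.coe_mul, MulAut.conjNormal_apply, Subgroup.coe_inv, O.inv_eq,
        mul_inv_rev, inv_inv, mul_inv_rev, mul_inv_rev, O.inv_eq,
        ← mul_assoc s, ← mul_assoc s, ← mul_assoc s, O.sq_one, one_mul]
      simp only [mul_assoc]
    rw [← Subgroup.coe_inv, inv_eq_of_mul_eq_one_right h2] at h3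
    show (m : Subgroup.centralizer ({z} : Set G)) * s = s * m
    calc (m : Subgroup.centralizer ({z} : Set G)) * s
        = s * (m : Subgroup.centralizer ({z} : Set G)) * s * s := by rw [h3]
      _ = s * m := by rw [mul_assoc _ s s, O.sq_one, mul_one]
  have hperpT : ∀ i, (∀ v, cact D.F s v = v → bp v i = 0) → ∃ w, cact D.F s w + w = i := fun i h => by
    have h1 : i ∈ O.delta.range := hTeq ▸ fun v hv => h v (O.mem_ker.1 hv)
    exact h1
  have hTpair : ∀ i, i ≠ 0 → D.Ibar s i → (∃ w, cact D.F s w + w = i) →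
      ∀ v, cact D.F s v = v → D.Cen s v := fun i hi0 hi ⟨w, hw⟩ v hv => O.full hi hi0 hw hv
  -- two cases
  have hsmall : (∀ v, cact D.F s v = v → D.Cen s v) ∧ (D.ibarSet s).card ≤ 4 ∨
      (∃ x, cact D.F s x = x ∧ ¬ D.Cen s x) ∧ (D.ibarSet s).card ≤ 2 := by
    by_cases hall : ∀ v, cact D.F s v = v → D.Cen s v
    · exact Or.inl ⟨hall, O.card_ibar fun i hi => hperpT i fun v hv => O.perp (hall v hv) hi⟩
    push Not at hall
    obtain ⟨x, hx, hnx⟩ := hall
    refine Or.inr ⟨⟨x, hx, hnx⟩, ?_⟩
    by_contra hc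
    push Not at hc
    obtain ⟨i, hi, hi0⟩ := exists_mem_notMem_of_card_lt_card (s := {0}) (t := D.ibarSet s)
      (by rw [card_singleton]; omega)
    obtain ⟨k, hk, hkS⟩ := exists_mem_notMem_of_card_lt_card (s := {0, i}) (t := D.ibarSet s)
      (card_le_two.trans_lt hc)
    rw [Cent.mem_ibarSet] at hi hk
    simp only [mem_singleton, mem_insert, not_or] at hi0 hkS
    have hone : ∀ i, D.Ibar s i → i ≠ 0 → bp x i = 1 := by
      intro i hi hi0
      refine (zmod2_cases _).resolve_left fun h0 => ?_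
      refine hnx (hTpair i hi0 hi (hperpT i fun v hv => ?_) x hx)
      by_cases hv' : D.Cen s v
      · exact O.perp hv' hi
      · have h := O.perp (D.cen_of_two hv hx hv' hnx) hi
        rwa [bp_add_left, h0, add_zero] at h
    have h := hone (i + k) (O.ibar_add hi hk) fun e => hkS.2 (add_eq_zero6 e).symm
    rw [bp_add_right, hone i hi hi0, hone k hk hkS.1] at h
    exact absurd h (by decide)
  -- where the moves of the fixed space lie
  obtain ⟨D0, hD0, hD0c⟩ : ∃ D0 : Subgroup.centralizer ({z} : Set G) → Finset Vec6,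
      (∀ b : Subgroup.centralizer ({z} : Set G), (b : G) ∈ LargeExtra.oc (s : G) →
        ∀ v, cact D.F s v = v → cact D.F b v + v ∈ D0 b) ∧ ∀ b, (D0 b).card ≤ 4 := by
    rcases hsmall with ⟨hall, hc⟩ | ⟨⟨x, hx, hnx⟩, hc⟩
    · exact ⟨fun _ => D.ibarSet s, fun b hb v hv => Cent.mem_ibarSet.2 (O.move hb (hall v hv)),
        fun _ => hc⟩
    · refine ⟨fun b => D.ibarSet s ∪ (D.ibarSet s).image (· + (cact D.F b x + x)),
        fun b hb v hv => ?_, fun b => ?_⟩
      · rw [mem_union, mem_image]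
        by_cases hv' : D.Cen s v
        · exact Or.inl (Cent.mem_ibarSet.2 (O.move hb hv'))
        · refine Or.inr ⟨_, Cent.mem_ibarSet.2 (O.move hb (D.cen_of_two hv hx hv' hnx)), ?_⟩
          rw [cact_add, add_add_add_comm (cact D.F b v), add_assoc, add_self6, add_zero]
      · refine (card_union_le _ _).trans ?_
        have := card_image_le (s := D.ibarSet s) (f := (· + (cact D.F b x + x)))
        omega
  have hblin : ∀ b : Subgroup.centralizer ({z} : Set G), (b : G) ∈ LargeExtra.oc (s : G) → D.IsLin b := by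
    intro b hb
    refine (hq.semi b).resolve_right fun ha => ?_
    have hsub : D.fix s ⊆ (D0 b ×ˢ D0 b).image fun p => p.1 + sm 2 p.2 := by
      intro v hv
      rw [mem_image]
      have hv' := D.mem_fix.1 hv
      have hw : cact D.F s (sm 1 v) = sm 1 v := by rw [D.lin_sm hls, hv']
      refine ⟨(cact D.F b (sm 1 v) + sm 1 v, cact D.F b v + v),
        mem_product.2 ⟨hD0 b hb _ hw, hD0 b hb _ hv'⟩, ?_⟩
      show cact D.F b (sm 1 v) + sm 1 v + sm 2 (cact D.F b v + v) = v
      rw [D.anti_sm ha, sm_add, add_add_add_comm, add_self6, zero_add, add_comm, sm_two_add]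
    have h := (card_le_card hsub).trans card_image_le
    rw [h256, card_product] at h
    have := hD0c b
    nlinarith
  -- the commutator space is fixed pointwise
  have hfixT : ∀ b : Subgroup.centralizer ({z} : Set G), (b : G) ∈ LargeExtra.oc (s : G) →
      ∀ w, cact D.F b (cact D.F s w + w) = cact D.F s w + w := by
    intro b hb w
    by_contra hne
    set t := cact D.F s w + w with ht
    set k := cact D.F b t + t with hk
    have hk0 : k ≠ 0 := fun e => hne (add_eq_zero6 e)
    have hkI : D.Ibar s k := O.move hb (hTcen w)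
    have hu : sm 1 k = cact D.F b (sm 1 t) + sm 1 t := by rw [D.lin_sm (hblin b hb), ← sm_add]
    have huI : D.Ibar s (sm 1 k) := by
      rw [hu, ht, ← hTsm]
      exact O.move hb (hTcen _)
    have hpre := O.pre_act hb (t := t) ht.symm
    have h := O.pair huI (fun e => hk0 (sm_eq_zero e)) (w₁ := sm 1 (cact D.F b w + w))
      (by rw [hTsm, hpre]) hkI hk0 (fun e => sm_ne hk0 e) hpre
    rw [bp_add_right] at h
    have h2 := D.bp_cact b (sm 1 k) w
    rw [O.act_ibar hb huI] at h2
    rw [h2] at h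
    exact absurd h ((show ∀ p : ZMod 2, p + p ≠ 1 by decide) _)
  have hmove : ∀ b : Subgroup.centralizer ({z} : Set G), (b : G) ∈ LargeExtra.oc (s : G) →
      ∀ v, cact D.F s (cact D.F b v + v) = cact D.F b v + v := by
    intro b hb v
    refine add_eq_zero6 ?_
    rw [O.pre_act hb rfl, hfixT b hb, add_self6]
  -- a proper subspace takes all moves of the fixed space
  obtain ⟨L, hL, hLadd, hLc⟩ : ∃ L : Finset Vec6,
      (∀ b : Subgroup.centralizer ({z} : Set G), (b : G) ∈ LargeExtra.oc (s : G) →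
        ∀ v, cact D.F s v = v → cact D.F b v + v ∈ L) ∧
      (∀ p ∈ L, ∀ q ∈ L, p + q ∈ L) ∧ L.card ≤ 4 := by
    rcases hsmall with ⟨hall, hc⟩ | ⟨⟨x, hx, hnx⟩, hc⟩
    · exact ⟨D.ibarSet s, fun b hb v hv => Cent.mem_ibarSet.2 (O.move hb (hall v hv)),
        fun p hp q hq => Cent.mem_ibarSet.2 (O.ibar_add (Cent.mem_ibarSet.1 hp) (Cent.mem_ibarSet.1 hq)), hc⟩
    · refine ⟨(D.ibarSet s ×ˢ D.ibarSet s).image fun p => p.1 + sm 1 p.2, fun b hb v hv => ?_,
        fun p hp q hq => ?_, ?_⟩
      · rw [mem_image]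
        by_cases hv' : D.Cen s v
        · refine ⟨(cact D.F b v + v, 0), mem_product.2 ⟨Cent.mem_ibarSet.2 (O.move hb hv'),
            Cent.mem_ibarSet.2 O.ibar_zero⟩, ?_⟩
          show cact D.F b v + v + sm 1 0 = _
          rw [sm_map_zero, add_zero]
        · obtain ⟨a, ha, hna⟩ : ∃ a, D.Cen s a ∧ ¬ D.Cen s (sm 1 a) := by
            by_contra hcl
            push Not at hcl
            have hwx : cact D.F s (sm 1 x) = sm 1 x := by rw [D.lin_sm hls, hx]
            have h3 : ∀ y, sm 1 (sm 1 (sm 1 y)) = y := fun y => by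
              rw [sm_one_one, sm_sm, show (2 : ZMod 3) + 1 = 0 from rfl, sm_zero]
            have hn1 : ¬ D.Cen s (sm 1 x) := fun h => hnx (by
              have := hcl _ (hcl _ h)
              rwa [h3] at this)
            have h2 := hcl _ (D.cen_of_two hwx hx hn1 hnx)
            rw [sm_one_add, ← sm_one_one, h3] at h2
            exact hnx h2
          have hwa : cact D.F s (sm 1 a) = sm 1 a := by rw [D.lin_sm hls, D.cen_fix ha]
          refine ⟨(cact D.F b (v + sm 1 a) + (v + sm 1 a), cact D.F b a + a),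
            mem_product.2 ⟨Cent.mem_ibarSet.2 (O.move hb (D.cen_of_two hv hwa hv' hna)),
              Cent.mem_ibarSet.2 (O.move hb ha)⟩, ?_⟩
          show cact D.F b (v + sm 1 a) + (v + sm 1 a) + sm 1 (cact D.F b a + a) = _
          rw [sm_add, ← D.lin_sm (hblin b hb), cact_add, add_add_add_comm (cact D.F b v),
            add_assoc (cact D.F b v + v), add_self6, add_zero]
      · obtain ⟨⟨p1, p2⟩, hp', rfl⟩ := mem_image.1 hp
        obtain ⟨⟨q1, q2⟩, hq', rfl⟩ := mem_image.1 hq
        rw [mem_product, Cent.mem_ibarSet, Cent.mem_ibarSet] at hp' hq'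
        refine mem_image.2 ⟨(p1 + q1, p2 + q2), mem_product.2 ⟨Cent.mem_ibarSet.2 (O.ibar_add hp'.1 hq'.1),
          Cent.mem_ibarSet.2 (O.ibar_add hp'.2 hq'.2)⟩, ?_⟩
        show p1 + q1 + sm 1 (p2 + q2) = p1 + sm 1 p2 + (q1 + sm 1 q2)
        rw [sm_add, add_add_add_comm]
      · refine card_image_le.trans ?_
        rw [card_product]
        nlinarith
  -- two non-commuting elements
  obtain ⟨h', hK'⟩ := D.swap_mem_K hq O.hs h256.ge
  have hbk := O.back_spec
  obtain ⟨a, b, ha, hb', hab⟩ := D.exists_noncomm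
    (hi _ hK' hbk.1 (by rw [hbk.2]; exact Q.one_mem)).ge
  obtain ⟨u, hu, hue⟩ := O.exists_push ha
  obtain ⟨w, hw, hwe⟩ := O.exists_push hb'
  have huw : u * w = s * (w * u) := by
    rcases O.comm_cases hu hw with h | h
    · exfalso
      refine hab (Subtype.ext (Subtype.ext ?_))
      have h1 := commutatorElement_eq_one_iff_mul_comm.1 h
      rw [hue, hwe] at h1
      calc ((a : Subgroup.centralizer ({z} : Set G)) : G) * (b : Subgroup.centralizer ({z} : Set G))
          = g⁻¹ * (g * ((a : Subgroup.centralizer ({z} : Set G)) : G) * g⁻¹ *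
              (g * ((b : Subgroup.centralizer ({z} : Set G)) : G) * g⁻¹)) * g := by group
        _ = _ := by rw [h1]; group; rfl
    · refine Subtype.ext ?_
      simp only [Subgroup.coe_mul]
      rw [← h]
      group
  have hsub : ∀ x, cact D.F s x + x ∈ L := by
    intro x
    obtain ⟨y, rfl⟩ : ∃ y, cact D.F (w * u) y = x :=
      ⟨cact D.F (w * u)⁻¹ x, by rw [← cact_mul, mul_inv_cancel, cact_one]⟩
    rw [← cact_mul, ← huw, cact_mul, cact_mul]
    have h1 := hL u hu _ (hmove w hw y)
    have h2 := hL w hw _ (hmove u hu y)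
    have h3 := hLadd _ h1 _ h2
    convert h3 using 1
    rw [cact_add, cact_add]
    have e : ∀ A B P R Y : Vec6, A + P + (R + Y) + (B + R + (P + Y)) = A + B := fun A B P R Y => by
      funext i
      exact (show ∀ a b p r y : W4, a + p + (r + y) + (b + r + (p + y)) = a + b by decide) _ _ _ _ _
    exact (e _ _ _ _ _).symm
  have hle : Nat.card ↥O.delta.range ≤ L.card := by
    rw [show Nat.card ↥O.delta.range = (O.delta.range : Set Vec6).ncard from Nat.card_coe_set_eq _,
      ← Set.ncard_coe_finset L]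
    refine Set.ncard_le_ncard ?_ (Finset.finite_toSet L)
    rintro _ ⟨x, rfl⟩
    exact hsub x
  nlinarith

/-- fixed spaces of semilinear involutions are large -/
theorem fix_anti_ge {h : Subgroup.centralizer ({z} : Set G)} (ha : D.IsAnti h) (h2 : h * h = 1) :
    64 ≤ (D.fix h).card := by
  have hsub : (univ : Finset Vec6) ⊆ (D.fix h ×ˢ D.fix h).image fun p => sm 2 p.1 + p.2 := by
    intro v _
    rw [mem_image]
    have hfix : ∀ w, cact D.F h w + w ∈ D.fix h := fun w => D.mem_fix.2 (by
      rw [cact_add, ← cact_mul, h2, cact_one, add_comm])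
    refine ⟨(cact D.F h v + v, cact D.F h (sm 1 v) + sm 1 v), mem_product.2 ⟨hfix _, hfix _⟩, ?_⟩
    show sm 2 (cact D.F h v + v) + (cact D.F h (sm 1 v) + sm 1 v) = v
    rw [D.anti_sm ha, sm_add, add_add_add_comm, add_self6, zero_add, sm_two_add]
  have h1 := (card_le_card hsub).trans card_image_le
  rw [card_univ, show Fintype.card Vec6 = 4096 from by simp, card_product] at h1
  nlinarith

/-- The outer case. -/
theorem false_of_notMem (hq : Quot D) (hi : D.InnerFix)
    (hlin : ∀ (g : G) (h : Subgroup.centralizer ({z} : Set G)),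
      g * z * g⁻¹ = (h : G) → D.IsLin h → h ∈ D.K)
    (hsK : s ∉ D.K) : False := by
  classical
  have hsa : D.IsAnti s := (hq.semi s).resolve_left fun h => hsK (hlin g s O.hs h)
  -- the fixed space is the commutator space
  have hpre : ∀ x, cact D.F s x = x → cact D.F s (sm 1 x) + sm 1 x = x := fun x hx => by
    rw [D.anti_sm hsa, hx, sm_two_add]
  have h64 : 64 ≤ (D.fix s).card := O.fix_anti_ge hsa O.sq_one
  have hI4 : (D.ibarSet s).card ≤ 4 :=
    O.card_ibar fun i hi => ⟨sm 1 i, hpre i (D.cen_fix (O.ibar_cen hi))⟩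
  -- elements of `K` in the acting part
  have hinK : ∀ b : Subgroup.centralizer ({z} : Set G), (b : G) ∈ LargeExtra.oc (s : G) → b ∈ D.K →
      b ∈ Q := by
    intro b hb hbK
    by_contra hbQ
    have hb2 : b * b = 1 := by
      rcases O.sq_cases hb with h | h
      · exact Subtype.ext h
      · exact absurd (D.K.mul_mem hbK hbK) (by rwa [show b * b = s from Subtype.ext h])
    have h256 := hi b hbK hbQ (by rw [hb2]; exact Q.one_mem)
    set S := (D.fix s).filter fun v => cact D.F b v = v with hS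
    have hScard : 32 ≤ S.card := by
      by_cases hne : ∃ i, D.Ibar s i ∧ i ≠ 0
      · obtain ⟨i, hi', hi0⟩ := hne
        have hall : ∀ v, cact D.F s v = v → D.Cen s v := fun v hv =>
          O.full hi' hi0 (hpre i (D.cen_fix (O.ibar_cen hi'))) hv
        have hsame : ∀ v, cact D.F s v = v → cact D.F b v + v ≠ 0 → ∀ u, D.Ibar s u → u ≠ 0 →
            u = cact D.F b v + v := by
          intro v hv hk0 u hu hu0
          by_contra hne
          have hkI := O.move hb (hall v hv)
          have hk := D.cen_fix (O.ibar_cen hkI)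
          have h := O.pair hu hu0 (hpre u (D.cen_fix (O.ibar_cen hu))) hkI hk0 hne
            (w := cact D.F b (sm 1 v) + sm 1 v) (by
              rw [D.lin_sm (D.lin_K hbK), ← sm_add]
              exact hpre _ hk)
          rw [bp_add_right] at h
          have h2 := D.bp_cact b u (sm 1 v)
          rw [O.act_ibar hb hu] at h2
          rw [h2] at h
          exact absurd h ((show ∀ p : ZMod 2, p + p ≠ 1 by decide) _)
        by_cases hex : ∃ y, cact D.F s y = y ∧ cact D.F b y + y ≠ 0
        · obtain ⟨y, hy, hy0⟩ := hex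
          have hsub : D.fix s ⊆ S ∪ S.image (· + y) := by
            intro v hv
            rw [mem_union, mem_image]
            have hv' := D.mem_fix.1 hv
            by_cases h0 : cact D.F b v + v = 0
            · exact Or.inl (mem_filter.2 ⟨hv, add_eq_zero6 h0⟩)
            · refine Or.inr ⟨v + y, mem_filter.2 ⟨D.mem_fix.2 (D.fix_add hv' hy), ?_⟩, ?_⟩
              · have e := hsame v hv' h0 _ (O.move hb (hall y hy)) hy0
                refine add_eq_zero6 ?_
                rw [cact_add, add_add_add_comm, ← e, add_self6]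
              · rw [add_assoc, add_self6, add_zero]
          have h1 := (card_le_card hsub).trans (card_union_le _ _)
          have h2 := card_image_le (s := S) (f := (· + y))
          omega
        · push Not at hex
          have hsub : D.fix s ⊆ S := fun v hv =>
            mem_filter.2 ⟨hv, add_eq_zero6 (hex v (D.mem_fix.1 hv))⟩
          have := card_le_card hsub
          omega
      · push Not at hne
        have hsub : D.cenSet s ⊆ S := fun v hv => by
          have hv' := D.mem_cenSet.1 hv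
          exact mem_filter.2 ⟨D.mem_fix.2 (D.cen_fix hv'), add_eq_zero6 (hne _ (O.move hb hv'))⟩
        have h1 := card_le_card hsub
        have h2 := D.card_fix_le (s := s)
        omega
    have hinj : Set.InjOn (fun p : Vec6 × Vec6 => p.1 + sm 1 p.2) ↑(S ×ˢ S) := by
      rintro ⟨p, q⟩ hp ⟨p', q'⟩ hp' e
      simp only [coe_product, Set.mem_prod, mem_coe, hS, mem_filter, D.mem_fix] at hp hp'
      have e' : p + p' = sm 1 (q + q') := by
        have e1 : p + sm 1 q = p' + sm 1 q' := e
        rw [sm_add]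
        calc p + p' = (p + sm 1 q) + (p' + sm 1 q) := by
              rw [add_add_add_comm, add_self6, add_zero]
          _ = _ := by rw [e1, add_add_add_comm, add_self6, zero_add, add_comm]
      have hr : sm 1 (q + q') = 0 := by
        have hf : cact D.F s (p + p') = p + p' := D.fix_add hp.1.1 hp'.1.1
        rw [e', D.anti_sm hsa, D.fix_add hp.2.1 hp'.2.1] at hf
        have := sm_two_add (q + q')
        rw [hf, add_self6] at this
        rw [← this, sm_map_zero]
      rw [hr] at e'
      rw [Prod.mk.injEq]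
      exact ⟨add_eq_zero6 e', add_eq_zero6 (sm_eq_zero hr)⟩
    have hsub2 : (S ×ˢ S).image (fun p => p.1 + sm 1 p.2) ⊆ D.fix b := by
      intro v hv
      obtain ⟨⟨p, q⟩, hp, rfl⟩ := mem_image.1 hv
      simp only [mem_product, hS, mem_filter] at hp
      refine D.mem_fix.2 ?_
      show cact D.F b (p + sm 1 q) = p + sm 1 q
      rw [cact_add, D.lin_sm (D.lin_K hbK), hp.1.2, hp.2.2]
    have h3 := card_le_card hsub2
    rw [card_image_of_injOn hinj, card_product, h256] at h3
    nlinarith
  -- the whole acting part has at most eight elements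
  obtain ⟨Sq, hSq, hSqc⟩ : ∃ Sq : Finset (Subgroup.centralizer ({z} : Set G)),
      (∀ b : Subgroup.centralizer ({z} : Set G), (b : G) ∈ LargeExtra.oc (s : G) → b ∈ D.K → b ∈ Sq) ∧
        Sq.card ≤ 4 := by
    haveI : Fintype Q := Fintype.ofFinite _
    refine ⟨((univ : Finset Q).filter fun q => InI s q).image Subtype.val, fun b hb hbK =>
      mem_image.2 ⟨⟨b, hinK b hb hbK⟩, mem_filter.2 ⟨mem_univ _, hb⟩, rfl⟩, ?_⟩
    refine card_image_le.trans (le_trans ?_ hI4)
    refine card_le_card_of_injOn D.cv (fun q hq => Cent.mem_ibarSet.2 ⟨q, (mem_filter.1 hq).2, rfl⟩) ?_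
    intro q hq r hr e
    exact O.inI_ext (mem_filter.1 hq).2 (mem_filter.1 hr).2 e
  obtain ⟨Ls, hLs, hLsc⟩ : ∃ Ls : Finset (Subgroup.centralizer ({z} : Set G)),
      (∀ b : Subgroup.centralizer ({z} : Set G), (b : G) ∈ LargeExtra.oc (s : G) → D.IsLin b → b ∈ Ls) ∧
        Ls.card ≤ 8 := by
    by_cases hout : ∃ b0 : Subgroup.centralizer ({z} : Set G),
        (b0 : G) ∈ LargeExtra.oc (s : G) ∧ D.IsLin b0 ∧ b0 ∉ D.K
    · obtain ⟨b0, hb0, hb0l, hb0K⟩ := hout
      refine ⟨Sq ∪ Sq.image (b0⁻¹ * ·), fun b hb hbl => ?_, ?_⟩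
      · rw [mem_union, mem_image]
        by_cases hbK : b ∈ D.K
        · exact Or.inl (hSq b hb hbK)
        · exact Or.inr ⟨b0 * b, hSq _ (mul_mem hb0 hb) (hq.lin_two _ _ hb0l hbl hb0K hbK),
            inv_mul_cancel_left _ _⟩
      · refine (card_union_le _ _).trans ?_
        have := card_image_le (s := Sq) (f := (b0⁻¹ * ·))
        omega
    · push Not at hout
      exact ⟨Sq, fun b hb hbl => hSq b hb (hout b hb hbl), by omega⟩
  obtain ⟨Bs, hBs, hBsc⟩ : ∃ Bs : Finset (Subgroup.centralizer ({z} : Set G)),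
      (∀ b : Subgroup.centralizer ({z} : Set G), (b : G) ∈ LargeExtra.oc (s : G) → b ∈ Bs) ∧
        Bs.card ≤ 16 := by
    by_cases hout : ∃ b0 : Subgroup.centralizer ({z} : Set G),
        (b0 : G) ∈ LargeExtra.oc (s : G) ∧ D.IsAnti b0
    · obtain ⟨b0, hb0, hb0a⟩ := hout
      refine ⟨Ls ∪ Ls.image (b0⁻¹ * ·), fun b hb => ?_, ?_⟩
      · rw [mem_union, mem_image]
        rcases hq.semi b with hb' | hb'
        · exact Or.inl (hLs b hb hb')
        · exact Or.inr ⟨b0 * b, hLs _ (mul_mem hb0 hb) (D.anti_mul hb0a hb'), inv_mul_cancel_left _ _⟩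
      · refine (card_union_le _ _).trans ?_
        have := card_image_le (s := Ls) (f := (b0⁻¹ * ·))
        omega
    · push Not at hout
      exact ⟨Ls, fun b hb => hLs b hb ((hq.semi b).resolve_right (hout b hb)), by omega⟩
  -- but it is a conjugate of a large group
  set s' : Subgroup.centralizer ({z} : Set G) := ⟨g⁻¹ * z * g, O.back_mem⟩ with hs'
  have hfix' : 64 ≤ (D.fix s').card := by
    by_cases hK : s' ∈ D.K
    · rw [hi s' hK O.back_spec.1 (by rw [O.back_spec.2]; exact Q.one_mem)]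
      norm_num
    · exact O.fix_anti_ge ((hq.semi s').resolve_left fun h => hK (hlin g⁻¹ s' (by rw [inv_inv, hs']) h)) O.back_spec.2
  have hex : ∀ v, D.Cen s' v → ∃ b : Subgroup.centralizer ({z} : Set G),
      (b : G) ∈ LargeExtra.oc (s : G) ∧
        (b : G) = g * ((LargeFischer.lift D.F v : Subgroup.centralizer ({z} : Set G)) : G) * g⁻¹ :=
    fun v hv => O.exists_push hv
  choose! f hf hfe using hex
  have hcard : (D.cenSet s').card ≤ Bs.card := by
    refine card_le_card_of_injOn f (fun v hv => hBs _ (hf v (D.mem_cenSet.1 hv))) ?_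
    intro v hv w hw e
    have e1 := congrArg Subtype.val e
    rw [hfe v (D.mem_cenSet.1 hv), hfe w (D.mem_cenSet.1 hw)] at e1
    have e2 : LargeFischer.lift D.F v = LargeFischer.lift D.F w :=
      Subtype.ext (Subtype.ext (mul_left_cancel (mul_right_cancel e1)))
    rw [← D.cv_lift v, e2, D.cv_lift]
  have := D.card_fix_le (s := s')
  omega

end Out

/-- When no conjugate of `z` acts linearly outside `K` and `z` is weakly closed in `Q`, it is isolated in `C(z)`. -/
theorem isolated (D : Cent z Q) (hq : Quot D) (hi : D.InnerFix) (hlin : ∀ (g : G) (h : Subgroup.centralizer ({z} : Set G)),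
      g * z * g⁻¹ = (h : G) → D.IsLin h → h ∈ D.K)
    (hw : Weak z Q) : ∀ g : G, g * z * g⁻¹ ∈ Subgroup.centralizer ({z} : Set G) → g * z * g⁻¹ = z := by
  intro g hg
  by_cases hQ : g * z * g⁻¹ ∈ LargeExtra.oc z
  · obtain ⟨q, hqe⟩ := D.mem_oc_iff.1 hQ
    exact hw g q hqe.symm
  · exfalso
    have O : Out D g ⟨_, hg⟩ := ⟨rfl, hQ, hw⟩
    by_cases hK : (⟨_, hg⟩ : Subgroup.centralizer ({z} : Set G)) ∈ D.K
    · exact O.false_of_mem hq hi hK
    · exact O.false_of_notMem hq hi hlin hK

end Cfsg.Agent.Fi24Cent
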