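import Cfsg.Agent.Fi24Cent.Setting
import Cfsg.Agent.LargeFischer.Bilin
import Cfsg.Agent.LargeFischer.Twist

/-!
Coordinates of the elements of `Q`, and the part of `Q` centralised by an involution of `C(z)`.
-/

set_option autoImplicit false
set_option maxRecDepth 20000
set_option Elab.async false
set_option linter.unusedSectionVars false

open Finset Cfsg Cfsg.Agent Cfsg.Agent.LargeFischer

namespace Cfsg.Agent.Fi24Cent

theorem sm_one_add (v : Vec6) : sm 1 v + v = sm 2 v := funext fun _ =>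
  (show ∀ p : W4, omk 1 p + p = omk 2 p by decide) _

theorem sm_two_add (v : Vec6) : sm 2 v + sm 1 v = v := funext fun _ =>
  (show ∀ p : W4, omk 2 p + omk 1 p = p by decide) _

theorem sm_two_inv (v : Vec6) : sm 2 (sm 1 v) = v := by
  rw [sm_sm, show (2 : ZMod 3) + 1 = 0 from rfl, sm_zero]

theorem sm_one_one (v : Vec6) : sm 1 (sm 1 v) = sm 2 v := by
  rw [sm_sm]; rfl

theorem sm_map_zero (a : ZMod 3) : sm a (0 : Vec6) = 0 := funext fun _ => (omk_facts.1 _ _).2 rfl

theorem bp_sm (k : ZMod 3) (a c : Vec6) : bp (sm k a) (sm k c) = bp a c := by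
  rw [bp_eq, bp_eq, ← sm_add, sm, sm, sm, par_dg, par_dg, par_dg]

theorem bp_zero_l (a : Vec6) : bp 0 a = 0 := by
  have h := bp_add_left 0 0 a
  rw [add_zero] at h
  exact left_eq_add.1 h

namespace Cent

variable {G : Type*} [Group G] [Finite G] {z : G}
  {Q : Subgroup (Subgroup.centralizer ({z} : Set G))} [Q.Normal] (D : Cent z Q)
include D

/-- The coordinates of an element of `Q`. -/
noncomputable def cv (q : Q) : Vec6 :=
  Classical.choose (D.F.bij.2 (q : ↥Q ⧸ Subgroup.center ↥Q))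

theorem mk_cv (q : Q) : (q : ↥Q ⧸ Subgroup.center ↥Q) = D.F.co (D.cv q) :=
  (Classical.choose_spec (D.F.bij.2 (q : ↥Q ⧸ Subgroup.center ↥Q))).symm

theorem cv_eq {q : Q} {v : Vec6} (h : (q : ↥Q ⧸ Subgroup.center ↥Q) = D.F.co v) : D.cv q = v :=
  D.F.bij.1 ((D.mk_cv q).symm.trans h)

theorem cv_lift (v : Vec6) : D.cv (LargeFischer.lift D.F v) = v := D.cv_eq (mk_lift D.F v)

theorem cv_mul (q r : Q) : D.cv (q * r) = D.cv q + D.cv r :=
  D.cv_eq (by rw [QuotientGroup.mk_mul, D.F.map_add, ← D.mk_cv, ← D.mk_cv])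

theorem cv_eq_zero {q : Q} :
    D.cv q = 0 ↔ q = 1 ∨ (q : Subgroup.centralizer ({z} : Set G)) = zc z := by
  rw [← center_iff D.b, ← QuotientGroup.eq_one_iff, D.mk_cv, ← co_zero D.b D.F]
  exact ⟨fun h => by rw [h], fun h => D.F.bij.1 h⟩

theorem cv_inv (q : Q) : D.cv q⁻¹ = D.cv q := by
  refine add_eq_zero6 ?_
  rw [← D.cv_mul, inv_mul_cancel]
  exact D.cv_eq_zero.2 (Or.inl rfl)

theorem cv_conj (h : Subgroup.centralizer ({z} : Set G)) (q : Q) :
    D.cv (MulAut.conjNormal h q) = cact D.F h (D.cv q) :=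
  D.cv_eq (by rw [co_cact, ← D.mk_cv, actV_mk])

theorem cv_inj {q r : Q} (h : D.cv q = D.cv r) :
    r = q ∨ (r : Subgroup.centralizer ({z} : Set G)) = q * zc z := by
  have h' : D.cv (q⁻¹ * r) = 0 := by rw [D.cv_mul, D.cv_inv, h, add_self6]
  rcases D.cv_eq_zero.1 h' with e | e
  · exact Or.inl (inv_mul_eq_one.1 e).symm
  · rw [Subgroup.coe_mul, Subgroup.coe_inv, inv_mul_eq_iff_eq_mul] at e
    exact Or.inr e

theorem comm_iff (q r : Q) : q * r = r * q ↔ bp (D.cv q) (D.cv r) = 0 := by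
  rw [← perp_bp, ← B_perp D.b D.F, B_eq D.b D.F (D.mk_cv q) (D.mk_cv r)]
  constructor
  · exact fun h => if_pos (commutatorElement_eq_one_iff_mul_comm.2 h)
  · intro h
    refine commutatorElement_eq_one_iff_mul_comm.1 ?_
    by_contra hne
    rw [if_neg (show ¬(q * r * q⁻¹ * r⁻¹ = 1) from hne)] at h
    exact absurd h (by decide)

theorem bp_cact (h : Subgroup.centralizer ({z} : Set G)) (a c : Vec6) :
    bp (cact D.F h a) (cact D.F h c) = bp a c := by
  rw [bp_eq, bp_eq, ← cact_add, cact_par D.b D.F, cact_par D.b D.F, cact_par D.b D.F]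

theorem lin_sm {h : Subgroup.centralizer ({z} : Set G)} (hh : D.IsLin h) (v : Vec6) :
    cact D.F h (sm 1 v) = sm 1 (cact D.F h v) := hh v

theorem anti_sm {h : Subgroup.centralizer ({z} : Set G)} (hh : D.IsAnti h) (v : Vec6) :
    cact D.F h (sm 1 v) = sm 2 (cact D.F h v) := hh v

theorem anti_mul {a b : Subgroup.centralizer ({z} : Set G)} (ha : D.IsAnti a) (hb : D.IsAnti b) :
    D.IsLin (a * b) := fun v => by
  show cact D.F (a * b) (sm 1 v) = sm 1 (cact D.F (a * b) v)
  rw [cact_mul, cact_mul, D.anti_sm hb, ← sm_one_one, D.anti_sm ha, D.anti_sm ha, sm_sm]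
  rfl

/-! ### The part centralised by an involution -/

/-- The lifts of `v` commute with `s`. -/
def Cen (s : Subgroup.centralizer ({z} : Set G)) (v : Vec6) : Prop :=
  Commute (LargeFischer.lift D.F v : Subgroup.centralizer ({z} : Set G)) s

variable {s : Subgroup.centralizer ({z} : Set G)}

theorem cen_iff (q : Q) : D.Cen s (D.cv q) ↔ Commute (q : Subgroup.centralizer ({z} : Set G)) s := by
  have hz : Commute (zc z) s := (D.zc_comm s).symm
  rcases D.cv_inj (D.cv_lift (D.cv q)).symm with e | e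
  · rw [Cen, e]
  · rw [Cen, e]
    refine ⟨fun h => ?_, fun h => h.mul_left hz⟩
    have h' := h.mul_left hz.inv_left
    rwa [mul_inv_cancel_right] at h'

theorem cen_fix {v : Vec6} (h : D.Cen s v) : cact D.F s v = v := by
  rw [← D.cv_lift v, ← D.cv_conj]
  congr 1
  exact Subtype.ext (by rw [MulAut.conjNormal_apply, mul_inv_eq_iff_eq_mul]; exact h.eq.symm)

theorem cen_zero : D.Cen s 0 := by
  have h1 : D.cv (1 : Q) = 0 := D.cv_eq_zero.2 (Or.inl rfl)
  rw [← h1, D.cen_iff]
  exact Commute.one_left s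

theorem cen_add {v w : Vec6} (hv : D.Cen s v) (hw : D.Cen s w) : D.Cen s (v + w) := by
  rw [← D.cv_lift v, D.cen_iff] at hv
  rw [← D.cv_lift w, D.cen_iff] at hw
  rw [← D.cv_lift v, ← D.cv_lift w, ← D.cv_mul, D.cen_iff]
  exact hv.mul_left hw

theorem fix_add {v w : Vec6} (hv : cact D.F s v = v) (hw : cact D.F s w = w) :
    cact D.F s (v + w) = v + w := by
  rw [cact_add, hv, hw]

theorem fix_moved {q : Q} (hv : cact D.F s (D.cv q) = D.cv q)
    (hn : ¬ Commute (q : Subgroup.centralizer ({z} : Set G)) s) :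
    s * (q : Subgroup.centralizer ({z} : Set G)) * s⁻¹ = q * zc z := by
  rcases D.cv_inj ((D.cv_conj s q).trans hv).symm with e | e
  · refine absurd ?_ hn
    have e' := congrArg Subtype.val e
    rw [MulAut.conjNormal_apply, mul_inv_eq_iff_eq_mul] at e'
    exact e'.symm
  · rwa [MulAut.conjNormal_apply] at e

theorem cen_of_two {v w : Vec6} (hv : cact D.F s v = v) (hw : cact D.F s w = w)
    (hnv : ¬ D.Cen s v) (hnw : ¬ D.Cen s w) : D.Cen s (v + w) := by
  rw [← D.cv_lift v] at hv hnv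
  rw [← D.cv_lift w] at hw hnw
  rw [D.cen_iff] at hnv hnw
  have e1 := D.fix_moved hv hnv
  have e2 := D.fix_moved hw hnw
  rw [← D.cv_lift v, ← D.cv_lift w, ← D.cv_mul, D.cen_iff, Subgroup.coe_mul]
  set a := (LargeFischer.lift D.F v : Subgroup.centralizer ({z} : Set G))
  set b := (LargeFischer.lift D.F w : Subgroup.centralizer ({z} : Set G))
  have e : s * (a * b) * s⁻¹ = a * b := by
    rw [show s * (a * b) * s⁻¹ = (s * a * s⁻¹) * (s * b * s⁻¹) by group, e1, e2, mul_assoc a,
      ← mul_assoc (zc z), ← D.zc_comm b, mul_assoc b, zc_sq D.b, mul_one]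
  exact (mul_inv_eq_iff_eq_mul.1 e).symm

open scoped _root_.Classical in
/-- The fixed vectors whose lifts commute. -/
noncomputable def cenSet (s : Subgroup.centralizer ({z} : Set G)) : Finset Vec6 :=
  univ.filter fun v => D.Cen s v

theorem mem_cenSet {v : Vec6} : v ∈ D.cenSet s ↔ D.Cen s v := by simp [cenSet]

theorem card_fix_le : (D.fix s).card ≤ 2 * (D.cenSet s).card := by
  classical
  by_cases h : ∀ v, cact D.F s v = v → D.Cen s v
  · have hsub : D.fix s ⊆ D.cenSet s := fun v hv => D.mem_cenSet.2 (h v (D.mem_fix.1 hv))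
    exact (card_le_card hsub).trans (by omega)
  push Not at h
  obtain ⟨x, hx, hnx⟩ := h
  have hsub : D.fix s ⊆ D.cenSet s ∪ (D.cenSet s).image (· + x) := by
    intro v hv
    rw [mem_union, mem_image]
    by_cases hc : D.Cen s v
    · exact Or.inl (D.mem_cenSet.2 hc)
    · refine Or.inr ⟨v + x, D.mem_cenSet.2 (D.cen_of_two (D.mem_fix.1 hv) hx hc hnx), ?_⟩
      rw [add_assoc, add_self6, add_zero]
  refine (card_le_card hsub).trans ((card_union_le _ _).trans ?_)
  have := card_image_le (s := D.cenSet s) (f := (· + x))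
  omega

/-- Two elements of `Q` centralising `s` that do not commute. -/
theorem exists_noncomm (hd : 256 ≤ (D.fix s).card) :
    ∃ a b : Q, Commute (a : Subgroup.centralizer ({z} : Set G)) s ∧
      Commute (b : Subgroup.centralizer ({z} : Set G)) s ∧ a * b ≠ b * a := by
  classical
  let U : AddSubgroup Vec6 :=
    { carrier := {v | D.Cen s v}
      zero_mem' := D.cen_zero
      add_mem' := fun ha hb => D.cen_add ha hb
      neg_mem' := fun {a} ha => by
        have e : -a = a := funext fun _ => (show ∀ p : W4, -p = p by decide) _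
        rwa [Set.mem_ofPred_eq, e] }
  have hU : Nat.card ↥U = (D.cenSet s).card := by
    rw [Nat.card_eq_fintype_card, Fintype.card_subtype]
    congr 1
  by_contra hne
  push Not at hne
  have hiso : U ≤ perpSub U := by
    intro v hv u hu
    have h := (D.comm_iff (LargeFischer.lift D.F u) (LargeFischer.lift D.F v)).1 (hne _ _ hu hv)
    rwa [D.cv_lift, D.cv_lift] at h
  have h1 := card_perpSub U
  have h2 := Nat.le_of_dvd Nat.card_pos (AddSubgroup.card_dvd_of_le hiso)
  rw [hU] at h1 h2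
  have h3 := D.card_fix_le (s := s)
  nlinarith

/-- commutators of `C(z)` lie in `K` -/
theorem comm_mem_K (hq : Quot D) (a b : Subgroup.centralizer ({z} : Set G)) :
    a * b * a⁻¹ * b⁻¹ ∈ D.K := by
  have e : a * b * a⁻¹ * b⁻¹ = a * b * (a * b) * (b⁻¹ * (a⁻¹ * a⁻¹) * b) * (b⁻¹ * b⁻¹) := by group
  rw [e]
  refine D.K.mul_mem (D.K.mul_mem (hq.sq _) ?_) (hq.sq _)
  have := D.norm.conj_mem _ (hq.sq a⁻¹) b⁻¹
  rwa [inv_inv] at this

/-- With a large fixed space the conjugate of `z` the other way lies in `K`. -/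
theorem swap_mem_K (hq : Quot D) {g : G} (hs : g * z * g⁻¹ = (s : G)) (hd : 256 ≤ (D.fix s).card) :
    ∃ h : g⁻¹ * z * g ∈ Subgroup.centralizer ({z} : Set G),
      (⟨_, h⟩ : Subgroup.centralizer ({z} : Set G)) ∈ D.K := by
  obtain ⟨a, b, ha, hb, hab⟩ := D.exists_noncomm hd
  have hcent : ∀ {x : Subgroup.centralizer ({z} : Set G)}, Commute x s →
      g⁻¹ * (x : G) * g ∈ Subgroup.centralizer ({z} : Set G) := by
    intro x hx
    have h : (x : G) * (g * z * g⁻¹) = g * z * g⁻¹ * x := by rw [hs]; exact congrArg Subtype.val hx.eq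
    rw [Subgroup.mem_centralizer_singleton_iff]
    calc g⁻¹ * (x : G) * g * z = g⁻¹ * ((x : G) * (g * z * g⁻¹)) * g := by group
      _ = z * (g⁻¹ * (x : G) * g) := by rw [h]; group
  have hc : ((a : Subgroup.centralizer ({z} : Set G)) : G) * (b : Subgroup.centralizer ({z} : Set G)) *
      ((a : Subgroup.centralizer ({z} : Set G)) : G)⁻¹ * ((b : Subgroup.centralizer ({z} : Set G)) : G)⁻¹ = z := by
    rcases (center_iff D.b).1 (comm_mem D.b a b) with h | h
    · exact absurd (commutatorElement_eq_one_iff_mul_comm.1 h) hab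
    · exact congrArg Subtype.val h
  set a' : Subgroup.centralizer ({z} : Set G) := ⟨_, hcent ha⟩
  set b' : Subgroup.centralizer ({z} : Set G) := ⟨_, hcent hb⟩
  have e : ((a' * b' * a'⁻¹ * b'⁻¹ : Subgroup.centralizer ({z} : Set G)) : G) = g⁻¹ * z * g := by
    conv_rhs => rw [← hc]
    simp only [Subgroup.coe_mul, Subgroup.coe_inv, a', b']
    group
  refine ⟨e ▸ (a' * b' * a'⁻¹ * b'⁻¹).2, ?_⟩
  convert D.comm_mem_K hq a' b' using 1
  exact Subtype.ext e.symm

end Cent

end Cfsg.Agent.Fi24Cent
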