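import Cfsg.Agent.Fi24Cent.IsolatedBase

/-!
The two elementary groups met by a conjugate `s` of `z` in `C(z)` outside `Q`: the common part of `Q` and
`O₂(C(s))`, and the action on `V` of `O₂(C(s)) ∩ C(z)`.
-/

set_option autoImplicit false
set_option maxRecDepth 20000
set_option Elab.async false
set_option linter.unusedSectionVars false

open Finset Cfsg Cfsg.Agent Cfsg.Agent.LargeFischer

namespace Cfsg.Agent.Fi24Cent

variable {G : Type*} [Group G] [Finite G] {z : G}
  {Q : Subgroup (Subgroup.centralizer ({z} : Set G))} [Q.Normal]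

/-- An element of `Q` lying also in `O₂(C(s))`. -/
def InI (s : Subgroup.centralizer ({z} : Set G)) (q : Q) : Prop :=
  ((q : Subgroup.centralizer ({z} : Set G)) : G) ∈ LargeExtra.oc (s : G)

/-- The image in `V` of the common part. -/
def Cent.Ibar (D : Cent z Q) (s : Subgroup.centralizer ({z} : Set G)) (v : Vec6) : Prop :=
  ∃ q : Q, InI s q ∧ D.cv q = v

open scoped _root_.Classical in
/-- The image in `V` of the common part, as a finite set. -/
noncomputable def Cent.ibarSet (D : Cent z Q) (s : Subgroup.centralizer ({z} : Set G)) : Finset Vec6 :=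
  univ.filter fun v => D.Ibar s v

theorem Cent.mem_ibarSet {D : Cent z Q} {s : Subgroup.centralizer ({z} : Set G)} {v : Vec6} :
    v ∈ D.ibarSet s ↔ D.Ibar s v := by simp [Cent.ibarSet]

/-- A conjugate `s` of `z` outside `Q`, no other conjugate of `z` lying in `Q`. -/
structure Out (D : Cent z Q) (g : G) (s : Subgroup.centralizer ({z} : Set G)) : Prop where
  hs : g * z * g⁻¹ = (s : G)
  notQ : (s : G) ∉ LargeExtra.oc z
  weak : Weak z Q

namespace Out

variable {D : Cent z Q} {g : G} {s : Subgroup.centralizer ({z} : Set G)} (O : Out D g s)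
include O

theorem sq_one : s * s = 1 := Subtype.ext (by
  show (s : G) * s = 1
  rw [← O.hs, show g * z * g⁻¹ * (g * z * g⁻¹) = g * (z * z) * g⁻¹ by group, D.setting.sq_one]
  group)

theorem inv_eq : s⁻¹ = s := inv_eq_of_mul_eq_one_left O.sq_one

theorem c_invol (v : Vec6) : cact D.F s (cact D.F s v) = v := by
  rw [← cact_mul, O.sq_one, cact_one]

theorem pre_fix (w : Vec6) : cact D.F s (cact D.F s w + w) = cact D.F s w + w := by
  rw [cact_add, O.c_invol, add_comm]

theorem pull {x : G} (hx : x ∈ LargeExtra.oc (s : G)) : g⁻¹ * x * g ∈ LargeExtra.oc z := by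
  have h := LargeExtra.conj_mem_oc (g := g⁻¹) hx
  rwa [inv_inv, ← O.hs, show g⁻¹ * (g * z * g⁻¹) * g = z by group] at h

theorem push {x : G} (hx : x ∈ LargeExtra.oc z) : g * x * g⁻¹ ∈ LargeExtra.oc (s : G) := by
  have h := LargeExtra.conj_mem_oc (g := g) hx
  rwa [O.hs] at h

theorem z_notMem : z ∉ LargeExtra.oc (s : G) := fun h => by
  have h1 : g⁻¹ * z * g⁻¹⁻¹ ∈ LargeExtra.oc z := by rw [inv_inv]; exact O.pull h
  have h2 := LargeExtra.conj_mem_oc (g := g) (D.setting.symm h1)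
  rw [O.hs, show g * (g⁻¹ * z * g⁻¹⁻¹) * g⁻¹ = z by group] at h2
  exact O.notQ h2

theorem notConj {b : G} (hb : b ∈ LargeExtra.oc (s : G)) {k : G} (h : k * z * k⁻¹ = (s : G) * b) :
    b = 1 := by
  have e : g⁻¹ * k * z * (g⁻¹ * k)⁻¹ = z * (g⁻¹ * b * g) := by
    rw [show g⁻¹ * k * z * (g⁻¹ * k)⁻¹ = g⁻¹ * (k * z * k⁻¹) * g by group, h, ← O.hs]
    group
  have hmem : z * (g⁻¹ * b * g) ∈ LargeExtra.oc z :=
    mul_mem (LargeExtra.mem_oc_self D.b.hz) (O.pull hb)
  obtain ⟨q, hq⟩ := D.mem_oc_iff.1 (e ▸ hmem)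
  have h1 := O.weak (g⁻¹ * k) q hq.symm
  rw [e] at h1
  calc b = g * (g⁻¹ * b * g) * g⁻¹ := by group
    _ = 1 := by rw [mul_eq_left.1 h1]; group

theorem sq_cases {x : G} (hx : x ∈ LargeExtra.oc (s : G)) : x * x = 1 ∨ x * x = (s : G) := by
  obtain ⟨q, hq⟩ := D.mem_oc_iff.1 (O.pull hx)
  have e : x * x = g * (g⁻¹ * x * g * (g⁻¹ * x * g)) * g⁻¹ := by group
  rw [e, ← hq, ← O.hs]
  rcases (center_iff D.b).1 (sq_mem D.b q) with h | h
  · left
    rw [show ((q : Subgroup.centralizer ({z} : Set G)) : G) * (q : Subgroup.centralizer ({z} : Set G)) = 1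
      from congrArg (fun r : Q => ((r : Subgroup.centralizer ({z} : Set G)) : G)) h]
    group
  · right
    rw [show ((q : Subgroup.centralizer ({z} : Set G)) : G) * (q : Subgroup.centralizer ({z} : Set G)) = z
      from congrArg Subtype.val h]

theorem comm_cases {a b : G} (ha : a ∈ LargeExtra.oc (s : G)) (hb : b ∈ LargeExtra.oc (s : G)) :
    a * b * a⁻¹ * b⁻¹ = 1 ∨ a * b * a⁻¹ * b⁻¹ = (s : G) := by
  have e : a * b * a⁻¹ * b⁻¹ = g * (g⁻¹ * a * g * (g⁻¹ * b * g) * (g⁻¹ * a * g)⁻¹ * (g⁻¹ * b * g)⁻¹) * g⁻¹ := by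
    group
  rw [e, ← O.hs]
  rcases D.setting.commutator_cases (O.pull ha) (O.pull hb) with h | h <;> rw [h]
  · left; group
  · exact Or.inr rfl

theorem commute_of_mem {b : Subgroup.centralizer ({z} : Set G)} (hb : (b : G) ∈ LargeExtra.oc (s : G)) :
    Commute b s :=
  Subtype.ext (Subgroup.mem_centralizer_singleton_iff.1 (LargeExtra.oc_le _ hb))

theorem conj_mem {b : Subgroup.centralizer ({z} : Set G)} (hb : Commute b s) {x : G}
    (hx : x ∈ LargeExtra.oc (s : G)) : (b : G) * x * (b : G)⁻¹ ∈ LargeExtra.oc (s : G) := by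
  have h := LargeExtra.conj_mem_oc (g := (b : G)) hx
  rwa [show (b : G) * (s : G) * (b : G)⁻¹ = s by
    rw [mul_inv_eq_iff_eq_mul]; exact congrArg Subtype.val hb.eq] at h

/-! ### The common part -/

theorem inI_mul {q r : Q} (hq : InI s q) (hr : InI s r) : InI s (q * r) := mul_mem hq hr

theorem ibar_cen {v : Vec6} (hv : D.Ibar s v) : D.Cen s v := by
  obtain ⟨q, hq, rfl⟩ := hv
  exact (D.cen_iff q).2 (O.commute_of_mem hq)

theorem ibar_zero : D.Ibar s 0 :=
  ⟨1, one_mem (LargeExtra.oc (s : G)), D.cv_eq_zero.2 (Or.inl rfl)⟩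

theorem ibar_add {v w : Vec6} (hv : D.Ibar s v) (hw : D.Ibar s w) : D.Ibar s (v + w) := by
  obtain ⟨q, hq, rfl⟩ := hv
  obtain ⟨r, hr, rfl⟩ := hw
  exact ⟨q * r, O.inI_mul hq hr, D.cv_mul q r⟩

theorem inI_ext {q r : Q} (hq : InI s q) (hr : InI s r) (h : D.cv q = D.cv r) : q = r := by
  rcases D.cv_inj h with e | e
  · exact e.symm
  · exfalso
    refine O.z_notMem ?_
    have h2 := mul_mem (inv_mem hq) hr
    rwa [e, Subgroup.coe_mul, inv_mul_cancel_left] at h2

theorem perp {v w : Vec6} (hv : D.Cen s v) (hw : D.Ibar s w) : bp v w = 0 := by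
  obtain ⟨i, hi, rfl⟩ := hw
  obtain ⟨a, rfl⟩ : ∃ a : Q, D.cv a = v := ⟨_, D.cv_lift v⟩
  rw [D.cen_iff] at hv
  rw [← D.comm_iff]
  rcases (center_iff D.b).1 (comm_mem D.b a i) with h | h
  · exact commutatorElement_eq_one_iff_mul_comm.1 h
  · exfalso
    refine O.z_notMem ?_
    have h2 := mul_mem (O.conj_mem hv hi) (inv_mem hi)
    rwa [show ((a : Subgroup.centralizer ({z} : Set G)) : G) * (i : Subgroup.centralizer ({z} : Set G)) *
      ((a : Subgroup.centralizer ({z} : Set G)) : G)⁻¹ * ((i : Subgroup.centralizer ({z} : Set G)) : G)⁻¹ = z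
      from congrArg Subtype.val h] at h2

theorem star {i j : Q} (hi : InI s i) (hi0 : D.cv i ≠ 0)
    (hj : cact D.F s (D.cv j) + D.cv j = D.cv i) :
    (j : Subgroup.centralizer ({z} : Set G)) * s * (j : Subgroup.centralizer ({z} : Set G))⁻¹ =
      s * i * zc z := by
  set m : Q := MulAut.conjNormal s j * j⁻¹ with hm
  have hcv : D.cv m = D.cv i := by rw [hm, D.cv_mul, D.cv_conj, D.cv_inv, hj]
  have hmv : s * (m : Subgroup.centralizer ({z} : Set G)) =
      (j : Subgroup.centralizer ({z} : Set G)) * s * (j : Subgroup.centralizer ({z} : Set G))⁻¹ := by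
    rw [hm, Subgroup.coe_mul, MulAut.conjNormal_apply, Subgroup.coe_inv, O.inv_eq,
      ← mul_assoc s, ← mul_assoc s, ← mul_assoc s, O.sq_one, one_mul]
  rcases D.cv_inj hcv.symm with e | e
  · exfalso
    rw [e] at hmv
    have h := O.notConj hi (k := ((j : Subgroup.centralizer ({z} : Set G)) : G) * g) (by
      rw [show ((j : Subgroup.centralizer ({z} : Set G)) : G) * g * z *
          (((j : Subgroup.centralizer ({z} : Set G)) : G) * g)⁻¹ =
        ((j : Subgroup.centralizer ({z} : Set G)) : G) * (g * z * g⁻¹) *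
          ((j : Subgroup.centralizer ({z} : Set G)) : G)⁻¹ by group, O.hs]
      exact (congrArg Subtype.val hmv).symm)
    exact hi0 (D.cv_eq_zero.2 (Or.inl (Subtype.ext (Subtype.ext h))))
  · rw [← hmv, e, mul_assoc]

/-- If the common part meets the commutator space, all of the fixed space is centralised. -/
theorem full {i w : Vec6} (hi : D.Ibar s i) (hi0 : i ≠ 0) (hw : cact D.F s w + w = i)
    {v : Vec6} (hv : cact D.F s v = v) : D.Cen s v := by
  obtain ⟨i, hiI, rfl⟩ := hi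
  obtain ⟨j, rfl⟩ : ∃ j : Q, D.cv j = w := ⟨_, D.cv_lift w⟩
  obtain ⟨k, rfl⟩ : ∃ k : Q, D.cv k = v := ⟨_, D.cv_lift v⟩
  rw [D.cen_iff]
  by_contra hn
  have e1 := D.fix_moved hv hn
  have e2 := O.star hiI hi0 hw
  set jH := (j : Subgroup.centralizer ({z} : Set G))
  set kH := (k : Subgroup.centralizer ({z} : Set G))
  have e3 : kH⁻¹ * s * kH = s * zc z := by
    rw [O.inv_eq] at e1
    calc kH⁻¹ * s * kH = kH⁻¹ * (s * kH * s) * s := by
          rw [mul_assoc kH⁻¹ (s * kH * s) s, mul_assoc (s * kH) s s, O.sq_one, mul_one, mul_assoc]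
      _ = zc z * s := by rw [e1]; group
      _ = s * zc z := (D.zc_comm s).symm
  have e4 : jH * (kH⁻¹ * s * kH) * jH⁻¹ = s * i := by
    rw [e3, show jH * (s * zc z) * jH⁻¹ = (jH * s * jH⁻¹) * (jH * zc z * jH⁻¹) by group, e2,
      D.zc_comm jH, mul_inv_cancel_right, mul_assoc, zc_sq D.b, mul_one]
  have h := O.notConj hiI (k := (jH : G) * (kH : G)⁻¹ * g) (by
    rw [show (jH : G) * (kH : G)⁻¹ * g * z * ((jH : G) * (kH : G)⁻¹ * g)⁻¹ =
      (jH : G) * ((kH : G)⁻¹ * (g * z * g⁻¹) * (kH : G)) * (jH : G)⁻¹ by group, O.hs]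
    exact congrArg Subtype.val e4)
  exact hi0 (D.cv_eq_zero.2 (Or.inl (Subtype.ext (Subtype.ext h))))

/-- Two members of the common part in the commutator space are not perpendicular through it. -/
theorem pair {i k w₁ w : Vec6} (hi : D.Ibar s i) (hi0 : i ≠ 0) (hw₁ : cact D.F s w₁ + w₁ = i)
    (hk : D.Ibar s k) (hk0 : k ≠ 0) (hne : i ≠ k) (hw : cact D.F s w + w = k) : bp i w = 1 := by
  refine (zmod2_cases _).resolve_left fun h0 => ?_
  obtain ⟨i, hiI, rfl⟩ := hi
  obtain ⟨k, hkI, rfl⟩ := hk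
  obtain ⟨j, rfl⟩ : ∃ j : Q, D.cv j = w₁ := ⟨_, D.cv_lift w₁⟩
  obtain ⟨j', rfl⟩ : ∃ j' : Q, D.cv j' = w := ⟨_, D.cv_lift w⟩
  have hki : D.cv (k * i) ≠ 0 := by
    rw [D.cv_mul]
    exact fun e => hne (add_eq_zero6 e).symm
  have e1 := O.star hiI hi0 hw₁
  have e2 := O.star hkI hk0 hw
  have e3 := O.star (O.inI_mul hkI hiI) hki (j := j' * j) (by
    rw [D.cv_mul, D.cv_mul, cact_add, add_add_add_comm, hw, hw₁])
  have hcomm := congrArg Subtype.val ((D.comm_iff i j').2 h0)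
  simp only [Subgroup.coe_mul] at e3 hcomm
  set iH := (i : Subgroup.centralizer ({z} : Set G))
  set kH := (k : Subgroup.centralizer ({z} : Set G))
  set jH := (j : Subgroup.centralizer ({z} : Set G))
  set jH' := (j' : Subgroup.centralizer ({z} : Set G))
  have e4 : jH' * jH * s * (jH' * jH)⁻¹ = s * (kH * iH) := by
    rw [show jH' * jH * s * (jH' * jH)⁻¹ = jH' * (jH * s * jH⁻¹) * jH'⁻¹ by group, e1,
      show jH' * (s * iH * zc z) * jH'⁻¹ =
        (jH' * s * jH'⁻¹) * (jH' * iH * jH'⁻¹) * (jH' * zc z * jH'⁻¹) by group, e2, ← hcomm,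
      mul_inv_cancel_right, D.zc_comm jH', mul_inv_cancel_right, mul_assoc (s * kH) (zc z) iH,
      ← D.zc_comm iH, ← mul_assoc (s * kH) iH, mul_assoc (s * kH * iH), zc_sq D.b, mul_one, mul_assoc]
  rw [e4] at e3
  exact zc_ne_one D.b (mul_eq_left.1 e3.symm)

/-- At most four vectors in the common part, when it lies in the commutator space. -/
theorem card_ibar (hT : ∀ v, D.Ibar s v → ∃ w, cact D.F s w + w = v) : (D.ibarSet s).card ≤ 4 := by
  classical
  by_contra hc
  push Not at hc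
  have pick : ∀ S : Finset Vec6, S.card ≤ 4 → ∃ x, D.Ibar s x ∧ x ∉ S := fun S hS => by
    obtain ⟨x, hx, hxS⟩ := exists_mem_notMem_of_card_lt_card (s := S) (t := D.ibarSet s) (by omega)
    exact ⟨x, Cent.mem_ibarSet.1 hx, hxS⟩
  obtain ⟨l, hl, hl0⟩ := pick {0} (by simp)
  obtain ⟨i, hi, hiS⟩ := pick {0, l} (card_le_two.trans (by norm_num))
  obtain ⟨k, hk, hkS⟩ := pick {0, l, i, i + l} card_le_four
  simp only [mem_singleton, mem_insert, not_or] at hl0 hiS hkS
  obtain ⟨w, hw⟩ := hT l hl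
  obtain ⟨wi, hwi⟩ := hT i hi
  obtain ⟨wk, hwk⟩ := hT k hk
  have h1 := O.pair hi hiS.1 hwi hl hl0 hiS.2 hw
  have h2 := O.pair hk hkS.1 hwk hl hl0 hkS.2.1 hw
  have h3 := O.pair (O.ibar_add hi hk) (fun e => hkS.2.2.1 (add_eq_zero6 e).symm)
    (w₁ := wi + wk) (by rw [cact_add, add_add_add_comm, hwi, hwk]) hl hl0 (fun e => hkS.2.2.2 (by
      rw [← e, ← add_assoc, add_self6, zero_add])) hw
  rw [bp_add_left, h1, h2] at h3
  exact absurd h3 (by decide)

/-! ### The acting part -/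

variable {b : Subgroup.centralizer ({z} : Set G)} (hb : (b : G) ∈ LargeExtra.oc (s : G))
include hb

theorem act_comm (v : Vec6) : cact D.F b (cact D.F s v) = cact D.F s (cact D.F b v) := by
  rw [← cact_mul, ← cact_mul, (O.commute_of_mem hb).eq]

theorem move {v : Vec6} (hv : D.Cen s v) : D.Ibar s (cact D.F b v + v) := by
  obtain ⟨q, rfl⟩ : ∃ q : Q, D.cv q = v := ⟨_, D.cv_lift v⟩
  rw [D.cen_iff] at hv
  refine ⟨MulAut.conjNormal b q * q⁻¹, ?_, by rw [D.cv_mul, D.cv_conj, D.cv_inv]⟩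
  show (((MulAut.conjNormal b q * q⁻¹ : Q) : Subgroup.centralizer ({z} : Set G)) : G) ∈ LargeExtra.oc (s : G)
  rw [Subgroup.coe_mul, MulAut.conjNormal_apply, Subgroup.coe_inv]
  simp only [Subgroup.coe_mul, Subgroup.coe_inv]
  rw [show (b : G) * ((q : Subgroup.centralizer ({z} : Set G)) : G) * (b : G)⁻¹ *
      ((q : Subgroup.centralizer ({z} : Set G)) : G)⁻¹ =
    (b : G) * (((q : Subgroup.centralizer ({z} : Set G)) : G) * (b : G)⁻¹ *
      ((q : Subgroup.centralizer ({z} : Set G)) : G)⁻¹) by group]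
  exact mul_mem hb (O.conj_mem hv (inv_mem hb))

theorem act_ibar {v : Vec6} (hv : D.Ibar s v) : cact D.F b v = v := by
  obtain ⟨i, hi, rfl⟩ := hv
  rw [← D.cv_conj]
  congr 1
  refine Subtype.ext ?_
  rw [MulAut.conjNormal_apply]
  rcases O.comm_cases hb hi with h | h
  · exact Subtype.ext (mul_inv_eq_one.1 h)
  · exfalso
    refine O.notQ (h ▸ D.mem_oc_iff.2 ⟨MulAut.conjNormal b i * i⁻¹, ?_⟩)
    rw [Subgroup.coe_mul, MulAut.conjNormal_apply, Subgroup.coe_inv]
    rfl

theorem pre_act {w t : Vec6} (hw : cact D.F s w + w = t) :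
    cact D.F s (cact D.F b w + w) + (cact D.F b w + w) = cact D.F b t + t := by
  rw [← hw, cact_add, cact_add, O.act_comm hb]
  abel

end Out

end Cfsg.Agent.Fi24Cent
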