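import Cfsg.Agent.Fi24Cent.Setting
import Cfsg.Agent.LargeFischer.Twist
import Mathlib.GroupTheory.Sylow

/-!
The quotient by `K`: every element is, up to `K`, one of four monomial semilinear maps, because the
diagonal group of order 243 is the only abelian subgroup of its order in the monomial Sylow 3-subgroup.
-/

set_option autoImplicit false
set_option maxRecDepth 20000
set_option Elab.async false
set_option maxHeartbeats 4000000

open Finset Cfsg Cfsg.Agent Cfsg.Agent.LargeFischer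
open scoped Pointwise

namespace Cfsg.Agent.Fi24Cent

/-- The field automorphism of a line. -/
def cj (p : W4) : W4 := (p.1 + p.2, p.2)

/-- The field automorphism in coordinates. -/
def cjv (v : Vec6) : Vec6 := fun i => cj (v i)

/-- The two commuting three-cycles. -/
def c012 : Equiv.Perm (Fin 6) := Equiv.swap 0 1 * Equiv.swap 1 2

/-- The two commuting three-cycles. -/
def c345 : Equiv.Perm (Fin 6) := Equiv.swap 3 4 * Equiv.swap 4 5

/-- A vector of weight six in the first class. -/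
def wv (c : ZMod 3) : Vec6 := fun i => if i = 0 then omk c (1, 0) else (1, 0)

theorem cj_facts : (∀ k p, cj (omk k p) = omk (-k) (cj p)) ∧ (∀ p, cj (cj p) = p) ∧
    (∀ p q, cj (p + q) = cj p + cj q) ∧ cj (1, 0) = (1, 0) ∧ cj 0 = 0 := by decide +kernel

theorem wv_facts : ∀ c : ZMod 3, wv c ≠ 0 ∧ par (wv c) = 0 ∧ wt (wv c) = 6 ∧ ∑ i, lg (wv c i) = c ∧
    cjv (wv c) = wv (-c) := by decide +kernel

theorem nine : (∀ π : Equiv.Perm (Fin 6), π * c012 = c012 * π → π * c345 = c345 * π → Equiv.Perm.sign π = 1) ∧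
    (univ.filter fun π : Equiv.Perm (Fin 6) => π * c012 = c012 * π ∧ π * c345 = c345 * π).card = 9 ∧
    (univ.filter fun d : Fin 6 → ZMod 3 => ∑ i, d i = 0).card = 243 := by decide +kernel

theorem fixed_diag : (∀ σ : Equiv.Perm (Fin 6), σ * c012 = c012 * σ → σ * c345 = c345 * σ → σ ≠ 1 →
    (univ.filter fun d : Fin 6 → ZMod 3 => ∑ i, d i = 0 ∧ ∀ i, d (σ⁻¹ i) = d i).card ≤ 27) ∧
    (univ.filter fun d : Fin 6 → ZMod 3 =>
      ∑ i, d i = 0 ∧ ∀ i, d ((c012 * c345)⁻¹ i) = d i).card ≤ 9 := by decide +kernel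

theorem pair_diag : ∀ j l : Fin 6, j ≠ l → ∃ m, m ≠ j ∧ m ≠ l := by decide

/-- The permutations of the monomial Sylow 3-subgroup. -/
def nineGroup : Subgroup (Equiv.Perm (Fin 6)) := Subgroup.centralizer {c012, c345}

theorem mem_nine {π : Equiv.Perm (Fin 6)} :
    π ∈ nineGroup ↔ π * c012 = c012 * π ∧ π * c345 = c345 * π := by
  rw [nineGroup, Subgroup.mem_centralizer_iff]
  simp [eq_comm]

theorem dg_add_dg (d e : Fin 6 → ZMod 3) (v : Vec6) : dg d (dg e v) = dg (d + e) v := dg_dg d e v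

theorem pm_dg (π : Equiv.Perm (Fin 6)) (d : Fin 6 → ZMod 3) (v : Vec6) :
    pm π (dg d v) = dg (fun i => d (π⁻¹ i)) (pm π v) := rfl

theorem cjv_dg (d : Fin 6 → ZMod 3) (v : Vec6) : cjv (dg d v) = dg (-d) (cjv v) :=
  funext fun _ => cj_facts.1 _ _

theorem cjv_cjv (v : Vec6) : cjv (cjv v) = v := funext fun _ => cj_facts.2.1 _

theorem cjv_pm (π : Equiv.Perm (Fin 6)) (v : Vec6) : cjv (pm π v) = pm π (cjv v) := rfl

theorem pm_one (v : Vec6) : pm 1 v = v := rfl

theorem dg_pm_single (d : Fin 6 → ZMod 3) (π : Equiv.Perm (Fin 6)) (i : Fin 6) (p : W4) :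
    dg d (pm π (Pi.single i p)) = Pi.single (π i) (omk (d (π i)) p) := by
  funext j
  by_cases hj : j = π i
  · subst hj; simp [dg, pm]
  · have : π⁻¹ j ≠ i := fun e => hj (by rw [← e]; exact (π.apply_symm_apply j).symm)
    rw [show dg d (pm π (Pi.single i p)) j = omk (d j) ((Pi.single i p : Vec6) (π⁻¹ j)) from rfl,
      Pi.single_eq_of_ne this, Pi.single_eq_of_ne hj, (omk_facts.1 _ _).2 rfl]

theorem mono_unique {d e : Fin 6 → ZMod 3} {π τ : Equiv.Perm (Fin 6)}
    (h : ∀ c, dg d (pm π c) = dg e (pm τ c)) : π = τ ∧ d = e := by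
  have h1 : ∀ i, π i = τ i ∧ d (π i) = e (τ i) := fun i => by
    have h2 := h (Pi.single i (1, 0))
    rw [dg_pm_single, dg_pm_single] at h2
    have h3 : π i = τ i := by
      by_contra hne
      have h4 := congrFun h2 (π i)
      rw [Pi.single_eq_same, Pi.single_eq_of_ne hne] at h4
      exact absurd ((omk_facts.1 _ _).1 h4) (by decide)
    refine ⟨h3, w4_facts.1 _ _ ?_⟩
    have h4 := congrFun h2 (π i)
    rw [Pi.single_eq_same] at h4
    rw [h4, h3, Pi.single_eq_same]
  obtain rfl : π = τ := Equiv.ext fun i => (h1 i).1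
  refine ⟨rfl, funext fun j => ?_⟩
  have := (h1 (π⁻¹ j)).2
  rwa [show π (π⁻¹ j) = j from π.apply_symm_apply j] at this

/-- The four semilinear maps: conjugation if `e`, the transposition of the first two lines if `s`. -/
def model (c : ZMod 3) (e s : Bool) (v : Vec6) : Vec6 :=
  dg (if e then Pi.single 0 (2 * c) else 0) (pm (if s then Equiv.swap 0 1 else 1) (if e then cjv v else v))

namespace Cent

variable {G : Type*} [Group G] [Finite G] {z : G}
  {Q : Subgroup (Subgroup.centralizer ({z} : Set G))} [Q.Normal] (D : Cent z Q)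
include D

/-- every element normalises the scalars -/
theorem scalar_exp (h : Subgroup.centralizer ({z} : Set G)) :
    ∃ k : ZMod 3, k ≠ 0 ∧ ∀ c, cact D.F h (sm 1 c) = sm k (cact D.F h c) := by
  obtain ⟨x, hx, -, hxc⟩ := D.exists_scalar
  have := D.norm
  set y := h * x * h⁻¹ with hy
  let f : Vec6 →+ Vec6 := AddMonoidHom.mk' (cact D.F y) (cact_add D.F y)
  have hc : ∀ m ∈ D.K, ∀ c, f (cact D.F m c) = cact D.F m (f c) := by
    intro m hm c
    show cact D.F y (cact D.F m c) = cact D.F m (cact D.F y c)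
    have hm' : h⁻¹ * m * h ∈ D.K := by
      simpa using (inferInstance : D.K.Normal).conj_mem m hm h⁻¹
    have hy' : ∀ c, cact D.F y c = cact D.F h (sm 1 (cact D.F h⁻¹ c)) := fun c => by
      rw [hy, cact_mul, cact_mul, hxc]
    rw [hy', hy', ← cact_mul D.F h⁻¹ m, show h⁻¹ * m = h⁻¹ * m * h * h⁻¹ by group, cact_mul,
      ← (show cact D.F (h⁻¹ * m * h) (sm 1 (cact D.F h⁻¹ c)) = sm 1 _ from D.lin_K hm' _), ← cact_mul, show h * (h⁻¹ * m * h) = m * h by group, cact_mul]
  obtain ⟨k, hk⟩ := scalar_of_commute f (cact_inj D.F y) (fun d hd c => by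
      obtain ⟨m, hm, e⟩ := D.F.diag d hd
      rw [← cact_eq D.F (e c), hc m hm, cact_eq D.F (e _)])
    (fun i => by
      obtain ⟨π, hπ, hπ0⟩ : ∃ π : Equiv.Perm (Fin 6), Equiv.Perm.sign π = 1 ∧ π 0 = i := by
        revert i; decide +kernel
      obtain ⟨m, hm, e⟩ := D.F.perm π hπ
      exact ⟨π, hπ0, fun c => by rw [← cact_eq D.F (e c), hc m hm, cact_eq D.F (e _)]⟩)
  have hk' : ∀ c, cact D.F h (sm 1 c) = sm k (cact D.F h c) := fun c => by
    rw [← hk (cact D.F h c)]
    show _ = cact D.F y _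
    rw [← cact_mul, hy, inv_mul_cancel_right, cact_mul, hxc]
  refine ⟨k, fun e => ?_, hk'⟩
  subst e
  have hv : (Pi.single 0 (1, 0) : Vec6) ≠ 0 := fun e => absurd (congrFun e 0) (by simp)
  exact sm_ne hv (cact_inj D.F h ((hk' _).trans (sm_zero _)))

theorem lin_or_anti (h : Subgroup.centralizer ({z} : Set G)) : D.IsLin h ∨ D.IsAnti h := by
  obtain ⟨k, hk, hkc⟩ := D.scalar_exp h
  rcases (show ∀ k : ZMod 3, k ≠ 0 → k = 1 ∨ k = 2 by decide) k hk with rfl | rfl
  exacts [Or.inl hkc, Or.inr hkc]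

/-- The monomial Sylow 3-subgroup of the image of `K`. -/
def monoGroup : Subgroup (MulAut (↥Q ⧸ Subgroup.center ↥Q)) where
  carrier := {φ | ∃ π ∈ nineGroup, ∃ d : Fin 6 → ZMod 3, ∑ i, d i = 0 ∧
    ∀ c, φ (D.F.co c) = D.F.co (dg d (pm π c))}
  one_mem' := ⟨1, one_mem _, 0, by simp, fun c => by rw [pm_one, dg_zero, MulAut.one_apply]⟩
  mul_mem' := by
    rintro a b ⟨π, hπ, d, hd, ha⟩ ⟨τ, hτ, e, he, hb⟩
    refine ⟨π * τ, mul_mem hπ hτ, fun i => d i + e (π⁻¹ i), ?_, fun c => ?_⟩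
    · rw [sum_add_distrib, hd, Equiv.sum_comp π⁻¹ e, he, add_zero]
    · rw [MulAut.mul_apply, hb, ha, pm_dg, dg_dg]
      rfl
  inv_mem' := by
    rintro a ⟨π, hπ, d, hd, ha⟩
    refine ⟨π⁻¹, inv_mem hπ, fun i => -d (π i), ?_, fun c => ?_⟩
    · rw [sum_neg_distrib, Equiv.sum_comp π d, hd, neg_zero]
    · rw [← MulAut.inv_apply_self _ a (D.F.co (dg _ (pm π⁻¹ c))), ha]
      congr 2
      funext i
      simp [dg, pm, omk_facts.2.2.1, omk_facts.2.2.2]

theorem monoGroup_le : D.monoGroup ≤ D.K.map (actV Q) := by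
  rintro φ ⟨π, hπ, d, hd, h⟩
  obtain ⟨m, hm, hm'⟩ := D.F.perm π (nine.1 π (mem_nine.1 hπ).1 (mem_nine.1 hπ).2)
  obtain ⟨n, hn, hn'⟩ := D.F.diag d hd
  refine ⟨n * m, D.K.mul_mem hn hm, MulEquiv.ext fun x => ?_⟩
  obtain ⟨c, rfl⟩ := D.F.bij.2 x
  rw [map_mul, MulAut.mul_apply, hm', hn', h]

theorem monoGroup_mk {π : Equiv.Perm (Fin 6)} (hπ : π ∈ nineGroup) {d : Fin 6 → ZMod 3}
    (hd : ∑ i, d i = 0) : ∃ φ : ↥D.monoGroup, ∀ c, (φ : MulAut _) (D.F.co c) = D.F.co (dg d (pm π c)) := by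
  obtain ⟨m, -, hm'⟩ := D.F.perm π (nine.1 π (mem_nine.1 hπ).1 (mem_nine.1 hπ).2)
  obtain ⟨n, -, hn'⟩ := D.F.diag d hd
  have hc : ∀ c, actV Q (n * m) (D.F.co c) = D.F.co (dg d (pm π c)) := fun c => by
    rw [map_mul, MulAut.mul_apply, hm', hn']
  exact ⟨⟨actV Q (n * m), π, hπ, d, hd, hc⟩, hc⟩

theorem card_monoGroup : Nat.card ↥D.monoGroup = 3 ^ 7 := by
  classical
  have hw : ∀ φ : ↥D.monoGroup, ∃ p : ↥nineGroup × {d : Fin 6 → ZMod 3 // ∑ i, d i = 0},
      ∀ c, (φ : MulAut _) (D.F.co c) = D.F.co (dg p.2.1 (pm p.1.1 c)) := by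
    rintro ⟨φ, π, hπ, d, hd, h⟩; exact ⟨(⟨π, hπ⟩, ⟨d, hd⟩), h⟩
  choose f hf using hw
  have hbij : Function.Bijective f := by
    refine ⟨fun a b e => Subtype.ext (MulEquiv.ext fun x => ?_), fun p => ?_⟩
    · obtain ⟨c, rfl⟩ := D.F.bij.2 x
      rw [hf, hf, e]
    · obtain ⟨φ, hφ⟩ := D.monoGroup_mk p.1.2 p.2.2
      refine ⟨φ, ?_⟩
      obtain ⟨h1, h2⟩ := mono_unique fun c => D.F.bij.1 ((hf φ c).symm.trans (hφ c))
      exact Prod.ext (Subtype.ext h1) (Subtype.ext h2)
  rw [Nat.card_eq_of_bijective f hbij, Nat.card_prod]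
  have h9 : Nat.card ↥nineGroup = 9 := by
    rw [Nat.card_congr (Equiv.subtypeEquivRight fun π => mem_nine (π := π)), Nat.card_eq_fintype_card,
      Fintype.card_subtype, nine.2.1]
  rw [h9, Nat.card_eq_fintype_card, Fintype.card_subtype, nine.2.2]
  norm_num

/-- The diagonal group is the only abelian subgroup of order 243 of the monomial group. -/
theorem eq_diag {A : Subgroup (MulAut (↥Q ⧸ Subgroup.center ↥Q))} (hA : A ≤ D.monoGroup)
    (hab : ∀ a ∈ A, ∀ b ∈ A, a * b = b * a) (hcard : Nat.card ↥A = 243) :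
    (∀ a ∈ A, ∃ d : Fin 6 → ZMod 3, ∑ i, d i = 0 ∧ ∀ c, a (D.F.co c) = D.F.co (dg d c)) ∧
      ∀ d : Fin 6 → ZMod 3, ∑ i, d i = 0 → ∃ a ∈ A, ∀ c, a (D.F.co c) = D.F.co (dg d c) := by
  classical
  have hw : ∀ a : ↥A, ∃ p : ↥nineGroup × {d : Fin 6 → ZMod 3 // ∑ i, d i = 0},
      ∀ c, (a : MulAut _) (D.F.co c) = D.F.co (dg p.2.1 (pm p.1.1 c)) := fun a => by
    obtain ⟨π, hπ, d, hd, h⟩ := hA a.2; exact ⟨(⟨π, hπ⟩, ⟨d, hd⟩), h⟩
  choose f hf using hw
  let P : ↥A →* ↥nineGroup := MonoidHom.mk' (fun a => (f a).1) fun a b => by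
    have h : ∀ c, dg (fun i => (f a).2.1 i + (f b).2.1 ((f a).1.1⁻¹ i)) (pm ((f a).1.1 * (f b).1.1) c) =
        dg (f (a * b)).2.1 (pm (f (a * b)).1.1 c) := fun c => D.F.bij.1 (by
      rw [← hf (a * b) c, Subgroup.coe_mul, MulAut.mul_apply, hf b, hf a, pm_dg, dg_dg]
      rfl)
    exact Subtype.ext (mono_unique h).1.symm
  have hker : ∀ a : ↥P.ker, ∀ c, ((a : ↥A) : MulAut _) (D.F.co c) = D.F.co (dg (f a.1).2.1 c) := fun a c => by
    have h1 : (f a.1).1 = 1 := MonoidHom.mem_ker.1 a.2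
    rw [hf a.1 c, h1, OneMemClass.coe_one, pm_one]
  -- elements outside the kernel cut down the kernel
  have hbound : ∀ b : ↥A, Nat.card ↥P.ker ≤ (univ.filter fun d : Fin 6 → ZMod 3 =>
      ∑ i, d i = 0 ∧ ∀ i, d ((P b).1⁻¹ i) = d i).card := by
    intro b
    rw [← Nat.card_eq_finsetCard]
    refine Nat.card_le_card_of_injective (fun a => ⟨(f a.1).2.1, mem_filter.2 ⟨mem_univ _, (f a.1).2.2, ?_⟩⟩)
      fun a a' e => ?_
    · intro i
      have h : ∀ c, dg (fun j => (f b).2.1 j + (f a.1).2.1 ((f b).1.1⁻¹ j)) (pm (f b).1.1 c) =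
          dg ((f a.1).2.1 + (f b).2.1) (pm (f b).1.1 c) := fun c => D.F.bij.1 (by
        have h1 := DFunLike.congr_fun (hab _ b.2 _ a.1.2) (D.F.co c)
        rw [MulAut.mul_apply, MulAut.mul_apply, hker, hf b, hf b, hker, pm_dg, dg_dg, dg_dg] at h1
        exact h1)
      have h1 := congrFun (mono_unique h).2 i
      rw [Pi.add_apply, add_comm ((f a.1).2.1 i)] at h1
      exact add_left_cancel h1
    · refine Subtype.ext (Subtype.ext (MulEquiv.ext fun x => ?_))
      obtain ⟨c, rfl⟩ := D.F.bij.2 x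
      rw [hker, hker, Subtype.mk.inj e]
  have hprod : Nat.card ↥P.ker * Nat.card ↥P.range = 243 := by
    rw [← hcard, ← Subgroup.index_ker, Subgroup.card_mul_index]
  have h9 : Nat.card ↥nineGroup = 9 := by
    rw [Nat.card_congr (Equiv.subtypeEquivRight fun π => mem_nine (π := π)), Nat.card_eq_fintype_card,
      Fintype.card_subtype, nine.2.1]
  have htriv : P.range = ⊥ := by
    by_contra hne
    rw [Subgroup.eq_bot_iff_forall] at hne
    push Not at hne
    obtain ⟨σ, ⟨b, rfl⟩, hb⟩ := hne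
    have hb' : (P b).1 ≠ 1 := fun e => hb (Subtype.ext e)
    have h27 := (hbound b).trans (fixed_diag.1 _ (mem_nine.1 (P b).2).1 (mem_nine.1 (P b).2).2 hb')
    have hd : Nat.card ↥P.range ∣ 3 ^ 2 := by
      rw [show 3 ^ 2 = Nat.card ↥nineGroup from h9.symm]; exact Subgroup.card_subgroup_dvd_card _
    obtain ⟨k, hk, hk'⟩ := (Nat.dvd_prime_pow Nat.prime_three).1 hd
    rw [hk'] at hprod
    rcases Nat.lt_or_ge k 2 with h | h
    · have := Nat.mul_le_mul h27 (Nat.pow_le_pow_right (show 0 < 3 by norm_num) (show k ≤ 1 by omega))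
      omega
    · obtain rfl : k = 2 := by omega
      have htop : P.range = ⊤ := Subgroup.eq_top_of_card_eq _ (by rw [hk', h9]; norm_num)
      obtain ⟨b', hb''⟩ : (⟨c012 * c345, mem_nine.2 (by decide +kernel)⟩ : ↥nineGroup) ∈ P.range :=
        htop ▸ Subgroup.mem_top _
      have h1 := hbound b'
      rw [hb''] at h1
      have h2 := h1.trans fixed_diag.2
      omega
  have hall : ∀ a : ↥A, a ∈ P.ker := fun a => MonoidHom.mem_ker.2 (Subgroup.mem_bot.1 (htriv ▸ ⟨a, rfl⟩))
  refine ⟨fun a ha => ⟨_, (f ⟨a, ha⟩).2.2, hker ⟨⟨a, ha⟩, hall _⟩⟩, fun d hd => ?_⟩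
  have hbij : Function.Bijective fun a : ↥A => (f a).2 := by
    refine (Nat.bijective_iff_injective_and_card _).2 ⟨fun a a' e => Subtype.ext (MulEquiv.ext fun x => ?_), ?_⟩
    · obtain ⟨c, rfl⟩ := D.F.bij.2 x
      rw [hker ⟨a, hall a⟩, hker ⟨a', hall a'⟩]
      exact congrArg (fun p : {d : Fin 6 → ZMod 3 // ∑ i, d i = 0} => D.F.co (dg p.1 c)) e
    · rw [hcard, Nat.card_eq_fintype_card, Fintype.card_subtype, nine.2.2]
  obtain ⟨a, ha⟩ := hbij.2 ⟨d, hd⟩
  exact ⟨a, a.2, fun c => by rw [hker ⟨a, hall a⟩, show (f a).2.1 = d from congrArg Subtype.val ha]⟩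

/-- Up to `K`, every element normalises the diagonal group. -/
theorem exists_normalising (h : Subgroup.centralizer ({z} : Set G)) : ∃ k ∈ D.K,
    ∀ d : Fin 6 → ZMod 3, ∑ i, d i = 0 → ∃ d' : Fin 6 → ZMod 3,
      ∀ c, cact D.F (k * h) (dg d' c) = dg d (cact D.F (k * h) c) := by
  classical
  haveI : Fact (Nat.Prime 3) := ⟨Nat.prime_three⟩
  haveI : Finite (MulAut (↥Q ⧸ Subgroup.center ↥Q)) :=
    Finite.of_injective (fun φ : MulAut _ => (φ : ↥Q ⧸ Subgroup.center ↥Q → ↥Q ⧸ Subgroup.center ↥Q))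
      DFunLike.coe_injective
  set KB := D.K.map (actV Q) with hKB
  set g := actV Q h with hg
  have hconj : ∀ a ∈ KB, g * a * g⁻¹ ∈ KB := by
    rintro _ ⟨a, ha, rfl⟩
    exact ⟨h * a * h⁻¹, D.norm.conj_mem a ha h, by rw [map_mul, map_mul, map_inv]⟩
  set P' := D.monoGroup.map (MulAut.conj g).toMonoidHom with hP'
  have hP'le : P' ≤ KB := by
    rintro _ ⟨a, ha, rfl⟩; exact hconj a (D.monoGroup_le ha)
  have hfac : (Nat.card ↥KB).factorization 3 = 7 := by
    rw [hKB, D.cardK, show 9797760 = 3 ^ 7 * 4480 by norm_num,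
      Nat.factorization_mul (by norm_num) (by norm_num), Nat.Prime.factorization_pow Nat.prime_three]
    simp [Nat.factorization_eq_zero_of_not_dvd (show ¬3 ∣ 4480 by norm_num)]
  let S : Sylow 3 ↥KB := Sylow.ofCard (D.monoGroup.subgroupOf KB) (by
    rw [Nat.card_congr (Subgroup.subgroupOfEquivOfLe D.monoGroup_le).toEquiv, D.card_monoGroup, hfac])
  let S' : Sylow 3 ↥KB := Sylow.ofCard (P'.subgroupOf KB) (by
    rw [Nat.card_congr (Subgroup.subgroupOfEquivOfLe hP'le).toEquiv, hP',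
      Subgroup.card_map_of_injective (MulAut.conj g).injective, D.card_monoGroup, hfac])
  obtain ⟨κ, hκ⟩ := MulAction.exists_smul_eq ↥KB S' S
  obtain ⟨k, hk, hkκ⟩ := κ.2
  refine ⟨k, hk, ?_⟩
  set u := actV Q (k * h) with hu
  have hmove : ∀ a ∈ D.monoGroup, u * a * u⁻¹ ∈ D.monoGroup := by
    intro a ha
    have h1 : (⟨g * a * g⁻¹, hconj a (D.monoGroup_le ha)⟩ : ↥KB) ∈ (S' : Subgroup ↥KB) :=
      Subgroup.mem_subgroupOf.2 (Subgroup.mem_map_of_mem (MulAut.conj g).toMonoidHom ha)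
    have h2 := Subgroup.smul_mem_pointwise_smul _ (MulAut.conj κ) _ h1
    rw [← Sylow.coe_subgroup_smul, hκ] at h2
    have h3 : (κ : MulAut _) * (g * a * g⁻¹) * (κ : MulAut _)⁻¹ ∈ D.monoGroup := h2
    rw [← hkκ] at h3
    rw [hu, map_mul, mul_inv_rev]
    simpa [mul_assoc] using h3
  -- the diagonal group and its image
  let A0 : Subgroup (MulAut (↥Q ⧸ Subgroup.center ↥Q)) :=
    { carrier := {φ | ∃ d : Fin 6 → ZMod 3, ∑ i, d i = 0 ∧ ∀ c, φ (D.F.co c) = D.F.co (dg d c)}
      one_mem' := ⟨0, by simp, fun c => by rw [dg_zero, MulAut.one_apply]⟩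
      mul_mem' := by
        rintro a b ⟨d, hd, ha⟩ ⟨e, he, hb⟩
        exact ⟨d + e, by simp [sum_add_distrib, hd, he], fun c => by
          rw [MulAut.mul_apply, hb, ha, dg_dg]⟩
      inv_mem' := by
        rintro a ⟨d, hd, ha⟩
        refine ⟨-d, by simp [hd], fun c => ?_⟩
        rw [← MulAut.inv_apply_self _ a (D.F.co (dg _ c)), ha, dg_dg, add_neg_cancel, dg_zero] }
  have hA0P : ∀ a ∈ A0, a ∈ D.monoGroup := fun a ⟨d, hd, ha⟩ =>
    ⟨1, one_mem _, d, hd, fun c => by rw [pm_one, ha]⟩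
  have hA0c : Nat.card ↥A0 = 243 := by
    have hw : ∀ a : ↥A0, ∃ d : {d : Fin 6 → ZMod 3 // ∑ i, d i = 0}, ∀ c,
        (a : MulAut _) (D.F.co c) = D.F.co (dg d.1 c) := fun ⟨a, d, hd, ha⟩ => ⟨⟨d, hd⟩, ha⟩
    choose f hf using hw
    rw [Nat.card_eq_of_bijective f ⟨fun a b e => Subtype.ext (MulEquiv.ext fun x => by
      obtain ⟨c, rfl⟩ := D.F.bij.2 x; rw [hf, hf, e]), fun p => ?_⟩, Nat.card_eq_fintype_card,
      Fintype.card_subtype, nine.2.2]
    obtain ⟨φ, hφ⟩ := D.monoGroup_mk (one_mem nineGroup) p.2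
    have hφ' : ∀ c, (φ : MulAut _) (D.F.co c) = D.F.co (dg p.1 c) := fun c => by rw [hφ, pm_one]
    refine ⟨⟨φ, p.1, p.2, hφ'⟩, Subtype.ext (mono_unique (π := 1) (τ := 1) fun c => D.F.bij.1 ?_).2⟩
    rw [pm_one]
    exact (hf ⟨φ, p.1, p.2, hφ'⟩ c).symm.trans (hφ' c)
  obtain ⟨-, hsur⟩ := D.eq_diag (A := A0.map (MulAut.conj u).toMonoidHom)
    (by rintro _ ⟨a, ha, rfl⟩; exact hmove a (hA0P a ha))
    (by
      rintro _ ⟨a, ⟨d, hd, ha⟩, rfl⟩ _ ⟨b, ⟨e, he, hb⟩, rfl⟩
      rw [← map_mul, ← map_mul]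
      refine congrArg _ (MulEquiv.ext fun x => ?_)
      obtain ⟨c, rfl⟩ := D.F.bij.2 x
      rw [MulAut.mul_apply, MulAut.mul_apply, ha, hb, hb, ha, dg_dg, dg_dg, add_comm])
    (by rw [Subgroup.card_map_of_injective (MulAut.conj u).injective, hA0c])
  intro d hd
  obtain ⟨_, ⟨a, ⟨d', -, ha'⟩, rfl⟩, ha⟩ := hsur d hd
  refine ⟨d', fun c => D.F.bij.1 ?_⟩
  have h1 := ha (cact D.F (k * h) c)
  rw [MulEquiv.coe_toMonoidHom, MulAut.conj_apply, MulAut.mul_apply, MulAut.mul_apply, hu, co_cact,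
    MulAut.inv_apply_self, ha'] at h1
  rw [co_cact]
  exact h1

/-- Up to `K`, every element is one of the four models. -/
theorem exists_model (h : Subgroup.centralizer ({z} : Set G)) {e : Bool}
    (he : if e then D.IsAnti h else D.IsLin h) :
    ∃ k ∈ D.K, ∃ s : Bool, ∀ c, cact D.F (k * h) c = model D.c e s c := by
  classical
  obtain ⟨k, hk, hnorm⟩ := D.exists_normalising h
  set u := k * h with hu
  -- lines go to lines
  have hone : ∀ i (p : W4), p ≠ 0 → ∃ j q, q ≠ 0 ∧ cact D.F u (Pi.single i p) = Pi.single j q := by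
    intro i p hp
    set y := cact D.F u (Pi.single i p) with hy
    obtain ⟨j, hj⟩ : ∃ j, y j ≠ 0 := by
      by_contra hc
      push Not at hc
      have h0 : cact D.F u (Pi.single i p) = cact D.F u 0 := by rw [cact_zero]; exact funext hc
      exact hp (by simpa using congrFun (cact_inj D.F u h0) i)
    refine ⟨j, y j, hj, funext fun l => ?_⟩
    by_cases hlj : l = j
    · subst hlj; rw [Pi.single_eq_same]
    rw [Pi.single_eq_of_ne hlj]
    by_contra hl
    obtain ⟨m, hmj, hml⟩ := pair_diag j l (Ne.symm hlj)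
    have hex : ∀ ab : ZMod 3 × ZMod 3, ∃ q : W4, cact D.F u (Pi.single i q) =
        dg (Pi.single j ab.1 + Pi.single l ab.2 + Pi.single m (-(ab.1 + ab.2))) y := by
      intro ab
      obtain ⟨d', hd'⟩ := hnorm (Pi.single j ab.1 + Pi.single l ab.2 + Pi.single m (-(ab.1 + ab.2))) (by
        simp only [Pi.add_apply, sum_add_distrib, Finset.sum_pi_single', mem_univ, if_true]
        ring)
      refine ⟨omk (d' i) p, ?_⟩
      rw [← dg_single D.b, hd', hy]
    choose q hq using hex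
    have hinj : Function.Injective q := by
      intro ab ab' e'
      have h1 := (hq ab).symm.trans ((congrArg (fun x => cact D.F u (Pi.single i x)) e').trans (hq ab'))
      have hval : ∀ (a : ZMod 3) (x : W4), x ≠ 0 → ∀ b, omk a x = omk b x → a = b := by decide
      refine Prod.ext (hval _ _ hj _ ?_) (hval _ _ hl _ ?_)
      · have := congrFun h1 j
        simpa [dg, Pi.single_eq_of_ne (Ne.symm hlj), Pi.single_eq_of_ne (Ne.symm hmj)] using this
      · have := congrFun h1 l
        simpa [dg, Pi.single_eq_of_ne hlj, Pi.single_eq_of_ne (Ne.symm hml)] using this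
    have := Nat.card_le_card_of_injective q hinj
    simp at this
  have hex := fun i => hone i (1, 0) (by decide)
  choose f q hq0 hf using hex
  have hsemi : ∀ v, cact D.F u (sm 1 v) = sm (if e then 2 else 1) (cact D.F u v) := fun v => by
    have hk' : ∀ j w, cact D.F k (sm j w) = sm j (cact D.F k w) := by
      intro j w
      have h1 : ∀ w, cact D.F k (sm 1 w) = sm 1 (cact D.F k w) := D.lin_K hk
      rcases (show ∀ j : ZMod 3, j = 0 ∨ j = 1 ∨ j = 1 + 1 by decide) j with rfl | rfl | rfl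
      · rw [sm_zero, sm_zero]
      · exact h1 w
      · rw [← sm_sm, h1, h1, sm_sm]
    rw [hu, cact_mul, cact_mul]
    cases e
    · rw [show cact D.F h (sm 1 v) = sm 1 (cact D.F h v) from he v, hk']; rfl
    · rw [show cact D.F h (sm 1 v) = sm 2 (cact D.F h v) from he v, hk']; rfl
  have hline : ∀ i p, cact D.F u (Pi.single i p) =
      Pi.single (f i) (omk (lg (q i)) (if e then cj p else p)) := by
    have hbase : ∀ i, cact D.F u (Pi.single i (1, 0)) = Pi.single (f i) (omk (lg (q i)) (1, 0)) := by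
      intro i
      rw [hf]
      congr 1
      exact (show ∀ x : W4, x ≠ 0 → x = omk (lg x) (1, 0) by decide) _ (hq0 i)
    have hs : ∀ (a : ZMod 3) (i : Fin 6) (x : W4), sm a (Pi.single i x) = Pi.single i (omk a x) :=
      fun a i x => dg_single D.b _ i x
    intro i p
    rcases w4_facts.2.2.2.2 p with rfl | rfl | rfl | rfl
    · cases e <;> simp [cact_zero, cj_facts.2.2.2.2, (omk_facts.1 _ _).2 rfl]
    · rw [hbase]; cases e <;> simp [cj_facts.2.2.2.1]
    · rw [← w4_facts.2.2.1, ← hs, hsemi, hbase, hs, omk_facts.2.2.1]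
      cases e <;> simp [cj_facts.1, cj_facts.2.2.2.1, omk_facts.2.2.1, add_comm]
      rfl
    · rw [← w4_facts.2.2.1, ← w4_facts.2.2.1, ← hs, ← hs, hsemi, hsemi, hbase, hs, hs, omk_facts.2.2.1,
        omk_facts.2.2.1]
      cases e <;> simp [cj_facts.1, cj_facts.2.2.2.1, omk_facts.2.2.1] <;> congr 1 <;> ring_nf <;> congr 1
  have hfinj : Function.Injective f := by
    intro i j hij
    by_contra hne
    obtain ⟨p, hp⟩ : ∃ p : W4, omk (lg (q i)) (if e then cj p else p) = omk (lg (q j)) (1, 0) :=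
      (show ∀ (a b : ZMod 3) (e : Bool), ∃ p : W4, omk a (if e then cj p else p) = omk b (1, 0) by
        decide +kernel) _ _ e
    have h1 : cact D.F u (Pi.single i p) = cact D.F u (Pi.single j (1, 0)) := by
      rw [hline i p, hline j (1, 0), hp, hij]
      cases e <;> simp [cj_facts.2.2.2.1]
    have h2 := congrFun (cact_inj D.F u h1) j
    rw [Pi.single_eq_of_ne (Ne.symm hne), Pi.single_eq_same] at h2
    exact absurd h2.symm (by decide)
  set π := Equiv.ofBijective f hfinj.bijective_of_finite with hπ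
  set t : Fin 6 → ZMod 3 := fun j => lg (q (π⁻¹ j)) with ht
  have hform : ∀ v, cact D.F u v = dg t (pm π (if e then cjv v else v)) := by
    intro v
    let Φ : Vec6 →+ Vec6 := AddMonoidHom.mk' (cact D.F u) (cact_add D.F u)
    let Ψ : Vec6 →+ Vec6 := AddMonoidHom.mk' (fun v => dg t (pm π (if e then cjv v else v))) fun a b => by
      funext i
      cases e <;> simp [dg, pm, cjv, cj_facts.2.2.1, omk_facts.2.1]
    show Φ v = Ψ v
    rw [← Finset.univ_sum_single v, map_sum, map_sum]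
    refine sum_congr rfl fun i _ => ?_
    show cact D.F u (Pi.single i (v i)) = dg t (pm π (if e then cjv (Pi.single i (v i)) else Pi.single i (v i)))
    rw [hline]
    have hc : cjv (Pi.single i (v i)) = Pi.single i (cj (v i)) := funext fun l => by
      by_cases hl : l = i
      · subst hl; simp [cjv]
      · simp [cjv, Pi.single_eq_of_ne hl, cj_facts.2.2.2.2]
    cases e <;> simp only [Bool.false_eq_true, if_false, if_true, hc, dg_pm_single, ht,
      show π⁻¹ (π i) = i from π.symm_apply_apply i] <;> rfl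
  -- the sum
  have hsum : ∑ i, t i = (if e then Pi.single (0 : Fin 6) (2 * D.c) else (0 : Fin 6 → ZMod 3)) 0 := by
    obtain ⟨h0, hp, h6, hs, hcj⟩ := wv_facts D.c
    have h2 := D.inA_cact u h0 hp
    rw [hform, inA_dg] at h2
    have hA : InA D.c (wv D.c) := Or.inr (by simp [cls, h6, hs])
    have h3 := h2.2 hA
    rw [InA, cls_pm] at h3
    cases e
    · simp only [Bool.false_eq_true, if_false, Pi.zero_apply] at h3 ⊢
      rw [cls] at h3
      simp only [h6, hs, if_true, Prod.mk.injEq] at h3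
      rcases h3 with ⟨h3, -⟩ | ⟨-, h3⟩
      · exact absurd h3 (by norm_num)
      · exact (show ∀ c s : ZMod 3, c = c - s → s = 0 by decide) _ _ (by simpa using h3)
    · simp only [if_true, Pi.single_eq_same, hcj] at h3 ⊢
      obtain ⟨-, -, h6', hs', -⟩ := wv_facts (-D.c)
      rw [cls] at h3
      simp only [h6', hs', if_true, Prod.mk.injEq] at h3
      rcases h3 with ⟨h3, -⟩ | ⟨-, h3⟩
      · exact absurd h3 (by norm_num)
      · exact (show ∀ c s : ZMod 3, -c = c - s → s = 2 * c by decide) _ _ h3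
  set δ : Fin 6 → ZMod 3 := if e then Pi.single (0 : Fin 6) (2 * D.c) else 0 with hδ
  have hδs : ∑ i, δ i = δ 0 := by rw [hδ]; cases e <;> simp
  set s : Bool := decide (Equiv.Perm.sign π ≠ 1) with hsdef
  set σ : Equiv.Perm (Fin 6) := if s then Equiv.swap 0 1 else 1 with hσ
  have hσσ : σ * σ = 1 := by rw [hσ]; cases s <;> simp
  have hev : Equiv.Perm.sign (π * σ) = 1 := by
    rcases Int.units_eq_one_or (Equiv.Perm.sign π) with hs | hs
    · simp [hσ, hsdef, hs]
    · simp [hσ, hsdef, hs]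
  obtain ⟨m, hm, hmc⟩ := D.F.perm (π * σ) hev
  obtain ⟨n, hn, hnc⟩ := D.F.diag (fun i => t i - δ ((π * σ)⁻¹ i)) (by
    rw [sum_sub_distrib, Equiv.sum_comp (π * σ)⁻¹ δ, hsum, hδs, sub_self])
  refine ⟨(n * m)⁻¹ * k, D.K.mul_mem (D.K.inv_mem (D.K.mul_mem hn hm)) hk, s, fun v => ?_⟩
  refine cact_inj D.F (n * m) ?_
  rw [← cact_mul, show n * m * ((n * m)⁻¹ * k * h) = u by rw [hu]; group, hform, cact_mul,
    cact_eq D.F (hmc _), cact_eq D.F (hnc _), model, pm_dg, dg_dg]
  congr 1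
  · funext i
    simp only [Pi.add_apply]
    rw [hδ]
    ring
  · rw [← hσ, ← LargeFischer.pm_pm, mul_assoc, hσσ, mul_one]

/-- Elements with the same model lie in the same coset of `K`. -/
theorem same_coset {g h : Subgroup.centralizer ({z} : Set G)} {e s : Bool} {a b : Subgroup.centralizer ({z} : Set G)}
    (ha : a ∈ D.K) (hb : b ∈ D.K) (hg : ∀ c, cact D.F (a * g) c = model D.c e s c)
    (hh : ∀ c, cact D.F (b * h) c = model D.c e s c) : g⁻¹ * h ∈ D.K := by
  haveI := D.norm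
  have h1 : (a * g)⁻¹ * (b * h) ∈ D.K := D.le (D.mem_Q_of_act fun c => by
    refine cact_inj D.F (a * g) ?_
    rw [← cact_mul, mul_inv_cancel_left, hh, hg])
  rw [← QuotientGroup.eq] at h1 ⊢
  simpa [QuotientGroup.mk_mul, (QuotientGroup.eq_one_iff a).2 ha, (QuotientGroup.eq_one_iff b).2 hb] using h1

theorem sq_mem_K (h : Subgroup.centralizer ({z} : Set G)) : h * h ∈ D.K := by
  have main : ∀ e : Bool, (if e then D.IsAnti h else D.IsLin h) → h * h ∈ D.K := by
    intro e he
    obtain ⟨k, hk, s, hs⟩ := D.exists_model h he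
    have h2 : k * h * (k * h) ∈ D.K := by
      set σ : Equiv.Perm (Fin 6) := if s then Equiv.swap 0 1 else 1 with hσ
      have hσσ : σ * σ = 1 := by rw [hσ]; cases s <;> simp
      cases e
      · refine D.mem_K_of_act (one_mem _) fun c => ?_
        rw [cact_mul, hs, hs, cact_one]
        simp only [model, Bool.false_eq_true, if_false, dg_zero, ← hσ]
        rw [← LargeFischer.pm_pm, hσσ, pm_one]
      · obtain ⟨n, hn, hnc⟩ := D.F.diag (fun i => (Pi.single (0 : Fin 6) (2 * D.c) : Fin 6 → ZMod 3) i -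
            (Pi.single (0 : Fin 6) (2 * D.c) : Fin 6 → ZMod 3) (σ⁻¹ i)) (by
          rw [sum_sub_distrib, Equiv.sum_comp σ⁻¹ (Pi.single (0 : Fin 6) (2 * D.c) : Fin 6 → ZMod 3), sub_self])
        refine D.mem_K_of_act hn fun c => ?_
        rw [cact_mul, hs, hs, cact_eq D.F (hnc c)]
        simp only [model, if_true, ← hσ]
        rw [cjv_dg, pm_dg, dg_dg, cjv_pm, cjv_cjv, ← LargeFischer.pm_pm, hσσ, pm_one]
        congr 1
        funext i
        simp [sub_eq_add_neg]
    rw [show h * h = h * k⁻¹ * h⁻¹ * k⁻¹ * (k * h * (k * h)) by group]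
    exact D.K.mul_mem (D.K.mul_mem (D.norm.conj_mem _ (D.K.inv_mem hk) h) (D.K.inv_mem hk)) h2
  rcases D.lin_or_anti h with hl | ha
  exacts [main false hl, main true ha]

theorem anti_mul {a b : Subgroup.centralizer ({z} : Set G)} (ha : D.IsAnti a) (hb : D.IsAnti b) :
    D.IsLin (a * b) := fun v => by
  show cact D.F (a * b) (sm 1 v) = sm 1 _
  have ha' : ∀ v, cact D.F a (sm 1 v) = sm 2 (cact D.F a v) := ha
  rw [cact_mul, cact_mul, show cact D.F b (sm 1 v) = sm 2 (cact D.F b v) from hb v,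
    show sm 2 (cact D.F b v) = sm 1 (sm 1 (cact D.F b v)) from (sm_sm 1 1 _).symm, ha', ha', sm_sm]
  rfl

/-- A transvection commuting with the lifts of the vectors it fixes. -/
theorem exists_transvection {h : Subgroup.centralizer ({z} : Set G)} (hl : D.IsLin h) (hK : h ∉ D.K) :
    ∃ t, t * t = 1 ∧ D.IsLin t ∧ t ∉ D.K ∧ (∀ v, cact D.F t v = pm (Equiv.swap 0 1) v) ∧
    ∀ (q : Q) (v : Vec6), (q : ↥Q ⧸ Subgroup.center ↥Q) = D.F.co v → v 0 = v 1 →
      v 2 = 0 ∨ v 2 = (1, 0) → (q : Subgroup.centralizer ({z} : Set G)) * t = t * q := by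
  obtain ⟨k, hk, s, hs⟩ := D.exists_model h (e := false) hl
  have hs1 : s = true := by
    by_contra hne
    rw [Bool.not_eq_true] at hne
    refine hK ?_
    rw [show h = k⁻¹ * (k * h) by group]
    refine D.K.mul_mem (D.K.inv_mem hk) (D.mem_K_of_act (one_mem _) fun c => ?_)
    rw [hs, hne, cact_one]
    simp [model, dg_zero, pm_one]
  have hu : ∀ v, cact D.F (k * h) v = pm (Equiv.swap 0 1) v := fun v => by
    rw [hs, hs1]; simp [model, dg_zero]
  have hlu : D.IsLin (k * h) := fun v => by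
    show cact D.F (k * h) (sm 1 v) = sm 1 _
    rw [hu, hu]; rfl
  obtain ⟨x, -, hx3, hx⟩ := D.exists_scalar
  obtain ⟨q0, hq0⟩ := D.lift_comm hx3 hx hlu
  set t0 := (q0 : Subgroup.centralizer ({z} : Set G)) * (k * h) with ht0
  clear_value t0
  have hact : ∀ v, cact D.F t0 v = pm (Equiv.swap 0 1) v := fun v => by
    rw [ht0, cact_mul, D.cact_Q q0.2, hu]
  have ht0K : t0 ∉ D.K := fun h0 => hK (by
    rw [show h = k⁻¹ * ((q0 : Subgroup.centralizer ({z} : Set G))⁻¹ * t0) by rw [ht0]; group]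
    exact D.K.mul_mem (D.K.inv_mem hk) (D.K.mul_mem (D.K.inv_mem (D.le q0.2)) h0))
  -- the lifts of fixed vectors
  have hfix : ∀ (q : Q) (v : Vec6), (q : ↥Q ⧸ Subgroup.center ↥Q) = D.F.co v → v 0 = v 1 →
      (q : Subgroup.centralizer ({z} : Set G)) * t0 = t0 * q := by
    intro q v hqv hv
    have hpv : pm (Equiv.swap 0 1) v = v := funext fun i => by
      by_cases h0 : i = 0
      · subst h0; simp [pm, hv]
      by_cases h1 : i = 1
      · subst h1; simp [pm, hv]
      simp [pm, Equiv.swap_apply_of_ne_of_ne h0 h1]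
    set u : Q := (MulAut.conjNormal t0 q) * q⁻¹ with hu'
    have huc : u ∈ Subgroup.center ↥Q := by
      rw [← QuotientGroup.eq_one_iff, hu', QuotientGroup.mk_mul, QuotientGroup.mk_inv, ← actV_mk, hqv,
        ← co_cact, hact, hpv, mul_inv_cancel]
    have huu : u * u = 1 := by
      rcases (center_iff D.b).1 huc with e | e
      · rw [e, mul_one]
      · exact Subtype.ext (by rw [Subgroup.coe_mul, e, zc_sq D.b]; rfl)
    have hux : MulAut.conjNormal x u = u := by
      rcases (center_iff D.b).1 huc with e | e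
      · rw [e, map_one]
      · refine Subtype.ext ?_
        rw [MulAut.conjNormal_apply, e,
          (Subtype.ext (Subgroup.mem_centralizer_singleton_iff.1 x.2) : x * zc z = zc z * x), mul_inv_cancel_right]
    have hcx : ∀ a : Q, MulAut.conjNormal t0 (MulAut.conjNormal x a) =
        MulAut.conjNormal x (MulAut.conjNormal t0 a) := fun a => by
      rw [← MulAut.mul_apply, ← map_mul, hq0, map_mul, MulAut.mul_apply]
    set b := MulAut.conjNormal x q with hb
    set c := MulAut.conjNormal x b with hc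
    have ea : MulAut.conjNormal t0 q = u * q := by rw [hu', inv_mul_cancel_right]
    have eb : MulAut.conjNormal t0 b = u * b := by rw [hb, hcx, ea, map_mul, hux]
    have ec : MulAut.conjNormal t0 c = u * c := by rw [hc, hcx, eb, map_mul, hux]
    have eb0 : (b : ↥Q ⧸ Subgroup.center ↥Q) = D.F.co (sm 1 v) := by rw [hb, ← actV_mk, hqv, ← co_cact, hx]
    have ec0 : (c : ↥Q ⧸ Subgroup.center ↥Q) = D.F.co (sm 1 (sm 1 v)) := by rw [hc, ← actV_mk, eb0, ← co_cact, hx]
    have habc : q * b * c ∈ Subgroup.center ↥Q := by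
      rw [← QuotientGroup.eq_one_iff, QuotientGroup.mk_mul, QuotientGroup.mk_mul, hqv, eb0, ec0, sm_sm,
        ← D.F.map_add, ← D.F.map_add,
        show (1 : ZMod 3) + 1 = 2 from rfl, sm_sum, co_zero D.b D.F]
    have hinv : MulAut.conjNormal t0 (q * b * c) = q * b * c := by
      rcases (center_iff D.b).1 habc with e | e
      · rw [e, map_one]
      · refine Subtype.ext ?_
        rw [MulAut.conjNormal_apply, e,
          (Subtype.ext (Subgroup.mem_centralizer_singleton_iff.1 t0.2) : t0 * zc z = zc z * t0), mul_inv_cancel_right]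
    have hcomm := fun y : Q => Subgroup.mem_center_iff.1 huc y
    rw [map_mul, map_mul, ea, eb, ec] at hinv
    have h1 : u * q * (u * b) * (u * c) = u * (q * b * c) := by
      calc u * q * (u * b) * (u * c) = u * (q * u) * b * (u * c) := by simp only [mul_assoc]
        _ = u * u * (q * b) * (u * c) := by rw [hcomm q]; simp only [mul_assoc]
        _ = q * b * u * c := by rw [huu, one_mul]; simp only [mul_assoc]
        _ = u * (q * b) * c := by rw [hcomm (q * b)]
        _ = u * (q * b * c) := by simp only [mul_assoc]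
    rw [h1, mul_eq_right] at hinv
    have h2 := congrArg Subtype.val ea
    rw [hinv, one_mul, MulAut.conjNormal_apply, mul_inv_eq_iff_eq_mul] at h2
    exact h2.symm
  have hsq : t0 * t0 ∈ Q := D.mem_Q_of_act fun c => by
    rw [cact_mul, hact, hact, ← LargeFischer.pm_pm, Equiv.swap_mul_self, pm_one]
  have hsqx : t0 * t0 * x = x * (t0 * t0) := by rw [mul_assoc, hq0, ← mul_assoc, hq0, mul_assoc]
  rcases D.comm_Q hx (q := ⟨_, hsq⟩) hsqx with e | e
  · exact ⟨t0, congrArg Subtype.val e, fun v => by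
      show cact D.F t0 (sm 1 v) = sm 1 _
      rw [hact, hact]; rfl, ht0K, hact, fun q v hqv hv _ => hfix q v hqv hv⟩
  · replace e : t0 * t0 = zc z := e
    set q2 := lift D.F (Pi.single 2 (1, 0)) with hq2
    have hq2sq : (q2 : Subgroup.centralizer ({z} : Set G)) * q2 = zc z := by
      have h1 : q2 * q2 ≠ 1 := fun h1 =>
        absurd ((sq_iff D.b D.F (mk_lift D.F _)).1 h1) (by decide +kernel)
      exact ((center_iff D.b).1 (sq_mem D.b q2)).resolve_left h1
    have hc2 : (q2 : Subgroup.centralizer ({z} : Set G)) * t0 = t0 * q2 :=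
      hfix q2 _ (mk_lift D.F _) (by decide +kernel)
    have hact2 : ∀ v, cact D.F ((q2 : Subgroup.centralizer ({z} : Set G)) * t0) v = pm (Equiv.swap 0 1) v :=
      fun v => by rw [cact_mul, D.cact_Q q2.2, hact]
    refine ⟨(q2 : Subgroup.centralizer ({z} : Set G)) * t0, ?_, fun v => ?_, fun h0 => ht0K ?_, hact2,
      fun q v hqv hv hv2 => ?_⟩
    · rw [mul_assoc, ← mul_assoc t0, ← hc2, mul_assoc, e, ← mul_assoc, hq2sq, zc_sq D.b]
    · show cact D.F _ (sm 1 v) = sm 1 _
      rw [hact2, hact2]; rfl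
    · rw [show t0 = (q2 : Subgroup.centralizer ({z} : Set G))⁻¹ * ((q2 : Subgroup.centralizer ({z} : Set G)) * t0) by
        group]
      exact D.K.mul_mem (D.K.inv_mem (D.le q2.2)) h0
    · have hp : Perp (Pi.single 2 ((1, 0) : W4)) v := by
        rw [Perp, par_sum, par_sum, par_sum, ← sum_add_distrib]
        refine sum_congr rfl fun i _ => ?_
        by_cases hi : i = 2
        · subst hi
          rcases hv2 with h2 | h2 <;> simp [h2] <;> decide
        · simp [Pi.single_eq_of_ne hi]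
      have hB := (B_perp D.b D.F _ _).2 hp
      rw [B_eq D.b D.F (mk_lift D.F _) hqv] at hB
      simp only [ite_eq_left_iff, one_ne_zero, imp_false, not_not] at hB
      have h1 : q2 * q = q * q2 := commutatorElement_eq_one_iff_mul_comm.1 hB
      have h1' := congrArg Subtype.val h1
      simp only [Subgroup.coe_mul] at h1'
      calc _ = (q : Subgroup.centralizer ({z} : Set G)) * q2 * t0 := (mul_assoc _ _ _).symm
        _ = (q2 : Subgroup.centralizer ({z} : Set G)) * ((q : Subgroup.centralizer ({z} : Set G)) * t0) := by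
          rw [← h1', mul_assoc]
        _ = _ := by rw [hfix q v hqv hv, mul_assoc]

end Cent

variable {G : Type*} [Group G] [Finite G] {z : G}
  {Q : Subgroup (Subgroup.centralizer ({z} : Set G))} [Q.Normal]

/-- The quotient by `K`. -/
theorem quot_of (D : Cent z Q) : Quot D := by
  classical
  haveI := D.norm
  have hflip : ∀ u, D.IsLin u → u ∉ D.K → ∀ a ∈ D.K, ∀ s,
      (∀ c, cact D.F (a * u) c = model D.c false s c) → s = true := by
    intro u _ huK a ha s hs
    by_contra hne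
    rw [Bool.not_eq_true] at hne
    refine huK ?_
    rw [show u = a⁻¹ * (a * u) by group]
    refine D.K.mul_mem (D.K.inv_mem ha) (D.mem_K_of_act (one_mem _) fun c => ?_)
    rw [hs, hne, cact_one]
    simp [model, dg_zero, pm_one]
  have hlin_two : ∀ g h, D.IsLin g → D.IsLin h → g ∉ D.K → h ∉ D.K → g * h ∈ D.K := by
    intro g h hg hh hgK hhK
    obtain ⟨a, ha, s, hs⟩ := D.exists_model g (e := false) hg
    obtain ⟨b, hb, t, ht⟩ := D.exists_model h (e := false) hh
    obtain rfl := hflip g hg hgK a ha s hs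
    obtain rfl := hflip h hh hhK b hb t ht
    rw [show g * h = g * g * (g⁻¹ * h) by group]
    exact D.K.mul_mem (D.sq_mem_K g) (D.same_coset ha hb hs ht)
  have hanti : (∀ h, D.IsLin h → h ∈ D.K) → D.K.index ≤ 2 := by
    intro hall
    have hinj : Function.Injective fun q : _ ⧸ D.K => decide (Quotient.out q ∈ D.K) := by
      intro p q e
      simp only [decide_eq_decide] at e
      rw [← QuotientGroup.out_eq' p, ← QuotientGroup.out_eq' q, QuotientGroup.eq]
      by_cases hp : Quotient.out p ∈ D.K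
      · exact D.K.mul_mem (D.K.inv_mem hp) (e.1 hp)
      · have ha := (D.lin_or_anti _).resolve_left fun hl => hp (hall _ hl)
        have hb := (D.lin_or_anti _).resolve_left fun hl => hp (e.2 (hall _ hl))
        rw [show (Quotient.out p)⁻¹ * Quotient.out q =
          (Quotient.out p * Quotient.out p)⁻¹ * (Quotient.out p * Quotient.out q) by group]
        exact D.K.mul_mem (D.K.inv_mem (D.sq_mem_K _)) (hall _ (D.anti_mul ha hb))
    exact (Nat.card_le_card_of_injective _ hinj).trans (by simp)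
  refine ⟨?_, D.sq_mem_K, D.lin_or_anti, hlin_two, hanti, fun ⟨h, hl, hK⟩ => D.exists_transvection hl hK⟩
  -- the index
  have hw : ∀ q : _ ⧸ D.K, ∃ es : Bool × Bool, ∃ k ∈ D.K,
      ∀ c, cact D.F (k * Quotient.out q) c = model D.c es.1 es.2 c := by
    intro q
    rcases D.lin_or_anti (Quotient.out q) with hl | ha
    · obtain ⟨k, hk, s, hs⟩ := D.exists_model _ (e := false) hl
      exact ⟨(false, s), k, hk, hs⟩
    · obtain ⟨k, hk, s, hs⟩ := D.exists_model _ (e := true) ha
      exact ⟨(true, s), k, hk, hs⟩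
  choose f k hk hf using hw
  have hinj : Function.Injective f := by
    intro p q e
    rw [← QuotientGroup.out_eq' p, ← QuotientGroup.out_eq' q, QuotientGroup.eq]
    have h1 := hf q
    rw [← e] at h1
    exact D.same_coset (hk p) (hk q) (hf p) h1
  haveI : Fact (Nat.Prime 2) := ⟨Nat.prime_two⟩
  have h2 : IsPGroup 2 (_ ⧸ D.K) := by
    intro q
    obtain ⟨h, rfl⟩ := QuotientGroup.mk_surjective q
    refine ⟨1, ?_⟩
    rw [pow_one, pow_two, ← QuotientGroup.mk_mul, QuotientGroup.eq_one_iff]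
    exact D.sq_mem_K h
  obtain ⟨n, hn⟩ := IsPGroup.iff_card.1 h2
  have h8 := Nat.card_le_card_of_injective _ hinj
  rw [Subgroup.index, hn]
  rw [hn, Nat.card_eq_fintype_card, Fintype.card_prod, Fintype.card_bool] at h8
  have : n ≤ 2 := by
    by_contra hc
    have := Nat.pow_le_pow_right (show 0 < 2 by norm_num) (show 3 ≤ n by omega)
    omega
  interval_cases n <;> simp

end Cfsg.Agent.Fi24Cent
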