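import Cfsg.Agent.Fi24Cent.Setting
import Cfsg.Agent.LargeExtra.SingularSubgroup
import Mathlib.GroupTheory.Sylow

/-!
No conjugate of `z` in `Q` lies in the class of weight two: the centraliser of such a conjugate would
give an abelian Sylow 2-subgroup of `3.U₄(3)`.
-/

set_option autoImplicit false
set_option maxRecDepth 20000
set_option Elab.async false
set_option maxHeartbeats 4000000

open Finset Cfsg Cfsg.Agent Cfsg.Agent.LargeFischer
open scoped Pointwise

namespace Cfsg.Agent.Fi24Cent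

/-- A double transposition. -/
def rho : Equiv.Perm (Fin 6) := Equiv.swap 0 2 * Equiv.swap 1 3

/-- An element of order four. -/
def sigma : Equiv.Perm (Fin 6) := Equiv.swap 0 1 * Equiv.swap 1 2 * Equiv.swap 2 3 * Equiv.swap 4 5

/-- An involution. -/
def tau : Equiv.Perm (Fin 6) := Equiv.swap 0 2 * Equiv.swap 4 5

theorem rho_facts : (∀ π : Equiv.Perm (Fin 6), Equiv.Perm.sign π = 1 → π * rho = rho * π →
      π * π * π * π = 1) ∧
    Equiv.Perm.sign sigma = 1 ∧ sigma * rho = rho * sigma ∧ Equiv.Perm.sign tau = 1 ∧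
    tau * rho = rho * tau ∧
    (∃ i, pm (sigma * tau) (Pi.single i ((1, 0) : W4)) ≠ pm (tau * sigma) (Pi.single i (1, 0))) := by
  decide +kernel

namespace Cent

variable {G : Type*} [Group G] [Finite G] {z : G}
  {Q : Subgroup (Subgroup.centralizer ({z} : Set G))} [Q.Normal] (D : Cent z Q)
include D

/-- A 2-subgroup of the image of `K` which is not abelian. -/
theorem exists_two_subgroup : ∃ W : Subgroup (MulAut (↥Q ⧸ Subgroup.center ↥Q)), W ≤ D.K.map (actV Q) ∧
    IsPGroup 2 ↥W ∧ ∃ a ∈ W, ∃ b ∈ W, a * b ≠ b * a := by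
  let W : Subgroup (MulAut (↥Q ⧸ Subgroup.center ↥Q)) :=
    { carrier := {φ | ∃ π : Equiv.Perm (Fin 6), (Equiv.Perm.sign π = 1 ∧ π * rho = rho * π) ∧
        ∀ c, φ (D.F.co c) = D.F.co (pm π c)}
      one_mem' := ⟨1, ⟨map_one _, by simp⟩, fun c => by rw [MulAut.one_apply]; rfl⟩
      mul_mem' := by
        rintro a b ⟨π, ⟨hs, hπ⟩, ha⟩ ⟨τ, ⟨hs', hτ⟩, hb⟩
        refine ⟨π * τ, ⟨by rw [map_mul, hs, hs', one_mul], ?_⟩, fun c => by
          rw [MulAut.mul_apply, hb, ha, ← LargeFischer.pm_pm]⟩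
        rw [mul_assoc, hτ, ← mul_assoc, hπ, mul_assoc]
      inv_mem' := by
        rintro a ⟨π, ⟨hs, hπ⟩, ha⟩
        refine ⟨π⁻¹, ⟨by rw [map_inv, hs, inv_one], (Commute.inv_left hπ : _)⟩, fun c => ?_⟩
        rw [← MulAut.inv_apply_self _ a (D.F.co (pm π⁻¹ c)), ha, ← LargeFischer.pm_pm, mul_inv_cancel]
        rfl }
  obtain ⟨-, hs, hσ, ht, hτ, i, hne⟩ := rho_facts
  obtain ⟨m, -, hm⟩ := D.F.perm sigma hs
  obtain ⟨n, -, hn⟩ := D.F.perm tau ht
  refine ⟨W, ?_, fun φ => ⟨2, ?_⟩, actV Q m, ⟨sigma, ⟨hs, hσ⟩, hm⟩, actV Q n, ⟨tau, ⟨ht, hτ⟩, hn⟩, fun e => hne ?_⟩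
  · rintro φ ⟨π, ⟨hπ, -⟩, hφ⟩
    obtain ⟨k, hk, hk'⟩ := D.F.perm π hπ
    refine ⟨k, hk, MulEquiv.ext fun x => ?_⟩
    obtain ⟨c, rfl⟩ := D.F.bij.2 x
    rw [hk', hφ]
  · obtain ⟨φ, π, ⟨hπ, hc⟩, hφ⟩ := φ
    refine Subtype.ext (MulEquiv.ext fun x => ?_)
    obtain ⟨c, rfl⟩ := D.F.bij.2 x
    show (φ ^ 2 ^ 2) (D.F.co c) = D.F.co c
    rw [show (2 : ℕ) ^ 2 = 4 from rfl, pow_succ, pow_succ, pow_two, MulAut.mul_apply, MulAut.mul_apply,
      MulAut.mul_apply, hφ, hφ, hφ, hφ, ← LargeFischer.pm_pm, ← LargeFischer.pm_pm, ← LargeFischer.pm_pm,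
      rho_facts.1 π hπ hc]
    rfl
  · have h1 := DFunLike.congr_fun e (D.F.co (Pi.single i (1, 0)))
    rw [MulAut.mul_apply, MulAut.mul_apply, hn, hm, hm, hn, ← LargeFischer.pm_pm, ← LargeFischer.pm_pm] at h1
    exact D.F.bij.1 h1

/-- A conjugate of `z` in `Q` is not in the class of weight two. -/
theorem not_conj_rep (hq : Quot D) {g : G} {x : Q} (hg : g * z * g⁻¹ = ((x : Subgroup.centralizer ({z} : Set G)) : G))
    (hx : (x : ↥Q ⧸ Subgroup.center ↥Q) = D.F.co (srep 0)) : False := by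
  classical
  have S := D.setting
  have hxo : g * z * g⁻¹ ∈ LargeExtra.oc z := D.mem_oc_iff.2 ⟨x, hg.symm⟩
  have hzx : z ∈ LargeExtra.oc (g * z * g⁻¹) := S.symm hxo
  -- the elements of `Q` lying in the conjugate of `Q`
  have hU2 : ∀ u : Q, ((u : Subgroup.centralizer ({z} : Set G)) : G) ∈ LargeExtra.oc (g * z * g⁻¹) →
      u * u = 1 := by
    intro u hu
    by_contra h
    rcases (center_iff D.b).1 (sq_mem D.b u) with e | e
    · exact h e
    have huu : ((u : Subgroup.centralizer ({z} : Set G)) : G) * u = z := congrArg Subtype.val e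
    have h1 := LargeExtra.conj_mem_oc (g := g⁻¹) hu
    rw [show g⁻¹ * (g * z * g⁻¹) * g⁻¹⁻¹ = z by group] at h1
    obtain ⟨q, hq⟩ := D.mem_oc_iff.1 h1
    have hqq : ((q : Subgroup.centralizer ({z} : Set G)) : G) * q = g⁻¹ * z * g := by
      rw [hq]
      calc _ = g⁻¹ * (((u : Subgroup.centralizer ({z} : Set G)) : G) * u) * g := by group
        _ = _ := by rw [huu]
    rcases (center_iff D.b).1 (sq_mem D.b q) with e' | e'
    · have h2 : g⁻¹ * z * g = 1 :=
        hqq.symm.trans (congrArg (fun q : Q => ((q : Subgroup.centralizer ({z} : Set G)) : G)) e')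
      exact LargeExtra.Setting.ne_one S (by
        calc z = g * (g⁻¹ * z * g) * g⁻¹ := by group
          _ = 1 := by rw [h2]; group)
    · have h2 : g⁻¹ * z * g = z := hqq.symm.trans (congrArg Subtype.val e')
      have h3 : g * z * g⁻¹ = z := by
        calc g * z * g⁻¹ = g * (g⁻¹ * z * g) * g⁻¹ := by rw [h2]
          _ = z := by group
      exact (D.notMem_center hx (by decide +kernel))
        ((center_iff D.b).2 (Or.inr (Subtype.ext (hg.symm.trans h3))))
  -- classes of these elements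
  let img : Set Vec6 := {v | ∃ u : Q,
    ((u : Subgroup.centralizer ({z} : Set G)) : G) ∈ LargeExtra.oc (g * z * g⁻¹) ∧
      (u : ↥Q ⧸ Subgroup.center ↥Q) = D.F.co v}
  have hpar : ∀ v ∈ img, par v = 0 := fun v ⟨u, hu, hv⟩ => (sq_iff D.b D.F hv).1 (hU2 u hu)
  have hadd : ∀ v ∈ img, ∀ w ∈ img, v + w ∈ img := fun v ⟨u, hu, hv⟩ w ⟨u', hu', hw⟩ =>
    ⟨u * u', mul_mem hu hu', by rw [QuotientGroup.mk_mul, hv, hw, D.F.map_add]⟩
  have hdiag : ∀ v ∈ img, ∀ i j : Fin 6, 2 ≤ (i : ℕ) → 2 ≤ (j : ℕ) → i ≠ j →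
      dg (Pi.single i 1 + Pi.single j 2) v ∈ img := by
    rintro v ⟨u, hu, hv⟩ i j hi hj hij
    obtain ⟨m, -, hm⟩ := D.F.diag (Pi.single i 1 + Pi.single j 2) (by
      simp only [Pi.add_apply, sum_add_distrib, Finset.sum_pi_single', mem_univ, if_true]; rfl)
    have hfix : dg (Pi.single i 1 + Pi.single j 2) (srep 0) = srep 0 := by
      funext k
      by_cases hk : (k : ℕ) < 2
      · have h1 : k ≠ i := fun e => by rw [e] at hk; omega
        have h2 : k ≠ j := fun e => by rw [e] at hk; omega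
        simp [dg, h1, h2, omk_facts.2.2.2]
      · have : srep 0 k = 0 := if_neg hk
        rw [dg, this, (omk_facts.1 _ _).2 rfl]
    have h1 : ((MulAut.conjNormal m x : Q) : ↥Q ⧸ Subgroup.center ↥Q) = D.F.co (srep 0) := by
      rw [← actV_mk, hx, hm, hfix]
    obtain ⟨q, hq⟩ := D.class_conj (D.notMem_center h1 (by decide +kernel)) (h1.trans hx.symm)
    set k : Subgroup.centralizer ({z} : Set G) := (q : Subgroup.centralizer ({z} : Set G)) * m with hk
    have hkx : k * (x : Subgroup.centralizer ({z} : Set G)) * k⁻¹ = x := by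
      have := congrArg Subtype.val hq
      simp only [Subgroup.coe_mul, Subgroup.coe_inv, MulAut.conjNormal_apply] at this
      rw [hk]
      conv_rhs => rw [← this]
      group
    have hkc : (k : G) ∈ Subgroup.centralizer ({g * z * g⁻¹} : Set G) := by
      rw [Subgroup.mem_centralizer_singleton_iff, hg]
      exact congrArg Subtype.val (mul_inv_eq_iff_eq_mul.1 hkx)
    refine ⟨MulAut.conjNormal k u, LargeExtra.oc_conj_mem hkc hu, ?_⟩
    rw [← actV_mk, hk, map_mul, MulAut.mul_apply, hv, hm,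
      show actV Q (q : Subgroup.centralizer ({z} : Set G)) = 1 from
        MonoidHom.mem_ker.1 (by rw [actV_ker D.b]; exact q.2)]
    rfl
  -- supports
  have hsupp : ∀ v ∈ img, ∀ i : Fin 6, 2 ≤ (i : ℕ) → v i = 0 := by
    intro v hv i hi
    by_contra h0
    have step : ∀ w ∈ img, ∀ j : Fin 6, 2 ≤ (j : ℕ) → i ≠ j → w i ≠ 0 →
        w j ≠ 0 ∧ ∃ w' ∈ img, w' i ≠ 0 ∧ ∀ k, k ≠ i → k ≠ j → w' k = 0 := by
      intro w hw j hj hij hwi
      have hmem := hadd _ hw _ (hdiag w hw i j hi hj hij)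
      have hval : ∀ k, (w + dg (Pi.single i 1 + Pi.single j 2) w) k =
          if k = i then w k + omk 1 (w k) else if k = j then w k + omk 2 (w k) else 0 := by
        intro k
        simp only [Pi.add_apply, dg, Pi.single_apply]
        by_cases h1 : k = i
        · subst h1; simp [hij]
        by_cases h2 : k = j
        · subst h2; simp [h1]
        simp only [h1, h2, if_false, add_zero, omk_facts.2.2.2]
        exact (show ∀ p : W4, p + p = 0 by decide) _
      have hne : ∀ p : W4, p ≠ 0 → p + omk 1 p ≠ 0 := by decide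
      refine ⟨fun hwj => ?_, _, hmem, ?_, fun k hk hk' => by rw [hval, if_neg hk, if_neg hk']⟩
      · have hp := hpar _ hmem
        have e : w + dg (Pi.single i 1 + Pi.single j 2) w = Pi.single i (w i + omk 1 (w i)) := by
          funext k
          rw [hval]
          by_cases h1 : k = i
          · subst h1; simp
          · rw [if_neg h1, Pi.single_eq_of_ne h1]
            by_cases h2 : k = j
            · subst h2; rw [if_pos rfl, hwj]; decide
            · rw [if_neg h2]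
        rw [e] at hp
        exact hne _ hwi ((show ∀ (k : Fin 6) (p : W4), par (Pi.single k p) = 0 → p = 0 by decide +kernel) _ _ hp)
      · rw [hval, if_pos rfl]; exact hne _ hwi
    obtain ⟨j, k, hj, hk, hij, hik, hjk⟩ : ∃ j k : Fin 6, 2 ≤ (j : ℕ) ∧ 2 ≤ (k : ℕ) ∧ i ≠ j ∧ i ≠ k ∧ j ≠ k :=
      (show ∀ i : Fin 6, ∃ j k : Fin 6, 2 ≤ (j : ℕ) ∧ 2 ≤ (k : ℕ) ∧ i ≠ j ∧ i ≠ k ∧ j ≠ k by decide) i
    obtain ⟨-, w, hw, hwi, hw0⟩ := step v hv j hj hij h0
    exact (step w hw k hk hik hwi).1 (hw0 k (Ne.symm hik) (Ne.symm hjk))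
  have hzero : ∀ v ∈ img, v 0 = 0 → v = 0 := by
    intro v hv h0
    have e : v = Pi.single 1 (v 1) := by
      funext k
      by_cases h1 : k = 1
      · subst h1; simp
      rw [Pi.single_eq_of_ne h1]
      by_cases h2 : k = 0
      · subst h2; exact h0
      · exact hsupp v hv k (by
          rcases k with ⟨k, hk⟩
          simp only [ne_eq, Fin.ext_iff] at h1 h2
          simp at h1 h2 ⊢
          omega)
    have hp := hpar v hv
    rw [e] at hp
    rw [e, (show ∀ (k : Fin 6) (p : W4), par (Pi.single k p) = 0 → p = 0 by decide +kernel) _ _ hp,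
      Pi.single_zero]
  -- orders
  have hzmem := LargeExtra.conj_mem_oc (g := g⁻¹) hzx
  rw [show g⁻¹ * (g * z * g⁻¹) * g⁻¹⁻¹ = z by group, inv_inv] at hzmem
  obtain ⟨w, hw⟩ := D.mem_oc_iff.1 hzmem
  let C : Subgroup ↥Q := Subgroup.centralizer {w}
  have hC : 2 ^ 12 ≤ Nat.card ↥C := by
    let cm : ↥Q →* ↥(Subgroup.center ↥Q) := MonoidHom.mk' (fun q => ⟨w * q * w⁻¹ * q⁻¹, comm_mem D.b w q⟩)
      fun p q => Subtype.ext (comm_mul_right D.b w p q)
    have hker : cm.ker = C := by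
      ext q
      rw [MonoidHom.mem_ker, Subgroup.mem_centralizer_singleton_iff, ← Subtype.coe_inj]
      exact commutatorElement_eq_one_iff_mul_comm.trans eq_comm
    have h1 := cm.ker.card_mul_index
    rw [Subgroup.index_ker, hker, D.b.card] at h1
    have h2 := Subgroup.card_le_card_group cm.range
    rw [D.b.es.2] at h2
    nlinarith [Nat.mul_le_mul (le_refl (Nat.card ↥C)) h2]
  have hcH : ∀ q : C, g * (((q : Q) : Subgroup.centralizer ({z} : Set G)) : G) * g⁻¹ ∈
      Subgroup.centralizer ({z} : Set G) := by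
    intro q
    rw [Subgroup.mem_centralizer_singleton_iff]
    have h := congrArg (fun q : Q => ((q : Subgroup.centralizer ({z} : Set G)) : G))
      (Subgroup.mem_centralizer_singleton_iff.1 q.2)
    simp only [Subgroup.coe_mul, hw] at h
    set a := (((q : Q) : Subgroup.centralizer ({z} : Set G)) : G)
    calc g * a * g⁻¹ * z = g * (a * (g⁻¹ * z * g)) * g⁻¹ := by group
      _ = g * (g⁻¹ * z * g * a) * g⁻¹ := by rw [h]
      _ = z * (g * a * g⁻¹) := by group
  let θ : ↥C →* Subgroup.centralizer ({z} : Set G) := MonoidHom.mk' (fun q => ⟨_, hcH q⟩) fun p q =>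
    Subtype.ext (by
      show g * _ * g⁻¹ = g * _ * g⁻¹ * (g * _ * g⁻¹)
      simp only [Subgroup.coe_mul]
      group)
  let ψ := (QuotientGroup.mk' Q).comp θ
  have hθo : ∀ q : C, ((θ q : Subgroup.centralizer ({z} : Set G)) : G) ∈ LargeExtra.oc (g * z * g⁻¹) := fun q =>
    LargeExtra.conj_mem_oc (D.mem_oc_iff.2 ⟨q.1, rfl⟩)
  have hker : Nat.card ↥ψ.ker ≤ 8 := by
    have hq : ∀ k : ψ.ker, θ k ∈ Q := fun k => (QuotientGroup.eq_one_iff _).1 k.2
    have hv : ∀ k : ψ.ker, ∃ v, ((⟨θ k, hq k⟩ : Q) : ↥Q ⧸ Subgroup.center ↥Q) = D.F.co v := fun k =>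
      (D.F.bij.2 _).imp fun _ e => e.symm
    choose v hv using hv
    have hvm : ∀ k, v k ∈ img := fun k => ⟨⟨θ k, hq k⟩, hθo _, hv k⟩
    let Φ : ψ.ker → W4 × Bool := fun k => (v k 0, decide ((⟨θ k, hq k⟩ : Q) = lift D.F (v k)))
    have hΦ : Function.Injective Φ := by
      intro k l h
      simp only [Φ, Prod.mk.injEq] at h
      obtain ⟨h0, hb⟩ := h
      have hvv : v k = v l := by
        have hd := hzero _ (hadd _ (hvm k) _ (hvm l))
          (by rw [Pi.add_apply, h0]; exact (show ∀ p : W4, p + p = 0 by decide) _)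
        funext i
        exact (show ∀ p q : W4, p + q = 0 → p = q by decide) _ _ (congrFun hd i)
      have hqq : (⟨θ k, hq k⟩ : Q) = ⟨θ l, hq l⟩ := by
        rw [decide_eq_decide] at hb
        by_cases e : (⟨θ k, hq k⟩ : Q) = lift D.F (v k)
        · rw [e, hb.1 e, hvv]
        · obtain ⟨u, hu, eu⟩ := exists_central D.b D.F (hv k)
          obtain ⟨u', hu', eu'⟩ := exists_central D.b D.F (hv l)
          have h1 : u ≠ 1 := fun e1 => e (by rw [eu, e1, mul_one])
          have h2 : u' ≠ 1 := fun e1 => e (hb.2 (by rw [eu', e1, mul_one]))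
          rw [eu, eu', center_two D.b hu h1 hu' h2, hvv]
      have hθ := congrArg (fun q : Q => ((q : Subgroup.centralizer ({z} : Set G)) : G)) hqq
      change g * _ * g⁻¹ = g * _ * g⁻¹ at hθ
      exact Subtype.ext (Subtype.ext (Subtype.ext (Subtype.ext (mul_left_cancel (mul_right_cancel hθ)))))
    exact (Nat.card_le_card_of_injective Φ hΦ).trans (by simp)
  -- the image in the subgroup over `3.U₄(3)`
  haveI := D.norm
  have hCp : IsPGroup 2 ↥C := (IsPGroup.of_card (G := ↥Q) D.b.card).to_subgroup C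
  let C' : Subgroup ↥C := D.K.comap θ
  let ξ : ↥C' →* MulAut (↥Q ⧸ Subgroup.center ↥Q) := ((actV Q).comp θ).comp C'.subtype
  have hker' : Nat.card ↥ξ.ker ≤ 8 := by
    refine le_trans (Nat.card_le_card_of_injective (fun k : ↥ξ.ker => (⟨k.1.1, ?_⟩ : ↥ψ.ker))
      fun a b e => ?_) hker
    · show QuotientGroup.mk' Q (θ k.1.1) = 1
      have h : actV Q (θ k.1.1) = 1 := k.2
      exact (QuotientGroup.eq_one_iff _).2 ((actV_ker D.b).le (MonoidHom.mem_ker.2 h))
    · exact Subtype.ext (Subtype.ext (congrArg (fun k : ↥ψ.ker => (k : ↥C)) e))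
  have hind : C'.index ≤ 4 := by
    rw [show C'.index = D.K.relIndex θ.range from Subgroup.index_comap _ _]
    have h4 : D.K.index ≤ 4 := by rcases hq.index with h | h | h <;> omega
    exact (Nat.le_of_dvd (by rcases hq.index with h | h | h <;> omega)
      (Subgroup.relIndex_dvd_index_of_normal D.K θ.range)).trans h4
  have hC' : 2 ^ 10 ≤ Nat.card ↥C' := by
    have h1 := C'.card_mul_index
    nlinarith [Nat.mul_le_mul (le_refl (Nat.card ↥C')) hind]
  set KB := D.K.map (actV Q) with hKB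
  have hle : ξ.range ≤ KB := by rintro _ ⟨q, rfl⟩; exact ⟨θ q.1, q.2, rfl⟩
  have hR : IsPGroup 2 ↥ξ.range := (hCp.to_subgroup C').of_surjective ξ.rangeRestrict ξ.rangeRestrict_surjective
  haveI : Fact (Nat.Prime 2) := ⟨Nat.prime_two⟩
  haveI : Finite (MulAut (↥Q ⧸ Subgroup.center ↥Q)) :=
    Finite.of_injective (fun φ : MulAut _ => (φ : ↥Q ⧸ Subgroup.center ↥Q → ↥Q ⧸ Subgroup.center ↥Q))
      DFunLike.coe_injective
  have h7 : Nat.card ↥ξ.range = 2 ^ 7 := by
    obtain ⟨k, hk⟩ := IsPGroup.iff_card.1 hR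
    have hd : Nat.card ↥ξ.range ∣ 9797760 := D.cardK ▸ Subgroup.card_dvd_of_le hle
    have hr := ξ.ker.card_mul_index
    rw [Subgroup.index_ker, hk] at hr
    rw [hk] at hd ⊢
    have hk7 : k ≤ 7 := by
      by_contra h
      exact absurd ((pow_dvd_pow 2 (show 8 ≤ k by omega)).trans hd) (by norm_num)
    obtain rfl | h6 := eq_or_lt_of_le hk7
    · rfl
    have := Nat.pow_le_pow_right (show 0 < 2 by norm_num) (show k ≤ 6 by omega)
    nlinarith [Nat.mul_le_mul hker' this]
  have hab : ∀ p q : ↥C, actV Q (θ p) * actV Q (θ q) = actV Q (θ q) * actV Q (θ p) := by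
    intro p q
    rcases (center_iff D.b).1 (comm_mem D.b (p : Q) (q : Q)) with e | e
    · rw [← map_mul, ← map_mul, ← map_mul, ← map_mul,
        show p * q = q * p from Subtype.ext (commutatorElement_eq_one_iff_mul_comm.1 e)]
    · have h1 : θ (p * q) = (x : Subgroup.centralizer ({z} : Set G)) * θ (q * p) := by
        refine Subtype.ext ?_
        have e' := congrArg (fun c : Subgroup.centralizer ({z} : Set G) => (c : G)) e
        simp only [Subgroup.coe_mul, Subgroup.coe_inv] at e'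
        show g * (((p * q : ↥C) : Q) : Subgroup.centralizer ({z} : Set G)) * g⁻¹ =
          ((x : Subgroup.centralizer ({z} : Set G)) : G) * (g * (((q * p : ↥C) : Q) : Subgroup.centralizer ({z} : Set G)) * g⁻¹)
        rw [← hg]
        simp only [Subgroup.coe_mul]
        calc _ = g * ((((p : Q) : Subgroup.centralizer ({z} : Set G)) : G) * ((q : Q) : Subgroup.centralizer ({z} : Set G)) *
              (((p : Q) : Subgroup.centralizer ({z} : Set G)) : G)⁻¹ *
              (((q : Q) : Subgroup.centralizer ({z} : Set G)) : G)⁻¹) * g⁻¹ *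
              (g * ((((q : Q) : Subgroup.centralizer ({z} : Set G)) : G) * ((p : Q) : Subgroup.centralizer ({z} : Set G))) * g⁻¹) := by group
          _ = _ := by rw [e']; rfl
      rw [← map_mul (actV Q), ← map_mul (actV Q), ← map_mul θ, ← map_mul θ, h1, map_mul (actV Q),
        show actV Q (x : Subgroup.centralizer ({z} : Set G)) = 1 from
          MonoidHom.mem_ker.1 (by rw [actV_ker D.b]; exact x.2), one_mul]
  -- all 2-subgroups are abelian
  obtain ⟨W, hW, hW2, a, ha, b, hb, hne⟩ := D.exists_two_subgroup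
  have hfac : (Nat.card ↥KB).factorization 2 = 7 := by
    rw [hKB, D.cardK, show 9797760 = 2 ^ 7 * 76545 by norm_num,
      Nat.factorization_mul (by norm_num) (by norm_num), Nat.Prime.factorization_pow Nat.prime_two]
    simp [Nat.factorization_eq_zero_of_not_dvd (show ¬2 ∣ 76545 by norm_num)]
  let P : Sylow 2 ↥KB := Sylow.ofCard (ξ.range.subgroupOf KB) (by
    rw [Nat.card_congr (Subgroup.subgroupOfEquivOfLe hle).toEquiv, h7, hfac])
  obtain ⟨S, hS⟩ := (hW2.of_equiv (Subgroup.subgroupOfEquivOfLe hW).symm).exists_le_sylow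
  obtain ⟨κ, hκ⟩ := MulAction.exists_smul_eq ↥KB P S
  have hmem : ∀ c : ↥KB, (c : MulAut _) ∈ W → ∃ q : ↥C', κ.1 * ξ q * κ.1⁻¹ = c := by
    intro c hc
    have h1 : c ∈ (S : Subgroup ↥KB) := hS hc
    rw [← hκ, Sylow.coe_subgroup_smul, Subgroup.mem_pointwise_smul_iff_inv_smul_mem] at h1
    obtain ⟨q, hq⟩ := Subgroup.mem_subgroupOf.1 h1
    refine ⟨q, ?_⟩
    rw [hq]
    show κ.1 * (κ.1⁻¹ * c * κ.1) * κ.1⁻¹ = c
    group
  obtain ⟨p, hp⟩ : ∃ p : ↥C', κ.1 * ξ p * κ.1⁻¹ = a := hmem ⟨a, hW ha⟩ ha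
  obtain ⟨q, hq'⟩ : ∃ q : ↥C', κ.1 * ξ q * κ.1⁻¹ = b := hmem ⟨b, hW hb⟩ hb
  refine hne ?_
  rw [← hp, ← hq']
  have h1 : ξ p * ξ q = ξ q * ξ p := hab p.1 q.1
  calc κ.1 * ξ p * κ.1⁻¹ * (κ.1 * ξ q * κ.1⁻¹)
      = κ.1 * (ξ p * ξ q) * κ.1⁻¹ := by group
    _ = κ.1 * (ξ q * ξ p) * κ.1⁻¹ := by rw [h1]
    _ = κ.1 * ξ q * κ.1⁻¹ * (κ.1 * ξ p * κ.1⁻¹) := by group

end Cent

variable {G : Type*} [Group G] [Finite G] {z : G}
  {Q : Subgroup (Subgroup.centralizer ({z} : Set G))} [Q.Normal]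

/-- No conjugate of `z` in `Q` lies over a vector of the first class. -/
theorem noConjA (D : Cent z Q) (hq : Quot D) : NoConjA D := by
  intro g x v hg hx hv hp hA
  have h0 : srep 0 ≠ 0 ∧ par (srep 0) = 0 := by decide +kernel
  obtain ⟨m, hm⟩ := D.orbit_conj ((D.orb_iff v hv hp (srep 0)).2 ⟨h0.1, h0.2, iff_of_true (Or.inl (sc_srep 0)) hA⟩)
    h0.1 hx (mk_lift D.F _)
  refine D.not_conj_rep hq (g := (m : G) * g) ?_ (mk_lift D.F (srep 0))
  rw [← hm]
  simp only [Subgroup.coe_mul, Subgroup.coe_inv, ← hg]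
  group

end Cfsg.Agent.Fi24Cent
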