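import Cfsg.Agent.Fi24Cent.Assemble
import Cfsg.Agent.Fi24Cent.Halves
import Cfsg.Agent.Fi24Cent.InnerFix
import Cfsg.Agent.Fi24Cent.IndexOne
import Cfsg.Agent.Fi24Cent.Monomial
import Cfsg.Agent.Fi24Cent.NoConjA
import Cfsg.Agent.Fi24Cent.Isolated

/-! The largest Fischer groups from a 2-central involution. -/

set_option autoImplicit false
set_option maxRecDepth 20000
set_option Elab.async false

open Cfsg Cfsg.Agent Cfsg.Agent.LargeFischer

namespace Cfsg.Agent.Fi24Cent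

theorem main {G : Type*} [Group G] [Finite G] {z : G} (hz : orderOf z = 2)
    {L : Type*} [Field L] [Fintype L] (hL : Fintype.card L = 9)
    (hJ : IsExtraspecial 2 ↥(pCore 2 ↥(Subgroup.centralizer ({z} : Set G))))
    (hJc : Nat.card ↥(pCore 2 ↥(Subgroup.centralizer ({z} : Set G))) = 2 ^ 13)
    (hCJ : Subgroup.centralizer ((pCore 2 ↥(Subgroup.centralizer ({z} : Set G))) :
      Set ↥(Subgroup.centralizer ({z} : Set G))) ≤ pCore 2 ↥(Subgroup.centralizer ({z} : Set G)))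
    (M K : Subgroup ↥(Subgroup.centralizer ({z} : Set G))) [M.Normal] [hKn : K.Normal]
    (hJM : pCore 2 ↥(Subgroup.centralizer ({z} : Set G)) ≤ M) (hMK : M ≤ K)
    (hM3 : Nat.card ↥M = 3 * Nat.card ↥(pCore 2 ↥(Subgroup.centralizer ({z} : Set G))))
    (e : (↥K ⧸ M.subgroupOf K) ≃* PSU 4 L 3) :
    Subgroup.centralizer ({z} : Set G) ⊔ oddCore G = ⊤ ∨
      (K.index = 2 ∧ Spor.IsoFi24' G) ∨
      (K.index = 4 ∧ (∀ x : ↥(Subgroup.centralizer ({z} : Set G)) ⧸ K, x ^ 2 = 1) ∧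
        Nonempty (G ≃* Spor.Fi24)) := by
  obtain ⟨D, hD⟩ := exists_cent hz hL hJ hJc hCJ M K hJM hMK hM3 e
  subst hD
  obtain ⟨σ⟩ : Nonempty (L ≃+* U33.F9) :=
    ⟨FiniteField.ringEquivOfCardEq (hL.trans U33.F9.card_eq.symm)⟩
  obtain ⟨φ⟩ := Classical.U32.psu_congr (n := 4) (q := 3) σ
  have hi : D.InnerFix := innerFix_of D M hJM hMK hM3 hL e
  have hq : Quot D := quot_of D
  have hn : NoConjA D := noConjA D hq
  rcases assemble D hJM hMK hM3 U33.F9.card_eq (e.trans φ) hq hn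
      (fun g s hs hd => mem_K_of_fix D hq hi hs hd) (fun hlin hw => isolated D hq hi hlin hw)
      (fun hw => index_ne_one D hn hw) with h | ⟨h2, h⟩ | ⟨h4, hsq, h⟩
  · exact Or.inl h
  · exact Or.inr (Or.inl ⟨h2, h⟩)
  · refine Or.inr (Or.inr ⟨h4, fun x => ?_, h⟩)
    obtain ⟨a, rfl⟩ := QuotientGroup.mk_surjective x
    rw [sq, ← QuotientGroup.mk_mul, QuotientGroup.eq_one_iff]
    exact hsq a

end Cfsg.Agent.Fi24Cent
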