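import Cfsg.Agent.Fusion.TransferParity
import Cfsg.Agent.TwoTransfer.Basic

/-! A subgroup of index two from an involution all of whose nearby conjugates of `z` are `z`. -/

set_option autoImplicit false

namespace Cfsg.Agent.Fi24Cent

open Subgroup

/-- If `z` is the only conjugate of itself centralised by a 2-group `T` of elements commuting with an
involution `t` of `C(z)` outside a subgroup of index two of `C(z)`, then `t` lies outside a subgroup
of index two of `G`. -/
theorem exists_index_two {G : Type*} [Group G] [Finite G] {z : G}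
    (H1 : Subgroup (centralizer ({z} : Set G))) (hi : H1.index = 2)
    {t : centralizer ({z} : Set G)} (ht : (t : G) * t = 1) (htn : t ∉ H1)
    (T : Subgroup G) (hT : IsPGroup 2 T) (hTz : T ≤ centralizer ({z} : Set G)) (htT : (t : G) ∈ T)
    (hTt : ∀ x ∈ T, x * (t : G) = t * x)
    (hu : ∀ g : G, (∀ x ∈ T, x * (g * z * g⁻¹) = g * z * g⁻¹ * x) → g * z * g⁻¹ = z) :
    ∃ G0 : Subgroup G, G0.Normal ∧ G0.index = 2 ∧ (t : G) ∉ G0 := by
  set φ := TwoTransfer.sgn H1 hi with hφ
  have hφt : φ ⟨(t : G), hTz htT⟩ ≠ 1 := by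
    rw [hφ, TwoTransfer.sgn_apply_of_notMem H1 hi htn]
    decide
  have h := Fusion.transfer_two_ne_one_of_unique_fixed φ ht T hT hTt htT hTz hφt (fun g hg _ => by
    have h1 : g * z * g⁻¹ = z := hu g fun x hx => by
      have h2 := mem_centralizer_singleton_iff.1 (hg x hx)
      calc x * (g * z * g⁻¹) = g * (g⁻¹ * x * g * z) * g⁻¹ := by group
        _ = g * (z * (g⁻¹ * x * g)) * g⁻¹ := by rw [h2]
        _ = g * z * g⁻¹ * x := by group
    exact mem_centralizer_singleton_iff.2 (mul_inv_eq_iff_eq_mul.1 h1))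
  refine ⟨(MonoidHom.transfer φ).ker, inferInstance, ?_, fun hm => h hm⟩
  have hr : (MonoidHom.transfer φ).range = ⊤ := by
    rw [eq_top_iff]
    rintro a -
    have key : ∀ a : Multiplicative (ZMod 2), a = 1 ∨ a = Multiplicative.ofAdd 1 := by decide
    rcases key a with rfl | rfl
    · exact one_mem _
    · exact ⟨_, (key _).resolve_left h⟩
  rw [Subgroup.index_ker, hr, Subgroup.card_top, Nat.card_eq_fintype_card]
  rfl

end Cfsg.Agent.Fi24Cent
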