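import Cfsg.Agent.Fi24Cent.Defs
import Cfsg.Agent.Fi24Cent.Transfer

/-! Conjugates of `z` centralised by a transvection and its centraliser in `Q`; subgroups of index two. -/

set_option autoImplicit false
set_option maxRecDepth 20000
set_option Elab.async false
set_option synthInstance.maxSize 4096

open Finset Cfsg Cfsg.Agent Cfsg.Agent.LargeFischer

namespace Cfsg.Agent.Fi24Cent

theorem omk_one_two : ∀ p : W4, omk 1 p = p → p = 0 := by decide +kernel

theorem omk_twist : ∀ p : W4, omk 1 p = omk 2 p → p = 0 := by decide +kernel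

theorem omk_all : ∀ q : W4, q ≠ 0 → ∀ p : W4, p = 0 ∨ p = q ∨ p = omk 1 q ∨ p = omk 1 (omk 1 q) := by
  decide +kernel

theorem ind_shift : ∀ a : W4, (∀ p : W4, p ≠ 0 →
    (if a + p = 0 then (0 : ZMod 2) else 1) = (if a = 0 then 0 else 1) + 1) → a = 0 := by decide +kernel

theorem ind_keep : ∀ a : W4, (∀ p : W4, (if a + p = 0 then (0 : ZMod 2) else 1) + (if a = 0 then 0 else 1) =
    if p = 0 then 0 else 1) → a = 0 := by decide +kernel

theorem pair_pick : ∀ a b q : W4, q ≠ 0 → (if a = 0 then (0 : ZMod 2) else 1) + (if b = 0 then 0 else 1) = 1 →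
    (∀ p : W4, (if a + p = 0 then (0 : ZMod 2) else 1) + (if b + p = 0 then 0 else 1) =
      (if q + p = 0 then 0 else 1) + (if p = 0 then 0 else 1)) →
    (a = q ∧ b = 0) ∨ (a = 0 ∧ b = q) := by decide +kernel

theorem single_pair_eq (v : Vec6) :
    v = Pi.single 0 (v 0 + v 1) + Function.update v 0 (v 1) := by
  funext i
  by_cases h : i = 0
  · subst h
    simp [(show ∀ a b : W4, a + b + b = a by decide)]
  · simp [h]

theorem pm_swap_apply (v : Vec6) :
    pm (Equiv.swap 0 1) v = fun i => v (Equiv.swap 0 1 i) := by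
  funext i; simp [pm, Equiv.swap_inv]

theorem swap_fixed {v : Vec6} : pm (Equiv.swap 0 1) v = v ↔ v 0 = v 1 := by
  constructor
  · intro h
    have := congrFun h 1
    simpa [pm_swap_apply] using this
  · intro h
    funext i
    rw [pm_swap_apply]
    by_cases h0 : i = 0
    · subst h0; simp [h]
    by_cases h1 : i = 1
    · subst h1; simp [h]
    show v (Equiv.swap 0 1 i) = v i
    rw [Equiv.swap_apply_of_ne_of_ne h0 h1]

theorem card_swap_fix : 256 ≤ (univ.filter fun v : Vec6 => v 0 = v 1).card := by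
  let f : (Fin 4 → W4) → Vec6 := fun u i =>
    if i = 2 then u 0 else if i = 3 then u 1 else if i = 4 then u 2 else if i = 5 then u 3 else 0
  have hf : Function.Injective f := by
    intro a b h
    funext k
    fin_cases k
    · simpa [f] using congrFun h 2
    · simpa [f] using congrFun h 3
    · simpa [f] using congrFun h 4
    · simpa [f] using congrFun h 5
  calc 256 = (univ : Finset (Fin 4 → W4)).card := by simp
    _ ≤ _ := by
      refine Finset.card_le_card_of_injOn f (fun u _ => ?_) hf.injOn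
      simp [f]

variable {G : Type*} [Group G] [Finite G] {z : G}
  {Q : Subgroup (Subgroup.centralizer ({z} : Set G))} [Q.Normal]

namespace Cent

variable (D : Cent z Q)
include D

theorem mem_Q_of_fixed {h : Subgroup.centralizer ({z} : Set G)} (hh : ∀ v, cact D.F h v = v) : h ∈ Q := by
  rw [← actV_ker D.b, MonoidHom.mem_ker]
  refine MulEquiv.ext fun w => ?_
  obtain ⟨v, rfl⟩ := D.F.bij.2 w
  rw [← co_cact, hh]
  rfl

theorem fixed_of_comm {h : Subgroup.centralizer ({z} : Set G)} {q : Q} {v : Vec6}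
    (hq : (q : ↥Q ⧸ Subgroup.center ↥Q) = D.F.co v)
    (hc : (q : Subgroup.centralizer ({z} : Set G)) * h = h * q) : cact D.F h v = v := by
  refine cact_eq D.F ?_
  rw [← hq, actV_mk]
  congr 1
  refine Subtype.ext ?_
  rw [MulAut.conjNormal_apply, ← hc, mul_inv_cancel_right]

theorem par_perp {h : Subgroup.centralizer ({z} : Set G)} {u c : Vec6} (hc : cact D.F h c = c) :
    par (cact D.F h u + c) = par (u + c) := by
  have h1 := cact_add D.F h u c
  rw [hc] at h1
  rw [← h1, cact_par D.b D.F]

/-- A linear map fixing the part commuting with a transvection is trivial or the transvection. -/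
theorem swap_or_id {h : Subgroup.centralizer ({z} : Set G)} (hl : D.IsLin h)
    (hf : ∀ v : Vec6, v 0 = v 1 → (v 2 = 0 ∨ v 2 = (1, 0)) → cact D.F h v = v) :
    (∀ v, cact D.F h v = v) ∨ ∀ v, cact D.F h v = pm (Equiv.swap 0 1) v := by
  -- the whole fixed space
  have hfix : ∀ v : Vec6, v 0 = v 1 → cact D.F h v = v := by
    intro v hv
    have hdec : v = Function.update v 2 0 + Pi.single 2 (v 2) := by
      funext i
      by_cases hi : i = 2
      · subst hi; simp
      · simp [hi]
    have h1 : cact D.F h (Function.update v 2 0) = Function.update v 2 0 :=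
      hf _ (by simp [hv]) (Or.inl (by simp))
    have hone : cact D.F h (Pi.single (2 : Fin 6) ((1, 0) : W4)) = Pi.single (2 : Fin 6) ((1, 0) : W4) :=
      hf _ (by simp) (Or.inr (by simp))
    have hdg : ∀ p : W4, dg (fun _ => 1) (Pi.single (2 : Fin 6) p) = Pi.single 2 (omk 1 p) := fun p =>
      dg_single D.b _ 2 p
    have h2 : ∀ p : W4, cact D.F h (Pi.single (2 : Fin 6) p) = Pi.single 2 p := by
      intro p
      rcases omk_all (1, 0) (by decide) p with rfl | rfl | rfl | rfl
      · simp [cact_zero D.F h]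
      · exact hone
      · rw [← hdg, hl, hone]
      · rw [← hdg, hl, ← hdg, hl, hone]
    conv_lhs => rw [hdec]
    rw [cact_add, h1, h2, ← hdec]
  -- the first line
  have hline : ∀ q : W4, q ≠ 0 → cact D.F h (Pi.single (0 : Fin 6) q) = Pi.single 0 q ∨
      cact D.F h (Pi.single 0 q) = Pi.single 1 q := by
    intro q hq
    set w := cact D.F h (Pi.single (0 : Fin 6) q) with hw
    have hperp : ∀ c : Vec6, c 0 = c 1 → par (w + c) = par (Pi.single 0 q + c) := fun c hc => by
      rw [hw]; exact D.par_perp (hfix c hc)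
    have hpw : par w = 1 := by
      rw [hw, cact_par D.b D.F]
      rw [par_sum]; simp [Fin.sum_univ_six, hq]
    rw [par_sum] at hpw
    simp only [Fin.sum_univ_six] at hpw
    have hz : ∀ i : Fin 6, i ≠ 0 → i ≠ 1 → w i = 0 := by
      intro i h0 h1
      refine ind_shift _ fun p hp => ?_
      have he := hperp (Pi.single i p) (by simp [Ne.symm h0, Ne.symm h1])
      rw [par_sum, par_sum] at he
      fin_cases i <;> simp [Fin.sum_univ_six, hq, hp] at he h0 h1 ⊢ <;> grind
    have h2 := hz 2 (by decide) (by decide)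
    have h3 := hz 3 (by decide) (by decide)
    have h4 := hz 4 (by decide) (by decide)
    have h5 := hz 5 (by decide) (by decide)
    simp [h2, h3, h4, h5] at hpw
    have hp : ∀ p : W4, (if w 0 + p = 0 then (0 : ZMod 2) else 1) + (if w 1 + p = 0 then 0 else 1) =
        (if q + p = 0 then 0 else 1) + (if p = 0 then 0 else 1) := by
      intro p
      have he := hperp (Pi.single 0 p + Pi.single 1 p) (by simp)
      rw [par_sum, par_sum] at he
      simpa [Fin.sum_univ_six, h2, h3, h4, h5] using he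
    rcases pair_pick _ _ _ hq hpw hp with ⟨ha, hb⟩ | ⟨ha, hb⟩
    · left; funext i; fin_cases i <;> simp [ha, hb, h2, h3, h4, h5]
    · right; funext i; fin_cases i <;> simp [ha, hb, h2, h3, h4, h5]
  -- one choice on the whole line
  have hdg : ∀ (i : Fin 6) (p : W4), dg (fun _ => 1) (Pi.single i p) = Pi.single i (omk 1 p) := fun i p =>
    dg_single D.b _ i p
  have hall : ∀ i : Fin 6, cact D.F h (Pi.single (0 : Fin 6) ((1, 0) : W4)) = Pi.single i (1, 0) →
      ∀ q, cact D.F h (Pi.single (0 : Fin 6) q) = Pi.single i q := by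
    intro i hi q
    rcases omk_all (1, 0) (by decide) q with rfl | rfl | rfl | rfl
    · simp [cact_zero D.F h]
    · exact hi
    · rw [← hdg, hl, hi, hdg]
    · rw [← hdg, hl, ← hdg, hl, hi, hdg, hdg]
  rcases hline (1, 0) (by decide) with e | e
  · left
    intro v
    conv_lhs => rw [single_pair_eq v]
    rw [cact_add, hall 0 e, hfix _ (by simp), ← single_pair_eq]
  · right
    intro v
    conv_lhs => rw [single_pair_eq v]
    rw [cact_add, hall 1 e, hfix _ (by simp), pm_swap_apply]
    funext i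
    fin_cases i <;> simp [Equiv.swap_apply_of_ne_of_ne] <;>
      exact (show ∀ a b : W4, a + b + b = a by decide) _ _

theorem anti_not_fix {h : Subgroup.centralizer ({z} : Set G)} {i : Fin 6} {p : W4} (ha : D.IsAnti h)
    (h1 : cact D.F h (Pi.single i p) = Pi.single i p)
    (h2 : cact D.F h (Pi.single i (omk 1 p)) = Pi.single i (omk 1 p)) : p = 0 := by
  have h := ha (Pi.single i p)
  rw [dg_single D.b, h1, dg_single D.b, h2] at h
  exact omk_twist p (by simpa using congrFun h i)

end Cent

/-- The elements centralised: a transvection and what it centralises in `Q`. -/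
def tranGroup (z : G) (Q : Subgroup (Subgroup.centralizer ({z} : Set G)))
    (t : Subgroup.centralizer ({z} : Set G)) : Subgroup G :=
  ((Q ⊓ Subgroup.centralizer {t}) ⊔ Subgroup.zpowers t).map (Subgroup.centralizer ({z} : Set G)).subtype

theorem tran_isPGroup (D : Cent z Q) {t : Subgroup.centralizer ({z} : Set G)} (ht : t * t = 1) :
    IsPGroup 2 ↥(tranGroup z Q t) := by
  refine IsPGroup.map ?_ _
  refine IsPGroup.to_sup_of_normal_left' (D.b.es.1.1.to_le inf_le_left) ?_ ?_
  · rintro ⟨x, hx⟩
    obtain ⟨k, rfl⟩ := Subgroup.mem_zpowers_iff.1 hx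
    refine ⟨1, Subtype.ext ?_⟩
    simp [pow_one, sq]
    rw [← (Commute.refl t).mul_zpow, ht, one_zpow]
  · rw [Subgroup.zpowers_le]
    refine Subgroup.mem_normalizer_iff.2 fun x => ?_
    have key : ∀ y, y ∈ Q ⊓ Subgroup.centralizer {t} → t * y * t⁻¹ = y := fun y hy => by
      rw [← Subgroup.mem_centralizer_singleton_iff.1 hy.2, mul_inv_cancel_right]
    constructor
    · intro h
      rwa [key x h]
    · intro h
      have h1 := key _ h
      have h2 : t * x * t⁻¹ = x := mul_left_cancel (mul_right_cancel h1)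
      rwa [← h2]

theorem tran_cases {D : Cent z Q} (hn : NoConjA D) (hq : Quot D)
    (hK : ∀ (g : G) (s : Subgroup.centralizer ({z} : Set G)), g * z * g⁻¹ = (s : G) →
      256 ≤ (D.fix s).card → s ∈ D.K)
    {t : Subgroup.centralizer ({z} : Set G)} (htn : t ∉ D.K)
    (htv : ∀ v, cact D.F t v = pm (Equiv.swap 0 1) v)
    (htc : ∀ (q : Q) (v : Vec6), (q : ↥Q ⧸ Subgroup.center ↥Q) = D.F.co v → v 0 = v 1 →
      v 2 = 0 ∨ v 2 = (1, 0) → (q : Subgroup.centralizer ({z} : Set G)) * t = t * q)
    (g : G) (hu : ∀ x ∈ tranGroup z Q t, x * (g * z * g⁻¹) = g * z * g⁻¹ * x) : g * z * g⁻¹ = z := by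
  have hmemT : ∀ x : Subgroup.centralizer ({z} : Set G), x ∈ Q → x * t = t * x →
      (x : G) ∈ tranGroup z Q t := fun x hx hc =>
    ⟨x, Subgroup.mem_sup_left ⟨hx, Subgroup.mem_centralizer_singleton_iff.2 hc⟩, rfl⟩
  have hz : z ∈ tranGroup z Q t := hmemT (zc z) (zc_mem D.b)
    (Subtype.ext (Subgroup.mem_centralizer_singleton_iff.1 t.2).symm)
  have hsH : g * z * g⁻¹ ∈ Subgroup.centralizer ({z} : Set G) :=
    Subgroup.mem_centralizer_singleton_iff.2 (hu z hz).symm
  set s : Subgroup.centralizer ({z} : Set G) := ⟨_, hsH⟩ with hs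
  have hcomm : ∀ (q : Q) (v : Vec6), (q : ↥Q ⧸ Subgroup.center ↥Q) = D.F.co v → v 0 = v 1 →
      v 2 = 0 ∨ v 2 = (1, 0) → (q : Subgroup.centralizer ({z} : Set G)) * s = s * q := fun q v h1 h2 h3 =>
    Subtype.ext (hu _ (hmemT _ q.2 (htc q v h1 h2 h3)))
  have hfix : ∀ v : Vec6, v 0 = v 1 → v 2 = 0 ∨ v 2 = (1, 0) → cact D.F s v = v := fun v h2 h3 =>
    D.fixed_of_comm (mk_lift D.F v) (hcomm _ v (mk_lift D.F v) h2 h3)
  have hlin : D.IsLin s := by
    refine (hq.semi s).resolve_right fun ha => ?_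
    exact absurd (D.anti_not_fix ha (i := 3) (p := (1, 0)) (hfix _ (by simp) (by simp))
      (hfix _ (by simp) (by simp))) (by decide)
  rcases D.swap_or_id hlin hfix with hid | hsw
  · -- inside `Q`
    have hsQ := D.mem_Q_of_fixed hid
    obtain ⟨v, hv⟩ := D.F.bij.2 ((⟨s, hsQ⟩ : Q) : ↥Q ⧸ Subgroup.center ↥Q)
    by_cases hv0 : v = 0
    · rw [hv0, co_zero D.b D.F] at hv
      rcases (center_iff D.b).1 ((QuotientGroup.eq_one_iff _).1 hv.symm) with e | e
      · have h1 : g * z * g⁻¹ = 1 := congrArg (fun q : Q => ((q : Subgroup.centralizer ({z} : Set G)) : G)) e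
        have := D.b.hz
        rw [mul_inv_eq_one, mul_eq_left] at h1
        rw [h1, orderOf_one] at this
        omega
      · exact congrArg Subtype.val e
    exfalso
    have hs2 : (⟨s, hsQ⟩ : Q) * ⟨s, hsQ⟩ = 1 := Subtype.ext (Subtype.ext (by
      show g * z * g⁻¹ * (g * z * g⁻¹) = 1
      rw [LargeExtra.conjm, show z * z = 1 by rw [← sq, ← D.b.hz, pow_orderOf_eq_one]]
      group))
    have hpar : par v = 0 := (sq_iff D.b D.F hv.symm).1 hs2
    -- `s` centralises the part commuting with `t`
    have hperp : ∀ c : Vec6, c 0 = c 1 → (c 2 = 0 ∨ c 2 = (1, 0)) → par (v + c) = par v + par c := by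
      intro c h2 h3
      have h := hcomm _ c (mk_lift D.F c) h2 h3
      have h' : (⟨s, hsQ⟩ : Q) * lift D.F c = lift D.F c * ⟨s, hsQ⟩ := Subtype.ext h.symm
      have hB : B D.F v c = 0 := by
        rw [B_eq D.b D.F hv.symm (mk_lift D.F c), if_pos]
        rw [h']; group
      exact (B_perp D.b D.F v c).1 hB
    have hz' : ∀ i : Fin 6, 3 ≤ (i : ℕ) → v i = 0 := by
      intro i hi
      refine ind_keep _ fun p => ?_
      have he := hperp (Pi.single i p) (by
        have a0 : (0 : Fin 6) ≠ i := fun e => by rw [← e] at hi; simp at hi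
        have a1 : (1 : Fin 6) ≠ i := fun e => by rw [← e] at hi; simp at hi
        simp [a0, a1]) (Or.inl (by
        have a2 : (2 : Fin 6) ≠ i := fun e => by rw [← e] at hi; simp at hi
        simp [a2]))
      rw [par_sum, par_sum, par_sum] at he
      fin_cases i <;> simp [Fin.sum_univ_six] at he hi ⊢ <;> grind
    have h01 : v 0 = v 1 := by
      have h := D.fixed_of_comm (h := t) (q := ⟨s, hsQ⟩) hv.symm
        (Subtype.ext (hu (t : G) ⟨t, Subgroup.mem_sup_right (Subgroup.mem_zpowers t), rfl⟩).symm)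
      rw [htv] at h
      exact swap_fixed.1 h
    have hp := hpar
    rw [par_sum] at hp
    simp [Fin.sum_univ_six, hz' 3 (by decide), hz' 4 (by decide), hz' 5 (by decide), h01] at hp
    have hw2 : v 2 = 0 := by
      by_contra h
      have hkey : ∀ a : ZMod 2, a + a + 1 = 0 → False := by decide
      simp [h] at hp
      exact hkey _ hp
    have h1ne : v 1 ≠ 0 := fun e => hv0 (funext fun i => by
      fin_cases i <;> simp [h01, e, hw2, hz' 3 (by decide), hz' 4 (by decide), hz' 5 (by decide)])
    refine hn g ⟨s, hsQ⟩ v rfl hv.symm hv0 hpar (Or.inl ?_)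
    have hw : wt v = 2 := by
      simp [wt, Fin.sum_univ_six, h01, h1ne, hw2, hz' 3 (by decide), hz' 4 (by decide), hz' 5 (by decide)]
    simp [cls, hw]
  · -- over the transvection
    exfalso
    have hsK : s ∈ D.K := hK g s rfl (card_swap_fix.trans (Finset.card_le_card fun v hv => by
      rw [D.mem_fix, hsw]
      exact swap_fixed.2 (Finset.mem_filter.1 hv).2))
    refine htn ?_
    have h1 : t⁻¹ * s ∈ Q := D.mem_Q_of_fixed fun v => by
      refine cact_inj D.F t ?_
      rw [← cact_mul, mul_inv_cancel_left, hsw, htv]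
    have h2 : t = s * (t⁻¹ * s)⁻¹ := by group
    rw [h2]
    exact D.K.mul_mem hsK (D.K.inv_mem (D.le h1))

/-- A subgroup of index two avoiding the linear elements outside `K`. -/
theorem exists_half {D : Cent z Q} (hn : NoConjA D) (hq : Quot D)
    (hK : ∀ (g : G) (s : Subgroup.centralizer ({z} : Set G)), g * z * g⁻¹ = (s : G) →
      256 ≤ (D.fix s).card → s ∈ D.K)
    (hL : ∃ h, D.IsLin h ∧ h ∉ D.K) :
    ∃ G0 : Subgroup G, G0.Normal ∧ G0.index = 2 ∧
      ∃ t : Subgroup.centralizer ({z} : Set G), D.IsLin t ∧ t ∉ D.K ∧ (t : G) ∉ G0 := by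
  obtain ⟨t, ht, htl, htn, htv, htc⟩ := hq.transvection hL
  obtain ⟨H1, hH1⟩ := Finite.exists_le_maximal (p := fun H1 : Subgroup (Subgroup.centralizer ({z} : Set G)) =>
    D.K ≤ H1 ∧ t ∉ H1) (a := D.K) ⟨le_rfl, htn⟩
  obtain ⟨hKH, htH⟩ := hH1.2.prop
  have hnorm : ∀ x h, h ∈ H1 → x * h * x⁻¹ ∈ H1 := by
    intro x h hh
    have h1 : x * h * x⁻¹ = x * x * ((x⁻¹ * h) * (x⁻¹ * h)) * h⁻¹ := by group
    rw [h1]
    exact H1.mul_mem (hKH (D.K.mul_mem (hq.sq _) (hq.sq _))) (H1.inv_mem hh)
  have hi : H1.index = 2 := by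
    rw [Subgroup.index_eq_two_iff]
    refine ⟨t, fun b => ?_⟩
    by_cases hb : b ∈ H1
    · exact Or.inr ⟨hb, fun h => htH ((H1.mul_mem_cancel_left hb).1 h)⟩
    refine Or.inl ⟨?_, hb⟩
    let H2 : Subgroup (Subgroup.centralizer ({z} : Set G)) :=
      { carrier := {y | y ∈ H1 ∨ b * y ∈ H1}
        one_mem' := Or.inl H1.one_mem
        inv_mem' := by
          intro y hy
          rcases hy with h | h
          · exact Or.inl (H1.inv_mem h)
          · right
            have h1 : b * y⁻¹ = b * ((b * y)⁻¹) * b⁻¹ * (b * b) := by group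
            rw [h1]
            exact H1.mul_mem (hnorm b _ (H1.inv_mem h)) (hKH (hq.sq b))
        mul_mem' := by
          intro a c ha hc
          rcases ha with ha | ha <;> rcases hc with hc | hc
          · exact Or.inl (H1.mul_mem ha hc)
          · right
            rw [show b * (a * c) = b * a * b⁻¹ * (b * c) by group]
            exact H1.mul_mem (hnorm b a ha) hc
          · right
            rw [← mul_assoc]
            exact H1.mul_mem ha hc
          · left
            rw [show a * c = b⁻¹ * (b * a) * b⁻¹⁻¹ * (b * b)⁻¹ * (b * c) by group]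
            exact H1.mul_mem (H1.mul_mem (hnorm b⁻¹ _ ha) (H1.inv_mem (hKH (hq.sq b)))) hc }
    by_contra hbt
    have htH2 : t ∉ H2 := fun h => h.elim htH hbt
    have hle : H1 ≤ H2 := fun y hy => Or.inl hy
    have hb2 : b ∈ H2 := Or.inr (hKH (hq.sq b))
    exact hb (hH1.2.2 ⟨hKH.trans hle, htH2⟩ hle hb2)
  have hT : tranGroup z Q t ≤ Subgroup.centralizer ({z} : Set G) := Subgroup.map_subtype_le _
  obtain ⟨G0, hG0n, hG0i, hG0t⟩ := exists_index_two H1 hi (congrArg Subtype.val ht) htH (tranGroup z Q t)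
    (tran_isPGroup D ht) hT ⟨t, Subgroup.mem_sup_right (Subgroup.mem_zpowers t), rfl⟩
    (by
      rintro _ ⟨x, hx, rfl⟩
      have hle : (Q ⊓ Subgroup.centralizer {t}) ⊔ Subgroup.zpowers t ≤ Subgroup.centralizer {t} :=
        sup_le inf_le_right (Subgroup.zpowers_le.2 (Subgroup.mem_centralizer_singleton_iff.2 rfl))
      exact congrArg Subtype.val (Subgroup.mem_centralizer_singleton_iff.1 (hle hx)))
    (fun g hu => tran_cases hn hq hK htn htv htc g hu)
  exact ⟨G0, hG0n, hG0i, t, htl, htn, hG0t⟩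

end Cfsg.Agent.Fi24Cent
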