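import Cfsg.Agent.Fi24Cent.Defs
import Cfsg.Agent.LargeFischer.Semi

/-!
Elementary properties of the data of the centraliser.
-/

set_option autoImplicit false
set_option maxRecDepth 20000
set_option Elab.async false

open Finset Cfsg Cfsg.Agent Cfsg.Agent.LargeFischer

namespace Cfsg.Agent.Fi24Cent

section
variable {G : Type*} [Group G] [Finite G] {z : G}
  {Q : Subgroup (Subgroup.centralizer ({z} : Set G))} [Q.Normal]
  {M : Subgroup (Subgroup.centralizer ({z} : Set G))} (b : Basic z Q) (F : Frame6 (actV Q) M)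
include b

/-- The two orbits of a normal subgroup are invariant under the whole centraliser. -/
theorem inA_orb [M.Normal] {c : ZMod 3}
    (hc : ∀ v : Vec6, v ≠ 0 → par v = 0 → ∀ w : Vec6,
      w ∈ orb F v ↔ (w ≠ 0 ∧ par w = 0 ∧ (InA c w ↔ InA c v)))
    (h : Subgroup.centralizer ({z} : Set G)) {v : Vec6} (hv : v ≠ 0) (hp : par v = 0) : InA c (cact F h v) ↔ InA c v := by
  classical
  have hv' : cact F h v ≠ 0 := fun e => hv (cact_inj F h (e.trans (cact_zero F h).symm))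
  have hp' : par (cact F h v) = 0 := by rw [cact_par b F, hp]
  have himg : (orb F v).image (cact F h) = orb F (cact F h v) := by
    ext w
    simp only [mem_image, mem_orb]
    constructor
    · rintro ⟨x, ⟨m, hm, rfl⟩, rfl⟩
      exact ⟨h * m * h⁻¹, Subgroup.Normal.conj_mem inferInstance _ hm _,
        by rw [← cact_mul, ← cact_mul, inv_mul_cancel_right]⟩
    · rintro ⟨m, hm, rfl⟩
      refine ⟨_, ⟨h⁻¹ * m * h⁻¹⁻¹, Subgroup.Normal.conj_mem inferInstance _ hm _, rfl⟩, ?_⟩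
      rw [← cact_mul, ← cact_mul]
      congr 1
      group
  have hcard := congrArg Finset.card himg
  rw [card_image_of_injective _ (cact_inj F h)] at hcard
  have hval : ∀ u, u ≠ 0 → par u = 0 → (orb F u).card = if InA c u then 378 else 1701 := by
    intro u hu hpu
    obtain ⟨e1, e2⟩ := card_halves b c
    split_ifs with hA
    · rw [← e1]; congr 1; ext w; simp [hc u hu hpu, hA]
    · rw [← e2]; congr 1; ext w; simp [hc u hu hpu, hA]
  rw [hval v hv hp, hval _ hv' hp'] at hcard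
  by_cases hA : InA c v <;> by_cases hA' : InA c (cact F h v) <;> simp_all

end

namespace Cent

variable {G : Type*} [Group G] [Finite G] {z : G}
  {Q : Subgroup (Subgroup.centralizer ({z} : Set G))} [Q.Normal] (D : Cent z Q)
include D

theorem card_K : Nat.card ↥D.K = 2 ^ 13 * 9797760 := by
  have h3 : ((actV Q).comp D.K.subtype).ker = Q.subgroupOf D.K := by
    rw [← MonoidHom.comap_ker, actV_ker D.b]; rfl
  have h := (Q.subgroupOf D.K).card_mul_index
  rw [Nat.card_congr (Subgroup.subgroupOfEquivOfLe D.le).toEquiv, ← h3, Subgroup.index_ker,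
    MonoidHom.range_comp, Subgroup.range_subtype, D.b.card, D.cardK] at h
  exact h.symm

theorem cact_Q {q : Subgroup.centralizer ({z} : Set G)} (hq : q ∈ Q) (c : Vec6) : cact D.F q c = c :=
  cact_eq D.F (by rw [show actV Q q = 1 from MonoidHom.mem_ker.1 (by rw [actV_ker D.b]; exact hq)]; rfl)

theorem mem_Q_of_act {h : Subgroup.centralizer ({z} : Set G)} (hh : ∀ c, cact D.F h c = c) : h ∈ Q := by
  refine (actV_ker D.b).le (MonoidHom.mem_ker.2 (MulEquiv.ext fun x => ?_))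
  obtain ⟨c, rfl⟩ := D.F.bij.2 x
  rw [← co_cact, hh]
  rfl

/-- Elements with the action of an element of `K` lie in `K`. -/
theorem mem_K_of_act {h k : Subgroup.centralizer ({z} : Set G)} (hk : k ∈ D.K)
    (hh : ∀ c, cact D.F h c = cact D.F k c) : h ∈ D.K := by
  have : k⁻¹ * h ∈ Q := D.mem_Q_of_act fun c => by
    rw [cact_mul, hh, ← cact_mul, inv_mul_cancel, cact_one]
  rw [show h = k * (k⁻¹ * h) by group]
  exact D.K.mul_mem hk (D.le this)

theorem lin_K {m : Subgroup.centralizer ({z} : Set G)} (hm : m ∈ D.K) : D.IsLin m := fun c =>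
  cact_eq D.F (D.F.lin m hm c _ (co_cact D.F m c).symm)

/-- An element of order three of `K` acting as the scalar. -/
theorem exists_scalar : ∃ x ∈ D.K, x * x * x = 1 ∧ ∀ c, cact D.F x c = sm 1 c := by
  obtain ⟨x0, hx0, hh⟩ := D.F.diag (fun _ => 1) (by simp; rfl)
  have h0 : ∀ c, cact D.F x0 c = sm 1 c := fun c => cact_eq D.F (hh c)
  have h3 : x0 ^ 3 ∈ Q := D.mem_Q_of_act fun c => by
    rw [pow_succ, sq, cact_mul, cact_mul, h0, h0, h0, sm_sm, sm_sm,
      show (1 : ZMod 3) + 1 + 1 = 0 from rfl, sm_zero]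
  refine ⟨x0 ^ (2 ^ 14), D.K.pow_mem hx0 _, ?_, fun c => ?_⟩
  · have h2 := pow_card_eq_one' (G := ↥Q) (x := ⟨x0 ^ 3, h3⟩)
    rw [D.b.card] at h2
    have h2' := congrArg Subtype.val h2
    simp only [SubmonoidClass.coe_pow, OneMemClass.coe_one] at h2'
    rw [← pow_add, ← pow_add, show 2 ^ 14 + 2 ^ 14 + 2 ^ 14 = 3 * 2 ^ 13 * 2 by norm_num, pow_mul,
      pow_mul, h2', one_pow]
  · rw [show (2 : ℕ) ^ 14 = 3 * 5461 + 1 by norm_num, pow_succ, cact_mul, h0, pow_mul,
      D.cact_Q (Q.pow_mem h3 _)]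

/-- The two orbits of `K` are invariant under the whole centraliser. -/
theorem inA_cact (h : Subgroup.centralizer ({z} : Set G)) {v : Vec6} (hv : v ≠ 0) (hp : par v = 0) :
    InA D.c (LargeFischer.cact D.F h v) ↔ InA D.c v :=
  haveI := D.norm
  inA_orb D.b D.F D.orb_iff h hv hp

theorem mover {x : Q} (hx : x ∉ Subgroup.center ↥Q) :
    ∃ q : Q, q * x * q⁻¹ = ⟨zc z, zc_mem D.b⟩ * x := by
  obtain ⟨y, hy⟩ : ∃ y : Q, y * x * y⁻¹ * x⁻¹ ≠ 1 := by
    by_contra h
    push Not at h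
    exact hx (Subgroup.mem_center_iff.2 fun y => commutatorElement_eq_one_iff_mul_comm.1 (h y))
  refine ⟨y, ?_⟩
  rcases (center_iff D.b).1 (comm_mem D.b y x) with h | h
  · exact absurd h hy
  · rw [← mul_inv_eq_iff_eq_mul]
    exact Subtype.ext h

/-- elements of `Q` in one class are conjugate -/
theorem class_conj {x y : Q} (hx : x ∉ Subgroup.center ↥Q)
    (h : (x : ↥Q ⧸ Subgroup.center ↥Q) = y) : ∃ q : Q, q * x * q⁻¹ = y := by
  rcases (center_iff D.b).1 (QuotientGroup.eq.1 h) with e | e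
  · exact ⟨1, by rw [inv_mul_eq_one] at e; simp [e]⟩
  · obtain ⟨q, hq⟩ := D.mover hx
    refine ⟨q, ?_⟩
    rw [hq]
    have e' : x⁻¹ * y = ⟨zc z, zc_mem D.b⟩ := Subtype.ext e
    rw [inv_mul_eq_iff_eq_mul] at e'
    rw [e']
    exact (Subgroup.mem_center_iff.1 ((center_iff D.b).2 (Or.inr rfl)) x).symm

theorem notMem_center {x : Q} {v : Vec6} (h : (x : ↥Q ⧸ Subgroup.center ↥Q) = D.F.co v) (hv : v ≠ 0) :
    x ∉ Subgroup.center ↥Q := fun hx => hv (D.F.bij.1 (by
  rw [← h, co_zero D.b D.F]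
  exact (QuotientGroup.eq_one_iff _).2 hx))

theorem orbit_conj {v w : Vec6} (h : w ∈ orb D.F v) (hw : w ≠ 0) {x y : Q}
    (hx : (x : ↥Q ⧸ Subgroup.center ↥Q) = D.F.co v) (hy : (y : ↥Q ⧸ Subgroup.center ↥Q) = D.F.co w) :
    ∃ g : Subgroup.centralizer ({z} : Set G), g * (x : Subgroup.centralizer ({z} : Set G)) * g⁻¹ = y := by
  obtain ⟨m, -, hm⟩ := (mem_orb D.F).1 h
  have h1 : ((MulAut.conjNormal m x : Q) : ↥Q ⧸ Subgroup.center ↥Q) = D.F.co w := by
    rw [← actV_mk, hx, ← co_cact, hm]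
  obtain ⟨q, hq⟩ := D.class_conj (D.notMem_center h1 hw) (h1.trans hy.symm)
  refine ⟨q * m, ?_⟩
  have := congrArg Subtype.val hq
  simp only [Subgroup.coe_mul, Subgroup.coe_inv, MulAut.conjNormal_apply] at this
  rw [← this]
  group

theorem mem_class {x : Subgroup.centralizer ({z} : Set G)} (hxQ : x ∈ Q) (h2 : (x : G) * x = 1)
    (h1 : (x : G) ≠ 1) (hz : (x : G) ≠ z) :
    ∃ v, v ≠ 0 ∧ par v = 0 ∧ ((⟨x, hxQ⟩ : Q) : ↥Q ⧸ Subgroup.center ↥Q) = D.F.co v := by
  obtain ⟨v, hv⟩ := D.F.bij.2 ((⟨x, hxQ⟩ : Q) : ↥Q ⧸ Subgroup.center ↥Q)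
  refine ⟨v, fun e => ?_, (sq_iff D.b D.F hv.symm).1 (Subtype.ext (Subtype.ext h2)), hv.symm⟩
  rw [e, co_zero D.b D.F] at hv
  rcases (center_iff D.b).1 ((QuotientGroup.eq_one_iff _).1 hv.symm) with h | h
  · exact h1 (congrArg (fun q : Q => ((q : Subgroup.centralizer ({z} : Set G)) : G)) h)
  · exact hz (congrArg Subtype.val h)

theorem oc_eq : LargeExtra.oc z = Q.map (Subgroup.centralizer ({z} : Set G)).subtype := by
  rw [LargeExtra.oc]
  congr 1
  refine le_antisymm ?_ (Core.le_pCore D.b.es.1.1)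
  calc pCore 2 _ ≤ fittingSubgroup _ := Core.pCore_le_fittingSubgroup 2
    _ ≤ generalizedFittingSubgroup _ := Layer.fitting_le_generalizedFitting
    _ = Q := D.b.fstar

theorem setting : LargeExtra.Setting z := by
  refine ⟨D.b.hz, ?_, fun c hc => ?_⟩
  · rw [D.oc_eq]
    exact LargeExtra.extraspecial_congr (Q.equivMapOfInjective _ (Subgroup.subtype_injective _)) D.b.es
  · rw [D.oc_eq] at hc ⊢
    have hcC : c ∈ Subgroup.centralizer ({z} : Set G) := Subgroup.mem_centralizer_singleton_iff.2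
      (Subgroup.mem_centralizer_iff.1 hc z ⟨zc z, zc_mem D.b, rfl⟩).symm
    exact ⟨⟨c, hcC⟩, cent_le D.b fun q hq =>
      Subtype.ext (Subgroup.mem_centralizer_iff.1 hc _ ⟨q, hq, rfl⟩).symm, rfl⟩

/-- `O₂(C(z))` in `G` -/
theorem mem_oc_iff {x : G} : x ∈ LargeExtra.oc z ↔ ∃ q : Q, ((q : Subgroup.centralizer ({z} : Set G)) : G) = x := by
  rw [D.oc_eq, Subgroup.mem_map]
  exact ⟨fun ⟨a, ha, e⟩ => ⟨⟨a, ha⟩, e⟩, fun ⟨q, e⟩ => ⟨q, q.2, e⟩⟩

theorem lin_mul {a b : Subgroup.centralizer ({z} : Set G)} (ha : D.IsLin a) (hb : D.IsLin b) :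
    D.IsLin (a * b) := fun v => by rw [cact_mul, cact_mul, hb, ha]

theorem lin_inv {h : Subgroup.centralizer ({z} : Set G)} (hh : D.IsLin h) (v : Vec6) :
    cact D.F h⁻¹ (sm 1 v) = sm 1 (cact D.F h⁻¹ v) := by
  refine cact_inj D.F h ?_
  rw [← cact_mul, mul_inv_cancel, cact_one,
    show cact D.F h (sm 1 (cact D.F h⁻¹ v)) = sm 1 (cact D.F h (cact D.F h⁻¹ v)) from hh _,
    ← cact_mul, mul_inv_cancel, cact_one]

section
variable {x : Subgroup.centralizer ({z} : Set G)} (hx3 : x * x * x = 1) (hx : ∀ c, cact D.F x c = sm 1 c)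

include hx in
theorem comm_Q {q : Q} (hc : (q : Subgroup.centralizer ({z} : Set G)) * x = x * q) :
    q = 1 ∨ (q : Subgroup.centralizer ({z} : Set G)) = zc z := by
  obtain ⟨a, ha⟩ := D.F.bij.2 (q : ↥Q ⧸ Subgroup.center ↥Q)
  have h1 : MulAut.conjNormal x q = q := Subtype.ext (by
    rw [MulAut.conjNormal_apply]; exact mul_inv_eq_iff_eq_mul.2 hc.symm)
  have h2 : sm 1 a = a := by
    rw [← hx]; exact cact_eq D.F (by rw [ha, actV_mk, h1])
  have : a = 0 := by
    by_contra h0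
    exact sm_ne h0 h2
  refine (center_iff D.b).1 ((QuotientGroup.eq_one_iff _).1 ?_)
  rw [← ha, this, co_zero D.b D.F]

theorem zc_comm (c : Subgroup.centralizer ({z} : Set G)) : c * zc z = zc z * c :=
  Subtype.ext (Subgroup.mem_centralizer_singleton_iff.1 c.2)

include hx hx3 in
theorem lift_comm {h : Subgroup.centralizer ({z} : Set G)} (hh : D.IsLin h) :
    ∃ q : Q, ((q : Subgroup.centralizer ({z} : Set G)) * h) * x = x * ((q : Subgroup.centralizer ({z} : Set G)) * h) := by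
  have hr : h * x * h⁻¹ * x⁻¹ ∈ Q := D.mem_Q_of_act fun c => by
    have hxi : ∀ c, cact D.F x⁻¹ c = sm 2 c := fun c => by
      refine cact_inj D.F x ?_
      rw [← cact_mul, mul_inv_cancel, cact_one, hx, sm_sm, show (1 : ZMod 3) + 2 = 0 from rfl, sm_zero]
    rw [cact_mul, cact_mul, cact_mul, hxi, hx, ← D.lin_inv hh, ← cact_mul,
      mul_inv_cancel, cact_one, sm_sm, show (1 : ZMod 3) + 2 = 0 from rfl, sm_zero]
  obtain ⟨b, hb⟩ := D.F.bij.2 ((⟨_, hr⟩ : Q) : ↥Q ⧸ Subgroup.center ↥Q)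
  set q := lift D.F (sm 1 b) with hq
  set r' : Q := q * (MulAut.conjNormal x q)⁻¹ with hr'
  have e1 : (r' : ↥Q ⧸ Subgroup.center ↥Q) = D.F.co b := by
    have h1 : ((MulAut.conjNormal x q : Q) : ↥Q ⧸ Subgroup.center ↥Q) = D.F.co (sm 2 b) := by
      rw [← actV_mk, mk_lift, ← co_cact, hx, sm_sm]; rfl
    have hinv : (D.F.co (sm 2 b))⁻¹ = D.F.co (sm 2 b) := inv_eq_of_mul_eq_one_right (by
      rw [← D.F.map_add, show sm 2 b + sm 2 b = 0 from funext fun i => (show ∀ p : W4, p + p = 0 by decide) _,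
        co_zero D.b D.F])
    rw [hr', QuotientGroup.mk_mul, QuotientGroup.mk_inv, h1, hq, mk_lift, hinv, ← D.F.map_add]
    congr 1
    funext i
    exact (show ∀ p : W4, omk 1 p + omk 2 p = p by decide) _
  obtain ⟨u, hu, hru⟩ : ∃ u ∈ Subgroup.center ↥Q, (⟨_, hr⟩ : Q) = r' * u :=
    ⟨r'⁻¹ * ⟨_, hr⟩, QuotientGroup.eq.1 (e1.trans hb), by group⟩
  set qx := (q : Subgroup.centralizer ({z} : Set G)) * x * (q : Subgroup.centralizer ({z} : Set G))⁻¹ with hqx
  have hr'x : (r' : Subgroup.centralizer ({z} : Set G)) * x = qx := by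
    simp only [hr', Subgroup.coe_mul, Subgroup.coe_inv, MulAut.conjNormal_apply, hqx]
    group
  have hconj : h * x * h⁻¹ = (u : Subgroup.centralizer ({z} : Set G)) * qx := by
    have h1 := congrArg Subtype.val hru
    simp only [Subgroup.coe_mul] at h1
    have hcen : (r' : Subgroup.centralizer ({z} : Set G)) * (u : Subgroup.centralizer ({z} : Set G)) =
        (u : Subgroup.centralizer ({z} : Set G)) * r' := congrArg Subtype.val (Subgroup.mem_center_iff.1 hu r')
    rw [← hr'x, ← mul_assoc, ← hcen, ← h1]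
    group
  have hu1 : u = 1 := by
    rcases (center_iff D.b).1 hu with e | e
    · exact e
    exfalso
    rw [e] at hconj
    have hc := D.zc_comm qx
    have h3 : (h * x * h⁻¹) * (h * x * h⁻¹) * (h * x * h⁻¹) = 1 := by
      rw [show h * x * h⁻¹ * (h * x * h⁻¹) * (h * x * h⁻¹) = h * (x * x * x) * h⁻¹ by group, hx3]; group
    have h4 : qx * qx * qx = 1 := by
      rw [hqx]
      calc _ = (q : Subgroup.centralizer ({z} : Set G)) * (x * x * x) * (q : Subgroup.centralizer ({z} : Set G))⁻¹ := by group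
        _ = 1 := by rw [hx3]; group
    rw [hconj] at h3
    refine zc_ne_one D.b ?_
    calc zc z = zc z * zc z * zc z * (qx * qx * qx) := by rw [zc_sq D.b, one_mul, h4, mul_one]
      _ = zc z * qx * (zc z * qx) * (zc z * qx) := by
        have hC : Commute (zc z) qx := hc.symm
        simp only [mul_assoc]
        congr 1
        rw [← mul_assoc qx (zc z), ← hC.eq, mul_assoc (zc z) qx]
        congr 1
        rw [← mul_assoc qx qx (zc z * qx)] at *
        simp only [← mul_assoc]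
        rw [show qx * qx * zc z = zc z * qx * qx by
          rw [mul_assoc, ← hC.eq, ← mul_assoc, ← hC.eq]]
      _ = 1 := h3
  rw [hu1, OneMemClass.coe_one, one_mul] at hconj
  refine ⟨q⁻¹, ?_⟩
  rw [Subgroup.coe_inv]
  have : h * x = qx * h := mul_inv_eq_iff_eq_mul.1 hconj
  calc (q : Subgroup.centralizer ({z} : Set G))⁻¹ * h * x
      = (q : Subgroup.centralizer ({z} : Set G))⁻¹ * (qx * h) := by rw [mul_assoc, this]
    _ = x * ((q : Subgroup.centralizer ({z} : Set G))⁻¹ * h) := by rw [hqx]; group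

end

theorem inA_conj {x y : Q} {v w : Vec6} (hx : (x : ↥Q ⧸ Subgroup.center ↥Q) = D.F.co v)
    (hy : (y : ↥Q ⧸ Subgroup.center ↥Q) = D.F.co w) (hv : v ≠ 0) (hp : par v = 0)
    {g : Subgroup.centralizer ({z} : Set G)}
    (hg : g * (x : Subgroup.centralizer ({z} : Set G)) * g⁻¹ = y) : InA D.c w ↔ InA D.c v := by
  have h1 : MulAut.conjNormal g x = y := Subtype.ext hg
  have h2 : LargeFischer.cact D.F g v = w := cact_eq D.F (by rw [← hx, actV_mk, h1, hy])
  rw [← h2]
  exact D.inA_cact g hv hp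

end Cent

end Cfsg.Agent.Fi24Cent
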